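import Cfsg.Agent.SuzInvol.Group
import Cfsg.Agent.SuzRecog.InvolFacts
import Cfsg.Agent.SuzRecog.Cent
import Cfsg.Agent.SuzFacts.Seven

/-!
The facts about the second class of involutions.
-/

set_option autoImplicit false
set_option maxRecDepth 100000

namespace Cfsg.Agent.SuzInvol

open Cfsg Cfsg.Agent.Compute Cfsg.Agent.StemCert Cfsg.Agent.OutTab Subgroup

/-- Membership in the four-group. -/
def InV (x : Spor.Suz) : Prop := x = 1 ∨ x = uE ∨ x = vE ∨ x = uE * vE

theorem eW_lt (e : ℕ) : ∀ l ∈ eW e, l < Data.k := by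
  rcases e with _ | _ | _ | _ | e
  · simp [eW]
  · exact lt_one (by norm_num)
  · exact lt_one (by norm_num)
  · exact lt_two (by norm_num) (by norm_num)
  · simp [eW]

theorem eval_eW : evalW gen2 (eW 0) = 1 ∧ evalW gen2 (eW 1) = uE ∧ evalW gen2 (eW 2) = vE ∧
    evalW gen2 (eW 3) = uE * vE :=
  ⟨rfl, ev_one 0, ev_one 1, ev_two 0 1⟩

theorem inV_eW (e : ℕ) : InV (evalW gen2 (eW e)) := by
  rcases e with _ | _ | _ | _ | e
  · exact Or.inl rfl
  · exact Or.inr (Or.inl (ev_one 0))
  · exact Or.inr (Or.inr (Or.inl (ev_one 1)))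
  · exact Or.inr (Or.inr (Or.inr (ev_two 0 1)))
  · exact Or.inl rfl

theorem inVB_iff {x : List ℕ} (hx : ∀ l ∈ x, l < Data.k) : inVB x = true ↔ InV (evalW gen2 x) := by
  obtain ⟨h0, h1, h2, h3⟩ := eval_eW
  simp only [inVB, Bool.or_eq_true]
  constructor
  · rintro (((h | h) | h) | h) <;> rw [eq_of_eqW hx (eW_lt _) h] <;> apply inV_eW
  · rintro (h | h | h | h)
    · exact Or.inl (Or.inl (Or.inl (eqW_of_eq hx (eW_lt _) (h.trans h0.symm))))
    · exact Or.inl (Or.inl (Or.inr (eqW_of_eq hx (eW_lt _) (h.trans h1.symm))))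
    · exact Or.inl (Or.inr (eqW_of_eq hx (eW_lt _) (h.trans h2.symm)))
    · exact Or.inr (eqW_of_eq hx (eW_lt _) (h.trans h3.symm))

theorem InV.sq {x : Spor.Suz} (h : InV x) : x * x = 1 := by
  rcases h with rfl | rfl | rfl | rfl
  · exact one_mul 1
  · exact uu
  · exact vv
  · calc uE * vE * (uE * vE) = uE * (vE * uE) * vE := by group
      _ = uE * (uE * vE) * vE := by rw [uv]
      _ = uE * uE * (vE * vE) := by group
      _ = 1 := by rw [uu, vv, one_mul]

theorem conj_v_cases {g : Spor.Suz} (hg : g * uE = uE * g) :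
    g * vE * g⁻¹ = vE ∨ g * vE * g⁻¹ = uE * vE := by
  obtain ⟨w, hw, rfl⟩ := exists_hWord hg
  refine hw.conj_v.imp (fun e => ?_) fun e => ?_
  · rw [e, mul_inv_cancel_right]
  · rw [e, ← mul_assoc, mul_inv_cancel_right]

theorem InV.conj {x g : Spor.Suz} (h : InV x) (hg : g * uE = uE * g) : InV (g * x * g⁻¹) := by
  have hu : g * uE * g⁻¹ = uE := by rw [hg, mul_inv_cancel_right]
  rcases h with rfl | rfl | rfl | rfl
  · exact Or.inl (by group)
  · exact Or.inr (Or.inl hu)
  · exact (conj_v_cases hg).elim (fun e => Or.inr (Or.inr (Or.inl e))) fun e => Or.inr (Or.inr (Or.inr e))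
  · rw [← conj_mul, hu]
    rcases conj_v_cases hg with e | e <;> rw [e]
    · exact Or.inr (Or.inr (Or.inr rfl))
    · exact Or.inr (Or.inr (Or.inl (by rw [← mul_assoc, uu, one_mul])))

theorem lt_t {i : ℕ} (hi : i < 315) : ∀ l ∈ Data.tWords.get [] i, l < Data.k := by
  have h := allBelow_eq_true.mp orbit_ok.1 i hi
  simp only [tB, forceL_eq, Bool.and_eq_true] at h
  exact lt_small h.1.1.1.2

/-- The conjugates of `sE` in the centraliser. -/
noncomputable def tE (i : ℕ) : Spor.Suz := evalW gen2 (Data.tWords.get [] i)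

/-- The conjugating elements. -/
noncomputable def cE (i : ℕ) : Spor.Suz := evalW gen2 (Data.tConj.get [] i)

theorem t_spec {i : ℕ} (hi : i < 315) :
    cE i * uE = uE * cE i ∧ cE i * sE * (cE i)⁻¹ = tE i ∧ tE i * vE = vE * tE i := by
  have h := allBelow_eq_true.mp orbit_ok.1 i hi
  simp only [tB, forceL_eq, Bool.and_eq_true] at h
  obtain ⟨⟨⟨⟨hc, ht⟩, he⟩, hv⟩, -⟩ := h
  refine ⟨(hWord_of_B hc).comm, ?_, ?_⟩
  · have := eq_of_eqW (lt_app (lt_t hi) (hWord_of_B hc).lt) (lt_app (hWord_of_B hc).lt (lt_one (by norm_num))) he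
    rw [evalW_append, evalW_append, ev_one] at this
    rw [mul_inv_eq_iff_eq_mul]
    exact this.symm
  · have := eq_of_eqW (lt_app (lt_t hi) (lt_one (by norm_num))) (b := 1 :: Data.tWords.get [] i)
      (lt_app (a := [1]) (lt_one (by norm_num)) (lt_t hi)) hv
    rw [evalW_append, ev_one, evalW_cons] at this
    exact this

theorem isConj_t {i : ℕ} (hi : i < 315) : IsConj sE (tE i) := isConj_iff.mpr ⟨_, (t_spec hi).2.1⟩

theorem t_comm {i : ℕ} (hi : i < 315) : tE i * uE = uE * tE i := by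
  obtain ⟨hc, he, -⟩ := t_spec hi
  rw [← he]
  exact ((Commute.mul_left hc (comm_gen (by norm_num) (by norm_num) small_ok.2.2.2.2.2.2.2.2.1)).mul_left
    (Commute.inv_left hc)).eq

theorem word_orbit : ∀ {w : List ℕ}, HWord w →
    ∃ i < 315, evalW gen2 w * sE = tE i * evalW gen2 w
  | [], _ => ⟨Data.selfIdx, orbit_ok.2.2.1, by
      rw [show evalW gen2 [] = 1 from rfl, one_mul, mul_one, tE,
        eq_of_eqW (lt_t orbit_ok.2.2.1) (lt_one (by norm_num)) orbit_ok.2.2.2.1, ev_one]
      rfl⟩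
  | l :: w, h => by
    obtain ⟨i, hi, he⟩ := word_orbit fun m hm => h m (List.mem_cons_of_mem _ hm)
    obtain ⟨h3, h7⟩ := h l (by simp)
    have hc := allBelow_eq_true.mp orbit_ok.2.1 ((l - 3) * 315 + i) (by omega)
    simp only [closB, forceN_eq, Bool.and_eq_true, Nat.blt_eq] at hc
    rw [show Nat.add 3 (Nat.div ((l - 3) * 315 + i) 315) = l by
        show 3 + ((l - 3) * 315 + i) / 315 = l
        omega,
      show Nat.mod ((l - 3) * 315 + i) 315 = i by
        show ((l - 3) * 315 + i) % 315 = i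
        omega] at hc
    obtain ⟨hj, hje⟩ := hc
    refine ⟨_, hj, ?_⟩
    have e := eq_of_eqW (lt_app (a := [l]) (lt_one h7) (lt_t hi)) (lt_app (lt_t hj) (lt_one h7)) hje
    rw [evalW_append, ev_one, evalW_append, ev_one] at e
    rw [evalW_cons, mul_assoc, he, ← mul_assoc]
    show gen2 l * evalW gen2 (Data.tWords.get [] i) * evalW gen2 w = _
    rw [e, mul_assoc]
    rfl

theorem orbit {g : Spor.Suz} (hg : g * uE = uE * g) : ∃ i < 315, g * sE * g⁻¹ = tE i := by
  obtain ⟨w, hw, rfl⟩ := exists_hWord hg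
  obtain ⟨i, hi, he⟩ := word_orbit hw
  exact ⟨i, hi, by rw [he, mul_inv_cancel_right]⟩

/-- The packed images of points. -/
noncomputable def keyL (pts : List ℕ) (g : Spor.Suz) : ℕ :=
  pts.foldr (fun p r => (if h : p < 1782 then (SuzOut.ι g ⟨p, h⟩ : ℕ) else 0) + 2048 * r) 0

theorem keyW_eq {w : List ℕ} (hw : ∀ l ∈ w, l < Data.k) : keyW w = keyL Data.base (evalW gen2 w) := by
  have : ∀ pts : List ℕ, (∀ p ∈ pts, p < 1782) →
      (List.rec (motive := fun _ => ℕ) 0
        (fun p _ r => Nat.add (appW 11 Data.codes w p) (Nat.mul 2048 r)) pts) =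
        keyL pts (evalW gen2 w) := by
    intro pts
    induction pts with
    | nil => intro _; rfl
    | cons p pts ih =>
      intro h
      have hp := h p (by simp)
      show appW 11 Data.codes w p + 2048 * _ = _
      rw [ih fun q hq => h q (List.mem_cons_of_mem _ hq)]
      show _ = (if h : p < 1782 then (SuzOut.ι (evalW gen2 w) ⟨p, h⟩ : ℕ) else 0) + 2048 * _
      rw [dif_pos hp, app_eq w hw hp]
      rfl
  exact this _ levels_ok.2.2.2.1

/-- The least key of a coset of the four-group. -/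
noncomputable def ckey (g : Spor.Suz) : ℕ :=
  min (min (keyL Data.base g) (keyL Data.base (g * uE)))
    (min (keyL Data.base (g * vE)) (keyL Data.base (g * (uE * vE))))

theorem cosetKey_eq {w : List ℕ} (hw : ∀ l ∈ w, l < Data.k) : cosetKey w = ckey (evalW gen2 w) := by
  obtain ⟨h0, h1, h2, h3⟩ := eval_eW
  rw [cosetKey, keyW_eq (lt_app hw (eW_lt _)), keyW_eq (lt_app hw (eW_lt _)),
    keyW_eq (lt_app hw (eW_lt _)), keyW_eq (lt_app hw (eW_lt _)), evalW_append, evalW_append, evalW_append,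
    evalW_append, h0, h1, h2, h3, mul_one]
  rfl

theorem ckey_u (g : Spor.Suz) : ckey (g * uE) = ckey g := by
  simp only [ckey, mul_assoc, uu, mul_one, ← mul_assoc uE uE vE, one_mul]
  omega

theorem ckey_v (g : Spor.Suz) : ckey (g * vE) = ckey g := by
  have e : vE * (uE * vE) = uE := by rw [uv, ← mul_assoc, vv, one_mul]
  simp only [ckey, mul_assoc, vv, mul_one, e, ← uv]
  omega

theorem ckey_inV {g x : Spor.Suz} (h : InV x) : ckey (g * x) = ckey g := by
  rcases h with rfl | rfl | rfl | rfl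
  · rw [mul_one]
  · exact ckey_u g
  · exact ckey_v g
  · rw [← mul_assoc, ckey_v, ckey_u]

theorem mono_of_step {n : ℕ} {f : ℕ → ℕ} (h : ∀ i < n, i = 0 ∨ f (i - 1) < f i) :
    ∀ j < n, ∀ i < j, f i < f j := by
  intro j
  induction j with
  | zero => intro _ i hi; exact absurd hi (Nat.not_lt_zero i)
  | succ j ih =>
    intro hj i hi
    have hlt : f j < f (j + 1) := (h (j + 1) hj).resolve_left (Nat.succ_ne_zero j)
    rcases Nat.lt_succ_iff_lt_or_eq.mp hi with hi' | rfl
    · exact (ih (by omega) i hi').trans hlt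
    · exact hlt

theorem t_inj {i j : ℕ} (hi : i < 315) (hj : j < 315) (h : InV ((tE i)⁻¹ * tE j)) : i = j := by
  have e : ckey (tE j) = ckey (tE i) := by
    rw [← mul_inv_cancel_left (tE i) (tE j)]
    exact ckey_inV h
  have mono := mono_of_step (n := 315) (f := fun i => cosetKey (Data.tWords.get [] i)) fun i hi => by
    have h := allBelow_eq_true.mp orbit_ok.1 i hi
    simp only [tB, forceL_eq, Bool.and_eq_true, Bool.or_eq_true, Nat.blt_eq] at h
    exact h.2.imp_left Nat.eq_of_beq_eq_true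
  have e' : cosetKey (Data.tWords.get [] j) = cosetKey (Data.tWords.get [] i) := by
    rw [cosetKey_eq (lt_t hj), cosetKey_eq (lt_t hi)]; exact e
  rcases Nat.lt_trichotomy i j with hlt | heq | hlt
  · exact absurd e'.symm (mono j hj i hlt).ne
  · exact heq
  · exact absurd e' (mono i hi j hlt).ne

theorem t_inj' {i j : ℕ} (hi : i < 315) (hj : j < 315) (h : tE i = tE j) : i = j :=
  t_inj hi hj (Or.inl (by rw [h, inv_mul_cancel]))

/-- The centraliser of `uE` and `sE`. -/
noncomputable def Cus : Subgroup Spor.Suz := centralizer ({uE} : Set Spor.Suz) ⊓ centralizer ({sE} : Set Spor.Suz)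

theorem mem_Cus {g : Spor.Suz} : g ∈ Cus ↔ g * uE = uE * g ∧ g * sE = sE * g := by
  rw [Cus, mem_inf, mem_centralizer_singleton_iff, mem_centralizer_singleton_iff]

theorem card_Cus : Nat.card Cus = 512 := by
  have := SuzOut.finite_suz
  let f : Fin 315 × Cus → centralizer ({uE} : Set Spor.Suz) := fun p =>
    ⟨cE p.1 * p.2, mul_mem (mem_centralizer_singleton_iff.mpr (t_spec p.1.isLt).1) p.2.2.1⟩
  have hbij : Function.Bijective f := by
    constructor
    · rintro ⟨i, g⟩ ⟨j, g'⟩ e
      have e' : cE i * (g : Spor.Suz) = cE j * g' := congrArg Subtype.val e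
      have key : ∀ (k : Fin 315) (c : Cus), (cE k * c : Spor.Suz) * sE * (cE k * (c : Spor.Suz))⁻¹ = tE k := by
        intro k c
        rw [mul_inv_rev, show cE k * (c : Spor.Suz) * sE * ((c : Spor.Suz)⁻¹ * (cE k)⁻¹) =
          cE k * ((c : Spor.Suz) * sE * (c : Spor.Suz)⁻¹) * (cE k)⁻¹ by group, (mem_Cus.mp c.2).2,
          mul_inv_cancel_right, (t_spec k.isLt).2.1]
      have hij : (i : ℕ) = j := t_inj' i.isLt j.isLt (by rw [← key i g, ← key j g', e'])
      rw [hij] at e'
      exact Prod.ext (Fin.ext hij) (Subtype.ext (mul_left_cancel e'))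
    · rintro ⟨g, hg⟩
      have hg' := mem_centralizer_singleton_iff.mp hg
      obtain ⟨i, hi, he⟩ := orbit hg'
      obtain ⟨hc, hce, -⟩ := t_spec hi
      refine ⟨⟨⟨i, hi⟩, ⟨(cE i)⁻¹ * g, mem_Cus.mpr ⟨(Commute.mul_left (Commute.inv_left hc) hg').eq, ?_⟩⟩⟩,
        Subtype.ext (mul_inv_cancel_left _ _)⟩
      calc (cE i)⁻¹ * g * sE = (cE i)⁻¹ * (g * sE * g⁻¹) * g := by group
        _ = (cE i)⁻¹ * (cE i * sE * (cE i)⁻¹) * g := by rw [he, hce]
        _ = _ := by group
  have h := Nat.card_congr (Equiv.ofBijective f hbij)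
  rw [Nat.card_prod, Nat.card_fin, card_cent] at h
  omega

theorem r_lt {i : ℕ} (hi : i < 512) : ∀ l ∈ Data.rWords.get [] i, l < Data.k := by
  have h := allBelow_eq_true.mp sylow_ok.1 i hi
  simp only [rB, forceL_eq, Bool.and_eq_true] at h
  exact (hWord_of_B h.1.1).lt

theorem exists_r {g : Spor.Suz} (hg : g ∈ Cus) : ∃ i < 512, g = evalW gen2 (Data.rWords.get [] i) := by
  have := SuzOut.finite_suz
  let f : Fin 512 → Cus := fun i => ⟨evalW gen2 (Data.rWords.get [] i.val), by
    have h := allBelow_eq_true.mp sylow_ok.1 i.val i.isLt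
    simp only [rB, forceL_eq, Bool.and_eq_true] at h
    refine mem_Cus.mpr ⟨(hWord_of_B h.1.1).comm, ?_⟩
    have := eq_of_eqW (lt_app (r_lt i.isLt) (lt_one (by norm_num))) (b := 2 :: Data.rWords.get [] i.val)
      (lt_app (a := [2]) (lt_one (by norm_num)) (r_lt i.isLt)) h.1.2
    rw [evalW_append, ev_one, evalW_cons] at this
    exact this⟩
  have hinj : Function.Injective f := by
    intro i j e
    have e' : evalW gen2 (Data.rWords.get [] i.val) = evalW gen2 (Data.rWords.get [] j.val) :=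
      congrArg Subtype.val e
    have mono := mono_of_step (n := 512) (f := fun i => keyW (Data.rWords.get [] i)) fun i hi => by
      have h := allBelow_eq_true.mp sylow_ok.1 i hi
      simp only [rB, forceL_eq, Bool.and_eq_true, Bool.or_eq_true, Nat.blt_eq] at h
      exact h.2.imp_left Nat.eq_of_beq_eq_true
    have ek : keyW (Data.rWords.get [] i.val) = keyW (Data.rWords.get [] j.val) := by
      rw [keyW_eq (r_lt i.isLt), keyW_eq (r_lt j.isLt), e']
    rcases Nat.lt_trichotomy i.val j.val with hlt | heq | hlt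
    · exact absurd ek (mono _ j.isLt _ hlt).ne
    · exact Fin.ext heq
    · exact absurd ek.symm (mono _ i.isLt _ hlt).ne
  obtain ⟨i, hi⟩ := ((Nat.bijective_iff_injective_and_card f).mpr
    ⟨hinj, by rw [Nat.card_fin, card_Cus]⟩).2 ⟨g, hg⟩
  exact ⟨i, i.isLt, (congrArg Subtype.val hi).symm⟩

theorem conj_into {x : Spor.Suz} (hxu : x * uE = uE * x) (hx : x ^ 4 = 1) :
    ∃ h : Spor.Suz, h * uE = uE * h ∧ h * x * h⁻¹ ∈ Cus := by
  have := SuzOut.finite_suz
  have := Fact.mk Nat.prime_two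
  set C := centralizer ({uE} : Set Spor.Suz) with hC
  let R0 : Sylow 2 C := Sylow.ofCard (Cus.subgroupOf C) (by
    rw [Nat.card_congr (subgroupOfEquivOfLe (show Cus ≤ C from inf_le_left)).toEquiv, card_Cus, hC, card_cent,
      show (161280 : ℕ) = 2 ^ 9 * 315 by norm_num, Nat.factorization_mul (by norm_num) (by norm_num),
      Finsupp.add_apply, Nat.Prime.factorization_pow Nat.prime_two, Finsupp.single_eq_same,
      Nat.factorization_eq_zero_of_not_dvd (show ¬ 2 ∣ 315 by norm_num)]
    norm_num)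
  let xC : C := ⟨x, mem_centralizer_singleton_iff.mpr hxu⟩
  have hp : IsPGroup 2 (zpowers xC) := by
    obtain ⟨j, -, hj⟩ := (Nat.dvd_prime_pow Nat.prime_two).mp
      (orderOf_dvd_of_pow_eq_one (show xC ^ 2 ^ 2 = 1 from Subtype.ext hx))
    exact IsPGroup.of_card (n := j) (by rw [Nat.card_zpowers, hj])
  obtain ⟨R, hR⟩ := hp.exists_le_sylow
  obtain ⟨h, hh⟩ := MulAction.exists_smul_eq C R R0
  refine ⟨h, mem_centralizer_singleton_iff.mp h.2, ?_⟩
  have hm : h * xC * h⁻¹ ∈ (R0 : Subgroup C) := by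
    rw [← hh, Sylow.coe_subgroup_smul, Subgroup.pointwise_smul_def]
    exact ⟨xC, hR (mem_zpowers xC), rfl⟩
  exact hm

theorem classes : ∀ i : Spor.Suz, orderOf i = 2 → IsConj uE i ∨ IsConj sE i := by
  have := Leech.finite_co0
  obtain ⟨zM, ⟨SM⟩⟩ := SuzRecog.exists_model_section
  obtain ⟨φ⟩ := CoSection.Suz3.exists_equiv
  obtain ⟨a, b, -, -, -, hcl⟩ := SM.two_classes
  have pull : ∀ {x y : Spor.Suz}, IsConj (φ x) (φ y) → IsConj x y := fun {x y} h => by
    simpa using φ.symm.toMonoidHom.map_isConj h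
  have ou : orderOf uE = 2 := order_gen (by norm_num) small_ok.1 small_ok.2.1
  have os : orderOf sE = 2 := order_gen (by norm_num) small_ok.2.2.2.2.1 small_ok.2.2.2.2.2.1
  have hne : ¬ IsConj uE sE := not_conj_us
  intro i hi
  rcases hcl (φ uE) ((φ.orderOf_eq _).trans ou) with hu | hu <;>
    rcases hcl (φ sE) ((φ.orderOf_eq _).trans os) with hs | hs
  · exact absurd (pull (hu.trans hs.symm)) hne
  · rcases hcl (φ i) ((φ.orderOf_eq _).trans hi) with h | h
    · exact Or.inl (pull (hu.trans h.symm))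
    · exact Or.inr (pull (hs.trans h.symm))
  · rcases hcl (φ i) ((φ.orderOf_eq _).trans hi) with h | h
    · exact Or.inr (pull (hs.trans h.symm))
    · exact Or.inl (pull (hu.trans h.symm))
  · exact absurd (pull (hu.trans hs.symm)) hne
where
  not_conj_us : ¬ IsConj uE sE := by
    intro h
    obtain ⟨g, hg⟩ := isConj_iff.mp h
    obtain ⟨hlen, hnd, hfix⟩ := fixS_ok
    let fu := Finset.univ.filter fun a : Fin 1782 => SuzOut.ι uE a = a
    let fs := Finset.univ.filter fun a : Fin 1782 => SuzOut.ι sE a = a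
    have hu : fu.card ≤ 42 := by
      rw [← Finset.card_map Fin.valEmbedding, ← stage_ok.2.1]
      refine le_trans (Finset.card_le_card fun a ha => ?_) (List.toFinset_card_le _)
      obtain ⟨b, hb, rfl⟩ := Finset.mem_map.mp ha
      exact List.mem_toFinset.mpr (fix_u (Finset.mem_filter.mp hb).2)
    have hs : 43 ≤ fs.card := by
      rw [← Finset.card_map Fin.valEmbedding, ← hlen, ← List.toFinset_card_of_nodup hnd]
      refine Finset.card_le_card fun a ha => ?_
      have h' := allB_spec hfix a (List.mem_toFinset.mp ha)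
      simp only [Bool.and_eq_true, Nat.blt_eq] at h'
      refine Finset.mem_map.mpr ⟨⟨a, h'.1⟩, Finset.mem_filter.mpr ⟨Finset.mem_univ _, Fin.ext ?_⟩, rfl⟩
      rw [sE, ← ev_one, app_eq [2] (lt_one (by norm_num)) h'.1]
      exact Nat.eq_of_beq_eq_true h'.2
    have e : fu.card = fs.card := by
      refine Finset.card_equiv (SuzOut.ι g) fun a => ?_
      simp only [fu, fs, Finset.mem_filter, Finset.mem_univ, true_and, ← hg, map_mul, map_inv,
        Equiv.Perm.mul_apply, Equiv.Perm.inv_def, Equiv.symm_apply_apply, EmbeddingLike.apply_eq_iff_eq]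
    omega

theorem su : sE * uE = uE * sE := comm_gen (by norm_num) (by norm_num) small_ok.2.2.2.2.2.2.2.2.1

theorem sv : sE * vE = vE * sE := comm_gen (by norm_num) (by norm_num) small_ok.2.2.2.2.2.2.2.2.2.1

theorem isConj_u {i : ℕ} {x : List ℕ} (hx : ∀ l ∈ x, l < Data.k) (h : conjUB i x = true) :
    IsConj uE (evalW gen2 x) := by
  simp only [conjUB, forceL_eq, Bool.and_eq_true] at h
  have hw : ∀ l ∈ Data.conjWs.getD i [], l < Data.k := fun l hl => Nat.blt_eq.mp (allB_spec h.1 l hl)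
  have e := eq_of_eqW (lt_app hw (lt_one (by norm_num))) (lt_app hx hw) h.2
  rw [evalW_append, evalW_append, ev_one] at e
  exact isConj_iff.mpr ⟨evalW gen2 (Data.conjWs.getD i []), mul_inv_eq_iff_eq_mul.mpr e⟩

theorem prod_s {t : Spor.Suz} (htu : t * uE = uE * t) (hts : t * sE = sE * t) (hne : t ≠ sE)
    (hc : IsConj sE t) : IsConj sE (sE * t) := by
  obtain ⟨g, hg⟩ := isConj_iff.mp hc
  have ht2 : t * t = 1 := by
    rw [← hg, conj_mul, show sE * sE = 1 from sq_gen (by norm_num) small_ok.2.2.2.2.1]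
    group
  have ht1 : t ≠ 1 := fun e => by
    rw [e, conj_eq_one_iff] at hg
    exact ne_gen (by norm_num) small_ok.2.2.2.2.2.1 hg
  obtain ⟨i, hi, rfl⟩ := exists_r (mem_Cus.mpr ⟨htu, hts⟩)
  have hp := allBelow_eq_true.mp sylow_ok.2.2 i hi
  rw [prodB, forceN_eq, forceL_eq] at hp
  set x := Data.rWords.get [] i
  have hx : ∀ l ∈ x, l < Data.k := r_lt hi
  cases h0 : Nat.beq (Data.prods.get 0 i) 0
  · rw [h0, cond_false] at hp
    cases h1 : Nat.blt (Data.prods.get 0 i) 316
    · rw [h1, cond_false, forceL_eq, Bool.and_eq_true] at hp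
      have hw : ∀ l ∈ Data.wits.get [] (Nat.sub (Data.prods.get 0 i) 316), l < Data.k :=
        fun l hl => Nat.blt_eq.mp (allB_spec hp.1 l hl)
      have e := eq_of_eqW (lt_app hw (lt_one (by norm_num))) (lt_app hx hw) hp.2
      rw [evalW_append, evalW_append, ev_one] at e
      exact absurd ((isConj_iff.mpr ⟨evalW gen2 (Data.wits.get [] (Nat.sub (Data.prods.get 0 i) 316)),
        mul_inv_eq_iff_eq_mul.mpr e⟩ : IsConj uE _).trans hc.symm) classes.not_conj_us
    · rw [h1, cond_true] at hp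
      have hj : Data.prods.get 0 i - 1 < 315 := by
        have := Nat.blt_eq.mp h1
        omega
      have e := eq_of_eqW (lt_app (a := [2]) (lt_one (by norm_num)) hx) (lt_t hj) hp
      rw [evalW_append, ev_one] at e
      rw [show sE = gen2 2 from rfl, e]
      exact isConj_t hj
  · rw [h0, cond_true, Bool.or_eq_true, Bool.or_eq_true, Bool.not_eq_true'] at hp
    exfalso
    rcases hp with (h | h) | h
    · rw [eqW_of_eq (lt_app hx hx) (b := []) (by simp) (by rw [evalW_append, ht2]; rfl)] at h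
      exact Bool.noConfusion h
    · exact ht1 (eq_of_eqW hx (by simp) h)
    · exact hne ((eq_of_eqW hx (lt_one (by norm_num)) h).trans (ev_one 2))

theorem coset_spec {x : Spor.Suz} (hxu : x * uE = uE * x) (hxv : x * vE = vE * x) (hsq : InV (x * x))
    (hnx : ¬ InV x) : ∃ e : Spor.Suz, InV e ∧ IsConj sE (x * e) := by
  have hx4 : x ^ 4 = 1 := by
    rw [show (4 : ℕ) = 2 * 2 from rfl, pow_mul, pow_two, pow_two]
    exact hsq.sq
  obtain ⟨h, hh, hm⟩ := conj_into hxu hx4
  obtain ⟨i, hi, hie⟩ := exists_r hm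
  have hu' := (mem_Cus.mp hm).1
  have hv' : h * x * h⁻¹ * vE = vE * (h * x * h⁻¹) := by
    have hc : Commute (h * x * h⁻¹) (h * vE * h⁻¹) := by
      show h * x * h⁻¹ * (h * vE * h⁻¹) = h * vE * h⁻¹ * (h * x * h⁻¹)
      rw [conj_mul, conj_mul, hxv]
    rcases conj_v_cases hh with e | e
    · rw [e] at hc
      exact hc.eq
    · rw [e] at hc
      have := (Commute.mul_right (show Commute (h * x * h⁻¹) uE from hu') hc).eq
      rwa [← mul_assoc uE uE vE, uu, one_mul] at this
  have hp := allBelow_eq_true.mp sylow_ok.2.1 i hi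
  rw [cosetB, forceN_eq, forceL_eq] at hp
  set w := Data.rWords.get [] i
  have hw : ∀ l ∈ w, l < Data.k := r_lt hi
  cases h0 : Nat.beq (Data.coset.get 0 i) 0
  · rw [h0, cond_false, Bool.and_eq_true, Nat.blt_eq] at hp
    obtain ⟨hj, he⟩ := hp
    have e := eq_of_eqW (lt_app hw (eW_lt _)) (lt_t hj) he
    rw [evalW_append, ← hie] at e
    set E := evalW gen2 (eW (Nat.mod (Nat.sub (Data.coset.get 0 i) 1) 4))
    have hhi : h⁻¹ * uE = uE * h⁻¹ := (Commute.inv_left hh).eq
    refine ⟨h⁻¹ * E * h⁻¹⁻¹, (inV_eW _).conj hhi, ?_⟩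
    refine (isConj_t hj).trans ?_
    rw [tE, ← e]
    exact isConj_iff.mpr ⟨h⁻¹, by group⟩
  · exfalso
    rw [h0, cond_true, Bool.or_eq_true, Bool.or_eq_true, Bool.not_eq_true', Bool.not_eq_true'] at hp
    rcases hp with (h' | h') | h'
    · rw [eqW_of_eq (lt_app hw (lt_one (by norm_num))) (b := 1 :: w)
        (lt_app (a := [1]) (lt_one (by norm_num)) hw)
        (by rw [evalW_append, ev_one, evalW_cons, ← hie]; exact hv')] at h'
      exact Bool.noConfusion h'
    · rw [(inVB_iff (lt_app hw hw)).mpr (by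
        rw [evalW_append, ← hie, conj_mul]
        exact hsq.conj hh)] at h'
      exact Bool.noConfusion h'
    · refine hnx ?_
      have hx' : InV (h * x * h⁻¹) := hie ▸ (inVB_iff hw).mp h'
      have := hx'.conj (g := h⁻¹) (Commute.inv_left hh).eq
      rwa [show h⁻¹ * (h * x * h⁻¹) * h⁻¹⁻¹ = x by group] at this

theorem card_four : Nat.card (centralizer ({uE, vE} : Set Spor.Suz)) ∣ 80640 := by
  classical
  have := SuzOut.finite_suz
  have hmem : ∀ g : Spor.Suz, g ∈ centralizer ({uE, vE} : Set Spor.Suz) ↔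
      g * uE = uE * g ∧ g * vE = vE * g := by
    intro g
    rw [mem_centralizer_iff]
    simp only [Set.mem_insert_iff, Set.mem_singleton_iff, forall_eq_or_imp, forall_eq]
    exact ⟨fun h => ⟨h.1.symm, h.2.symm⟩, fun h => ⟨h.1.symm, h.2.symm⟩⟩
  obtain ⟨hl, ho⟩ : gen2 3 * uE = uE * gen2 3 ∧ gen2 3 * vE * (gen2 3)⁻¹ = uE * vE := by
    refine ⟨(gen_spec le_rfl (by norm_num)).1, ?_⟩
    have e := eq_of_eqW (lt_two (by norm_num) (by norm_num)) (b := [0, 1, 3]) (by
      simp only [List.mem_cons, List.not_mem_nil, or_false]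
      rintro m (rfl | rfl | rfl) <;> apply lt_k <;> omega) small_ok.2.2.2.2.2.2.2.2.2.2.2.2.2.2.2
    rw [ev_two, ev_three] at e
    rw [mul_inv_eq_iff_eq_mul]
    exact e.trans (mul_assoc _ _ _).symm
  let f : Bool × centralizer ({uE, vE} : Set Spor.Suz) → centralizer ({uE} : Set Spor.Suz) := fun p =>
    ⟨(if p.1 then gen2 3 else 1) * p.2, mem_centralizer_singleton_iff.mpr (by
      refine (Commute.mul_left ?_ ((hmem _).mp p.2.2).1).eq
      cases p.1
      · exact Commute.one_left _
      · exact hl)⟩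
  have hbij : Function.Bijective f := by
    constructor
    · rintro ⟨a, g⟩ ⟨b, g'⟩ e
      have e' : (if a then gen2 3 else 1) * (g : Spor.Suz) = (if b then gen2 3 else 1) * g' :=
        congrArg Subtype.val e
      have key : gen2 3 ∉ centralizer ({uE, vE} : Set Spor.Suz) := fun hm => by
        rw [((hmem _).mp hm).2, mul_inv_cancel_right] at ho
        exact ne_gen (by norm_num) small_ok.2.1 (mul_eq_right.mp ho.symm)
      cases a <;> cases b <;> simp only [Bool.false_eq_true, if_false, if_true, one_mul] at e'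
      · exact Prod.ext rfl (Subtype.ext e')
      · exact absurd ((eq_mul_inv_of_mul_eq e'.symm) ▸ mul_mem g.2 (inv_mem g'.2)) key
      · exact absurd ((eq_mul_inv_of_mul_eq e') ▸ mul_mem g'.2 (inv_mem g.2)) key
      · exact Prod.ext rfl (Subtype.ext (mul_left_cancel e'))
    · rintro ⟨g, hg⟩
      have hg' := mem_centralizer_singleton_iff.mp hg
      rcases conj_v_cases hg' with e | e
      · exact ⟨⟨false, g, (hmem g).mpr ⟨hg', mul_inv_eq_iff_eq_mul.mp e⟩⟩, Subtype.ext (one_mul g)⟩
      · refine ⟨⟨true, (gen2 3)⁻¹ * g, (hmem _).mpr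
          ⟨(Commute.mul_left (Commute.inv_left hl) hg').eq, ?_⟩⟩, Subtype.ext (mul_inv_cancel_left _ _)⟩
        calc (gen2 3)⁻¹ * g * vE = (gen2 3)⁻¹ * (g * vE * g⁻¹) * g := by group
          _ = (gen2 3)⁻¹ * (gen2 3 * vE * (gen2 3)⁻¹) * g := by rw [e, ho]
          _ = _ := by group
  have h := Nat.card_congr (Equiv.ofBijective f hbij)
  rw [Nat.card_prod, card_cent, Nat.card_eq_fintype_card (α := Bool), Fintype.card_bool] at h
  exact ⟨1, by omega⟩

theorem no_five_seven (x y : Spor.Suz) (hx : orderOf x = 5) (hy : orderOf y = 7) : x * y ≠ y * x := by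
  intro hxy
  have := SuzOut.finite_suz
  have := Fact.mk (show Nat.Prime 7 by norm_num)
  obtain ⟨P0, hP0⟩ := SuzFacts.exists_sylow_seven
  have hp : IsPGroup 7 (zpowers y) := IsPGroup.of_card (n := 1) (by rw [Nat.card_zpowers, hy, pow_one])
  obtain ⟨R, hR⟩ := hp.exists_le_sylow
  obtain ⟨c, hc⟩ := MulAction.exists_smul_eq Spor.Suz R P0
  have hm : c * y * c⁻¹ ∈ zpowers SuzFacts.el7 := by
    rw [← hP0, ← hc, Sylow.coe_subgroup_smul, Subgroup.pointwise_smul_def]
    exact ⟨y, hR (mem_zpowers y), rfl⟩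
  have hgen : zpowers (c * y * c⁻¹) = zpowers SuzFacts.el7 := by
    refine eq_of_le_of_card_ge (zpowers_le.mpr hm) ?_
    rw [Nat.card_zpowers, Nat.card_zpowers, SuzFacts.el7_order,
      show orderOf (c * y * c⁻¹) = orderOf y from
        orderOf_injective (MulAut.conj c).toMonoidHom (MulAut.conj c).injective y, hy]
  have hxm : c * x * c⁻¹ ∈ centralizer ((zpowers SuzFacts.el7 : Subgroup Spor.Suz) : Set Spor.Suz) := by
    rw [← hgen, zpowers_eq_closure, centralizer_closure, mem_centralizer_singleton_iff, conj_mul, conj_mul, hxy]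
  have hd := orderOf_dvd_natCard (⟨c * x * c⁻¹, hxm⟩ :
    centralizer ((zpowers SuzFacts.el7 : Subgroup Spor.Suz) : Set Spor.Suz))
  rw [SuzFacts.card_cent_seven, ← Subgroup.orderOf_coe,
    show orderOf (c * x * c⁻¹) = orderOf x from
      orderOf_injective (MulAut.conj c).toMonoidHom (MulAut.conj c).injective x, hx] at hd
  norm_num at hd

theorem exists_involFacts : ∃ u v s s' : Spor.Suz, SuzRecog.InvolFacts u v s s' := by
  obtain ⟨h0, h1, -, -, h4, h5, h6, -, -, -, -, hc0, hc1, hc2, -, ho⟩ := small_ok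
  obtain ⟨-, -, -, -, ho', hso, hsne⟩ := orbit_ok
  have ou : orderOf uE = 2 := order_gen (by norm_num) h0 h1
  have hsv : tE Data.other * vE = vE * tE Data.other := (t_spec ho').2.2
  have hss : tE Data.other * sE = sE * tE Data.other := by
    have := eq_of_eqW (lt_app (lt_t ho') (lt_one (by norm_num))) (b := 2 :: Data.tWords.get [] Data.other)
      (lt_app (a := [2]) (lt_one (by norm_num)) (lt_t ho')) hso
    rw [evalW_append, ev_one, evalW_cons] at this
    exact this
  refine ⟨uE, vE, sE, tE Data.other, ?_⟩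
  exact
  { ou := ou
    ov := order_gen (by norm_num) small_ok.2.2.1 small_ok.2.2.2.1
    os := order_gen (by norm_num) h4 h5
    v_ne := fun e => by
      rw [eqW_of_eq (lt_one (by norm_num)) (lt_one (by norm_num)) (by rw [ev_one, ev_one]; exact e)] at h6
      exact Bool.noConfusion h6
    uv := uv
    su := su
    sv := sv
    classes := classes
    not_conj := classes.not_conj_us
    conj_v := by have := isConj_u (lt_one (by norm_num)) hc0; rwa [ev_one] at this
    conj_uv := by have := isConj_u (lt_two (by norm_num) (by norm_num)) hc1; rwa [ev_two] at this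
    conj_su := by have := isConj_u (lt_two (by norm_num) (by norm_num)) hc2; rwa [ev_two] at this
    four_norm := fun _ hh => conj_v_cases hh
    outer := ⟨gen2 3, (gen_spec le_rfl (by norm_num)).1, by
      have e := eq_of_eqW (lt_two (by norm_num) (by norm_num)) (b := [0, 1, 3]) (by
        simp only [List.mem_cons, List.not_mem_nil, or_false]
        rintro m (rfl | rfl | rfl) <;> apply lt_k <;> omega) ho
      rw [ev_two, ev_three] at e
      rw [mul_inv_eq_iff_eq_mul]
      exact e.trans (mul_assoc _ _ _).symm⟩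
    card_dvd := by rw [card_cent]
    card_four := card_four
    exists_comm := fun x hxu hx2 => by
      obtain ⟨h, hh, hm⟩ := conj_into hxu
        (by rw [show (4 : ℕ) = 2 * 2 from rfl, pow_mul, show x ^ 2 = 1 by rw [pow_two, hx2], one_pow])
      refine ⟨h⁻¹ * sE * h⁻¹⁻¹, isConj_iff.mpr ⟨h⁻¹, rfl⟩, ?_, ?_⟩
      · exact ((Commute.mul_left (Commute.inv_left hh) su).mul_left (Commute.inv_left (Commute.inv_left hh))).eq
      · have e := (mem_Cus.mp hm).2
        calc h⁻¹ * sE * h⁻¹⁻¹ * x = h⁻¹ * (sE * (h * x * h⁻¹)) * h := by group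
          _ = h⁻¹ * (h * x * h⁻¹ * sE) * h := by rw [e]
          _ = _ := by group
    coset := fun x hxu hxv hsq hnx => coset_spec hxu hxv hsq hnx
    many := ⟨fun i => tE i, fun i => ⟨t_comm i.isLt, (t_spec i.isLt).2.2, isConj_t i.isLt⟩,
      fun i j h => Fin.ext (t_inj i.isLt j.isLt h)⟩
    prod := fun _ h1 h2 h3 h4 => prod_s h1 h2 h3 h4
    prod' := fun t htu hts hne hct => by
      obtain ⟨hc, he, -⟩ := t_spec ho'
      set c := cE Data.other
      have hci : c⁻¹ * uE = uE * c⁻¹ := (Commute.inv_left hc).eq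
      have h := prod_s (t := c⁻¹ * t * c) ((Commute.mul_left (Commute.mul_left hci htu) hc).eq) ?_ ?_
        (hct.trans (isConj_iff.mpr ⟨c⁻¹, by group⟩))
      · refine h.trans (isConj_iff.mpr ⟨c, ?_⟩)
        rw [← he]
        group
      · calc c⁻¹ * t * c * sE = c⁻¹ * (t * (c * sE * c⁻¹)) * c := by group
          _ = c⁻¹ * (c * sE * c⁻¹ * t) * c := by rw [he, hts]
          _ = _ := by group
      · intro e
        apply hne
        rw [← he, ← e]
        group
    s'_conj := isConj_t ho'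
    s'_ne := fun e => by
      rw [eqW_of_eq (lt_t ho') (lt_one (by norm_num)) (by rw [ev_one]; exact e)] at hsne
      exact Bool.noConfusion hsne
    s'_u := t_comm ho'
    s'_v := hsv
    s'_s := hss
    no35 := no_five_seven }

end Cfsg.Agent.SuzInvol
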