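import Cfsg.Agent.SuzInvol.Defs
import Cfsg.Agent.SuzOut.Codes
import Cfsg.Agent.SuzOut.Base
import Cfsg.Agent.LeechModel.Words
import Cfsg.Agent.OutTab.CriterionTwo

/-!
Checks for the second class of involutions.
-/

set_option autoImplicit false
set_option maxRecDepth 100000
set_option maxHeartbeats 0

namespace Cfsg.Agent.SuzInvol

open Cfsg.Agent.Compute Cfsg.Agent.StemCert Cfsg.Agent.OutTab Cfsg.Agent.LeechModel

theorem words_ok : wordsB 1782 11 SuzOut.Data.k SuzOut.Data.codes Data.letters Data.codes Data.k = true := by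
  decide +kernel

theorem levels_ok : wfB Data.levels = true ∧ gensBelow Data.k Data.levels = true ∧
    numForms Data.levels = 448345497600 ∧ (∀ b ∈ Data.base, b < 1782) ∧ 7 ≤ Data.k ∧
    Data.base.length = 4 := by
  refine ⟨?_, ?_, ?_, ?_, ?_, ?_⟩ <;> decide +kernel

theorem distinct_ok : distinctB 11 Data.codes Data.levels Data.base = true :=
  distinctB_cons_of_pos (P := Data.pos0) (by decide +kernel)
    (distinctB_cons_of_pos (P := Data.pos1) (by decide +kernel)
      (distinctB_cons_of_pos (P := Data.pos2) (by decide +kernel)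
        (distinctB_cons_of_pos (P := Data.pos3) (by decide +kernel) rfl)))

theorem iv_ok : ivB 11 Data.k Data.codes Data.base Data.ivs = true := by decide +kernel

theorem mask_ok : maskB 11 Data.codes Data.levels Data.base Data.masks = true := by decide +kernel

theorem small_ok : eqW [0, 0] [] = true ∧ eqW [0] [] = false ∧ eqW [1, 1] [] = true ∧ eqW [1] [] = false ∧
    eqW [2, 2] [] = true ∧ eqW [2] [] = false ∧ eqW [1] [0] = false ∧ eqW [0, 1] [1, 0] = true ∧
    eqW [2, 0] [0, 2] = true ∧ eqW [2, 1] [1, 2] = true ∧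
    (∀ l : Fin 4, genB (3 + l.val) = true) ∧
    conjUB 0 [1] = true ∧ conjUB 1 [0, 1] = true ∧ conjUB 2 [2, 0] = true ∧
    Data.outerLetter = 3 ∧ eqW [3, 1] [0, 1, 3] = true := by
  refine ⟨?_, ?_, ?_, ?_, ?_, ?_, ?_, ?_, ?_, ?_, ?_, ?_, ?_, ?_, ?_, ?_⟩ <;> decide +kernel

theorem stage_ok : fixListB 1782 11 Data.codes 0 Data.fxU = true ∧ Data.fxU.length = 42 ∧ Data.fxU.Nodup ∧
    Data.second.length = 25 ∧ Data.second.Nodup ∧
    allBelow 42 redAB = true ∧ allBelow 25 redBB = true ∧ allBelow 42 secondB = true ∧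
    Data.starts.getD 0 0 = Data.base.getD 1 0 ∧ (∀ a : Fin 2, Data.starts.getD a.val 0 < 1782) ∧
    appW 11 Data.codes [0] (Data.base.getD 0 0) = Data.base.getD 0 0 ∧
    appW 11 Data.codes [0] (Data.base.getD 1 0) = Data.base.getD 1 0 ∧
    appW 11 Data.codes [0] (Data.base.getD 2 0) = Data.base.getD 3 0 ∧
    Data.numEls = 192 ∧ allBelow 192 elB = true ∧
    ((Finset.range 25).filter fun r => Data.secStart.get 0 r = 0).card = 20 := by
  refine ⟨?_, ?_, ?_, ?_, ?_, ?_, ?_, ?_, ?_, ?_, ?_, ?_, ?_, ?_, ?_, ?_⟩ <;> decide +kernel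

theorem cand_ok : allBelow 3564 candB = true := by decide +kernel

theorem orbit_ok : allBelow 315 tB = true ∧ allBelow 1260 closB = true ∧ Data.selfIdx < 315 ∧
    eqW (Data.tWords.get [] Data.selfIdx) [2] = true ∧ Data.other < 315 ∧
    eqW (Data.tWords.get [] Data.other ++ [2]) (2 :: Data.tWords.get [] Data.other) = true ∧
    eqW (Data.tWords.get [] Data.other) [2] = false := by
  refine ⟨?_, ?_, ?_, ?_, ?_, ?_, ?_⟩ <;> decide +kernel

theorem sylow_ok : allBelow 512 rB = true ∧ allBelow 512 cosetB = true ∧ allBelow 512 prodB = true := by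
  refine ⟨?_, ?_, ?_⟩ <;> decide +kernel

theorem fixS_ok : Data.fxS.length = 43 ∧ Data.fxS.Nodup ∧
    allB (fun a => Nat.blt a 1782 && Nat.beq (appW 11 Data.codes [2] a) a) Data.fxS = true := by
  refine ⟨?_, ?_, ?_⟩ <;> decide +kernel

end Cfsg.Agent.SuzInvol
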