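import Cfsg.Agent.StemCert.Defs

/-! A chain of point stabilisers. -/

set_option autoImplicit false
set_option maxRecDepth 100000
set_option maxHeartbeats 0
set_option linter.all false

namespace Cfsg.Agent.SuzInvol.Data

open Cfsg.Agent.StemCert

/-- Data. -/
noncomputable def words0_0 : Arr (List ℕ) := (.node [9] (.node [9,8] (.node [10,7,7] (.node [8,8,10] (.node [8,8,8,9] (.node [7,9,7,10,8] (.node [9,7,7,7,9,8] (.node [8,8,9,8,10,8,8] (.node [9,7,10,8,9,7,7,9] .nil .nil) (.node [9,8,8,9,7,10,8,8,9] .nil .nil)) (.node [8,10,8,8,10,8,10] (.node [7,7,7,7,9,8,10,7,7] .nil .nil) .nil)) (.node [9,8,8,8,8,10] (.node [8,8,9,8,10,7,9] (.node [8,8,9,7,7,7,7,10] .nil .nil) (.node [7,7,9,8,8,10,8,10,7,7] .nil .nil)) (.node [7,10,7,9,7,10,8,8] (.node [7,9,8,8,9,8,8,9,8] .nil .nil) .nil))) (.node [9,8,10,8,10] (.node [8,10,7,10,7,9] (.node [10,7,7,9,7,10,8] (.node [7,7,7,9,8,8,8,9] .nil .nil) (.node [7,7,10,8,8,8,9,7,10] .nil .nil)) (.node [10,7,9,7,9,8,8,8]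 (.node [9,7,7,7,9,7,10,8,8] .nil .nil) .nil)) (.node [8,10,8,8,8,8,8] (.node [10,8,8,9,7,7,10] (.node [7,9,7,9,8,9,8,10] .nil .nil) (.node [8,9,8,8,8,9,7,7,7,9] .nil .nil)) (.node [9,8,10,8,10,7,9,8] (.node [10,7,7,9,8,10,7,7,9] .nil .nil) .nil)))) (.node [8,8,8,8,8] (.node [8,8,10,8,9] (.node [9,7,9,7,10,8] (.node [8,10,7,10,7,9,8] (.node [9,7,10,8,8,9,7,9] .nil .nil) (.node [10,8,9,8,10,8,10,8,9] .nil .nil)) (.node [9,7,10,7,7,9,7,7] (.node [10,7,10,7,9,7,9,8,8] .nil .nil) .nil)) (.node [10,8,8,9,7,7,7] (.node [10,7,9,7,9,8,9] (.node [7,7,7,10,7,9,7,10] .nil .nil) (.node [7,9,7,10,8,8,8,10,8,8] .nil .nil)) (.node [7,7,9,7,7,7,9,8] (.node [7,7,10,7,7,7,7,7,9] .nil .nil) .nil))) (.node [10,8,9,8,8,8] (.node [8,9,7,10,8,9] (.node [7,10,8,10,7,7,9] (.node [9,8,9,7,7,9,8,9] .nil .nil) (.node [7,7,9,7,9,8,10,8,10] .nil .nil)) (.node [7,9,7,10,7,9,8,8] (.node [9,8,9,7,7,7,7,9,8] .nil .nil) .nil)) (.node [8,8,8,8,9,8,8] (.node [10,8,8,8,10,7,10]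 (.node [9,7,10,8,8,9,7,7,7] .nil .nil) (.node [7,10,7,7,7,9,7,9,8,9] .nil .nil)) (.node [7,10,7,7,10,7,10,8] (.node [8,8,10,8,8,8,10,7,9] .nil .nil) .nil))))) (.node [7,7,9,8] (.node [7,9,8,10] (.node [10,7,10,7,9] (.node [8,8,8,8,9,8] (.node [9,7,10,7,7,9,8] (.node [8,8,10,8,10,7,7,9] .nil .nil) (.node [7,9,7,10,7,7,10,8,9] .nil .nil)) (.node [7,10,8,8,9,7,7,7] (.node [9,7,7,10,7,9,8,8,8] .nil .nil) .nil)) (.node [7,7,7,10,8,10] (.node [7,9,8,9,8,8,9] (.node [9,8,9,8,9,7,7,10] .nil .nil) (.node [8,10,8,9,8,9,8,9,8,8] .nil .nil)) (.node [7,10,8,8,8,10,8,8] (.node [8,9,7,7,7,9,7,10,8] .nil .nil) .nil))) (.node [7,9,8,9,7,7] (.node [9,7,10,8,8,9] (.node [9,7,10,7,7,7,9] (.node [7,7,9,8,9,8,8,9] .nil .nil) (.node [10,8,8,9,7,10,8,8,10] .nil .nil)) (.node [10,7,10,7,10,8,8,8] (.node [10,7,10,8,8,8,10,8,8] .nil .nil) .nil)) (.node [8,10,7,10,8,8,8] (.node [9,8,8,8,9,7,10] (.node [10,8,8,9,8,10,8,10] .nil .nil) (.node [7,9,8,10,8,8,8,10,7,9]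 .nil .nil)) (.node [10,7,7,7,10,8,9,8] (.node [8,9,7,9,8,8,9,7,9] .nil .nil) .nil)))) (.node [10,8,10,8,8] (.node [8,8,10,7,10] (.node [10,8,9,7,7,9] (.node [10,8,10,8,8,9,8] (.node [7,7,10,8,8,10,7,9] .nil .nil) (.node [10,8,10,7,10,7,7,7,10] .nil .nil)) (.node [8,9,8,8,8,10,7,7] (.node [7,10,8,8,9,8,9,8,8] .nil .nil) .nil)) (.node [7,7,9,8,9,7,7] (.node [8,8,9,8,10,8,9] (.node [10,7,10,8,8,10,7,10] .nil .nil) (.node [7,7,10,7,7,7,10,7,9,8] .nil .nil)) (.node [7,9,7,7,9,7,9,8] (.node [8,10,8,8,10,7,7,7,9] .nil .nil) .nil))) (.node [8,9,8,9,8,8] (.node [9,7,10,7,7,10] (.node [9,7,7,7,10,7,9] (.node [7,7,7,10,7,10,8,9] .nil .nil) (.node [9,8,9,8,10,8,9,7,7,7] .nil .nil)) (.node [9,8,8,9,8,9,8,8] (.node [10,7,10,7,7,9,7,9,8] .nil .nil) .nil)) (.node [7,7,9,7,10,8,8] (.node [7,9,8,8,9,8,10] (.node [8,10,8,8,8,8,9,7,7] .nil .nil) (.node [7,7,7,9,8,9,7,7,7,10,8] .nil .nil)) (.node [7,9,7,10,7,7,7,9] (.node [8,9,7,10,8,8,8,8,9] .nil .nil)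 .nil)))))) (.node [9,7,9] (.node [8,10,7,7] (.node [9,7,7,10] (.node [8,9,7,7,9] (.node [9,8,9,7,9,8] (.node [9,7,7,7,7,9,8] (.node [7,7,9,8,10,7,7,9] .nil .nil) (.node [10,7,7,7,9,7,9,8,9] .nil .nil)) (.node [8,10,7,7,9,7,7,7] (.node [9,7,9,7,7,9,8,8,8] .nil .nil) .nil)) (.node [9,7,7,9,8,10] (.node [10,7,9,8,8,8,9] (.node [8,9,7,10,7,7,7,10] .nil .nil) (.node [7,7,9,7,7,7,7,9,8,8] .nil .nil)) (.node [10,7,7,10,7,10,8,8] (.node [7,7,7,10,7,10,8,9,8] .nil .nil) .nil))) (.node [7,7,10,7,7,7] (.node [10,8,8,8,8,9] (.node [10,8,8,10,7,10,8] (.node [7,10,8,9,8,8,8,9] .nil .nil) (.node [8,9,8,8,10,7,10,7,10] .nil .nil)) (.node [8,8,9,8,9,8,8,8] (.node [7,10,7,7,10,7,10,8,8] .nil .nil) .nil)) (.node [9,8,8,9,8,8,8] (.node [7,10,7,10,7,7,10] (.node [8,10,8,8,8,10,8,10] .nil .nil) (.node [8,8,9,7,10,8,9,7,7,9] .nil .nil)) (.node [8,10,7,9,8,8,9,8] (.node [7,9,8,10,8,10,7,7,9] .nil .nil) .nil)))) (.node [8,8,9,8,8] (.node [8,10,7,7,10] (.node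 [7,9,7,7,7,9] (.node [10,8,8,8,8,9,8] (.node [7,9,7,10,7,10,7,9] .nil .nil) (.node [9,7,10,7,9,7,7,7,10] .nil .nil)) (.node [10,7,7,10,8,9,7,7] (.node [9,7,7,10,8,8,9,8,8] .nil .nil) .nil)) (.node [8,8,8,10,7,7,7] (.node [7,7,9,7,10,8,9] (.node [10,7,7,10,7,10,7,10] .nil .nil) (.node [7,10,7,9,7,10,8,10,8,8] .nil .nil)) (.node [10,7,10,7,7,7,9,8] (.node [9,8,8,8,9,7,7,7,9] .nil .nil) .nil))) (.node [9,7,7,9,8,8] (.node [9,7,7,7,7,10] (.node [10,8,9,7,9,7,9] (.node [8,10,7,10,7,9,8,9] .nil .nil) (.node [7,9,7,7,9,7,9,7,7,7] .nil .nil)) (.node [7,7,10,8,8,9,8,8] (.node [7,10,7,10,7,7,7,9,8] .nil .nil) .nil)) (.node [10,7,9,8,9,8,8] (.node [7,10,7,10,8,8,10] (.node [10,8,9,7,7,10,7,7,7] .nil .nil) (.node [7,9,7,10,8,8,8,9,8,10] .nil .nil)) (.node [8,9,7,9,7,7,7,9] (.node [7,7,7,7,9,8,10,7,9] .nil .nil) .nil))))) (.node [10,7,10,8] (.node [8,10,7,7,7] (.node [8,10,8,8,9] (.node [10,7,10,8,9,8] (.node [10,8,8,9,7,9,8] (.node [8,8,8,10,7,9,7,9]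 .nil .nil) (.node [8,10,7,9,8,8,10,8,9] .nil .nil)) (.node [8,8,8,8,10,7,7,7] (.node [8,9,7,7,7,10,8,8,8] .nil .nil) .nil)) (.node [8,9,8,10,8,10] (.node [7,7,7,7,9,8,9] (.node [10,7,10,7,10,7,7,10] .nil .nil) (.node [9,8,8,10,8,9,7,10,8,8] .nil .nil)) (.node [7,7,7,10,8,10,8,8] (.node [7,7,10,7,7,10,7,10,8] .nil .nil) .nil))) (.node [8,10,8,10,7,7] (.node [7,9,7,9,8,9] (.node [7,9,8,9,7,7,9] (.node [8,10,7,7,10,8,8,9] .nil .nil) (.node [10,7,10,8,8,8,9,8,10] .nil .nil)) (.node [7,9,7,7,7,9,8,8] (.node [9,7,9,7,10,8,10,8,8] .nil .nil) .nil)) (.node [7,9,7,7,9,8,8] (.node [10,7,9,7,10,7,10] (.node [10,7,7,9,7,9,7,7,7] .nil .nil) (.node [10,8,8,10,8,9,8,8,8,9] .nil .nil)) (.node [9,8,10,7,7,7,10,8] (.node [7,7,7,9,7,7,10,7,9] .nil .nil) .nil)))) (.node [8,8,8,9,8] (.node [10,7,9,8,10] (.node [8,9,7,9,7,9] (.node [8,8,8,10,8,9,8] (.node [8,10,8,9,8,10,7,9] .nil .nil) (.node [10,7,7,9,7,10,7,7,10] .nil .nil)) (.node [8,8,8,10,8,10,7,7] (.node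 [8,10,7,7,7,7,10,8,8] .nil .nil) .nil)) (.node [8,9,8,8,10,7,7] (.node [9,7,9,7,7,7,10] (.node [8,10,8,8,10,8,8,10] .nil .nil) (.node [7,7,9,8,9,7,7,7,10,8] .nil .nil)) (.node [8,9,7,7,10,7,9,8] (.node [8,8,9,8,8,9,7,7,9] .nil .nil) .nil))) (.node [8,8,8,10,8,8] (.node [9,8,8,9,7,10] (.node [8,8,8,8,10,7,9] (.node [9,8,8,9,8,10,8,9] .nil .nil) (.node [8,8,10,8,8,8,8,9,7,7] .nil .nil)) (.node [8,9,7,7,7,10,8,8] (.node [7,7,9,8,8,10,7,9,8] .nil .nil) .nil)) (.node [10,7,10,7,10,8,8] (.node [7,7,10,7,10,8,10] (.node [8,10,8,8,8,8,10,7,7] .nil .nil) .nil) (.node [8,9,7,7,9,7,7,9] (.node [9,7,9,7,10,8,8,8,9] .nil .nil) .nil))))))) (.node [7,10] (.node [7,9,8] (.node [9,7,7,7] (.node [8,9,8,9] (.node [7,7,7,7,9] (.node [7,10,7,7,9,8] (.node [9,7,10,8,10,8,8] (.node [7,9,8,8,10,7,7,9] .nil .nil) (.node [8,10,8,9,7,7,9,8,9] .nil .nil)) (.node [9,7,7,7,9,7,7,7] (.node [9,8,8,9,8,8,8,8,8] .nil .nil) .nil)) (.node [9,7,10,8,8,10] (.node [8,9,8,8,8,8,9]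 (.node [8,9,7,9,7,7,7,10] .nil .nil) (.node [7,10,7,7,10,7,9,8,8,8] .nil .nil)) (.node [8,9,8,9,7,10,8,8] (.node [7,7,9,7,7,9,8,9,8] .nil .nil) .nil))) (.node [10,7,9,7,7,7] (.node [7,9,8,10,7,9] (.node [10,7,7,10,7,10,8] (.node [7,10,7,9,8,8,8,9] .nil .nil) (.node [8,9,7,7,10,7,10,7,10] .nil .nil)) (.node [9,7,10,7,9,8,8,8] (.node [10,7,10,7,9,7,10,8,8] .nil .nil) .nil)) (.node [8,9,7,9,8,8,8] (.node [9,7,7,10,7,7,10] (.node [8,8,10,7,7,10,8,10] .nil .nil) (.node [10,7,7,9,7,7,9,7,7,9] .nil .nil)) (.node [8,9,8,8,8,8,9,8] (.node [8,10,8,9,8,10,7,7,9] .nil .nil) .nil)))) (.node [8,10,8,8,8] (.node [9,7,7,7,10] (.node [8,8,10,7,10,8] (.node [7,9,8,10,7,9,8] (.node [9,8,9,7,7,10,7,9] .nil .nil) (.node [10,8,8,9,7,7,7,7,10] .nil .nil)) (.node [7,9,8,8,8,9,7,7] (.node [7,7,10,8,8,8,9,8,8] .nil .nil) .nil)) (.node [7,9,7,10,7,7,7] (.node [7,9,8,8,9,8,9] (.node [7,7,7,7,7,10,7,10] .nil .nil) (.node [9,7,10,8,8,9,8,10,8,8] .nil .nil)) (.node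 [9,8,9,7,7,7,9,8] (.node [9,7,10,7,9,7,7,7,9] .nil .nil) .nil))) (.node [8,8,10,8,8,8] (.node [10,8,8,10,8,9] (.node [7,9,7,7,9,7,9] (.node [7,7,7,9,7,9,8,9] .nil .nil) (.node [9,8,9,8,9,8,10,8,10] .nil .nil)) (.node [8,9,8,8,8,9,8,8] (.node [8,9,8,9,7,7,7,9,8] .nil .nil) .nil)) (.node [8,9,8,8,9,8,8] (.node [8,9,8,8,8,8,10] (.node [8,9,8,10,8,9,7,7,7] .nil .nil) (.node [8,8,8,9,7,7,10,7,7,10] .nil .nil)) (.node [8,9,7,7,7,7,7,9] (.node [7,10,8,9,8,8,10,7,9] .nil .nil) .nil))))) (.node [9,8,9,8] (.node [7,7,7,7,7] (.node [9,8,8,8,9] (.node [7,7,9,8,9,8] (.node [10,7,7,9,7,9,8] (.node [10,7,9,7,7,9,7,9] .nil .nil) (.node [10,7,7,7,9,7,10,8,9] .nil .nil)) (.node [9,8,10,8,9,7,7,7] (.node [8,8,8,9,8,9,8,8,8] .nil .nil) .nil)) (.node [8,8,8,10,8,10] (.node [10,7,7,10,8,8,9] (.node [8,9,7,7,10,7,7,10] .nil .nil) (.node [8,8,9,7,7,9,7,10,8,8] .nil .nil)) (.node [8,8,10,8,8,10,8,8] (.node [9,7,7,7,7,10,7,10,8] .nil .nil) .nil))) (.node [9,8,8,10,7,7]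 (.node [10,8,10,8,8,9] (.node [9,7,7,9,7,7,9] (.node [9,7,10,8,9,8,8,9] .nil .nil) (.node [8,9,8,8,8,8,9,8,10] .nil .nil)) (.node [7,7,10,8,10,8,8,8] (.node [8,8,8,10,8,8,10,8,8] .nil .nil) .nil)) (.node [7,10,8,10,8,8,8] (.node [7,10,8,8,9,7,10] (.node [9,8,9,7,7,9,7,7,7] .nil .nil) (.node [7,7,7,7,9,8,8,8,8,9] .nil .nil)) (.node [9,8,8,8,10,8,9,8] (.node [8,9,7,10,8,8,9,7,9] .nil .nil) .nil)))) (.node [7,9,7,9,8] (.node [7,10,8,8,10] (.node [7,7,7,9,7,9] (.node [9,7,7,10,8,9,8] (.node [9,8,10,8,8,10,7,9] .nil .nil) (.node [7,9,8,9,8,9,7,7,10] .nil .nil)) (.node [10,7,10,8,8,10,7,7] (.node [7,7,10,8,9,8,9,8,8] .nil .nil) .nil)) (.node [9,8,10,8,9,7,7] (.node [9,8,10,8,10,8,9] (.node [7,7,10,7,10,8,8,10] .nil .nil) (.node [10,8,8,9,8,9,8,8,9,8] .nil .nil)) (.node [9,8,8,8,9,7,9,8] (.node [10,7,9,7,7,9,7,7,9] .nil .nil) .nil))) (.node [10,7,7,10,8,8] (.node [8,9,7,9,7,10] (.node [9,7,10,7,10,7,9] (.node [8,8,9,8,8,10,8,9] .nil .nil) (.node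 [8,10,8,9,7,7,10,7,7,7] .nil .nil)) (.node [8,10,8,9,8,9,8,8] (.node [9,8,8,10,8,9,7,9,8] .nil .nil) .nil)) (.node [9,8,9,7,10,8,8] (.node [8,8,9,8,9,8,10] (.node [8,8,8,8,10,8,9,7,7] .nil .nil) (.node [8,8,8,8,10,8,10,7,9,7,9] .nil .nil)) (.node [8,8,8,10,7,7,7,9] (.node [8,8,8,8,9,8,8,8,9] .nil .nil) .nil)))))) (.node [10,8,9] (.node [7,9,8,8] (.node [7,10,7,10] (.node [9,7,9,7,9] (.node [10,7,10,7,9,8] (.node [7,10,7,7,7,9,8] (.node [10,8,9,8,10,7,7,9] .nil .nil) (.node [8,8,10,7,10,7,9,8,9] .nil .nil)) (.node [10,7,10,7,9,7,7,7] (.node [7,9,7,9,7,9,8,8,8] .nil .nil) .nil)) (.node [9,8,8,9,8,10] (.node [7,7,10,8,8,8,9] (.node [9,8,8,10,7,7,7,10] .nil .nil) (.node [8,8,9,8,8,9,8,9,8,8] .nil .nil)) (.node [9,8,8,8,8,10,8,8] (.node [7,10,8,8,8,10,8,9,8] .nil .nil) .nil))) (.node [9,8,10,7,7,7] (.node [8,8,9,8,8,9] (.node [10,7,9,7,7,7,9] (.node [8,9,7,10,8,8,8,9] .nil .nil) (.node [10,8,9,8,8,8,10,7,10] .nil .nil)) (.node [9,7,7,7,10,8,8,8]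 (.node [10,7,9,8,8,8,10,8,8] .nil .nil) .nil)) (.node [7,7,7,10,8,8,8] (.node [8,8,9,7,9,7,10] (.node [9,7,10,8,8,10,8,10] .nil .nil) (.node [9,8,9,8,10,8,10,7,7,9] .nil .nil)) (.node [8,9,8,9,8,8,9,8] (.node [7,10,7,9,7,7,9,7,9] .nil .nil) .nil)))) (.node [9,7,10,8,8] (.node [8,8,9,7,10] (.node [7,7,9,7,7,9] (.node [9,8,9,8,8,9,8] (.node [7,10,8,8,8,10,7,9] .nil .nil) (.node [9,7,9,7,10,7,7,7,10] .nil .nil)) (.node [7,9,8,10,8,9,7,7] (.node [7,9,8,10,8,8,9,8,8] .nil .nil) .nil)) (.node [7,10,7,7,9,7,7] (.node [9,7,10,7,10,8,9] (.node [8,10,8,10,7,10,7,10] .nil .nil) (.node [8,10,8,9,7,7,7,7,9,8] .nil .nil)) (.node [7,9,7,10,7,7,9,8] (.node [10,7,9,7,10,7,7,7,9] .nil .nil) .nil))) (.node [8,8,8,9,8,8] (.node [8,8,9,7,7,10] (.node [7,9,8,8,9,7,9] (.node [7,7,10,7,7,10,8,9] .nil .nil) (.node [7,9,7,7,10,7,9,7,7,7] .nil .nil)) (.node [9,8,10,8,8,9,8,8] (.node [7,7,9,7,10,7,7,9,8] .nil .nil) .nil)) (.node [7,7,7,7,10,8,8] (.node [8,8,10,7,9,8,10]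 (.node [8,8,9,8,8,10,7,7,7] .nil .nil) (.node [8,9,8,9,8,10,8,9,7,7,7] .nil .nil)) (.node [8,10,8,9,7,7,7,9] (.node [7,7,7,9,8,8,8,8,9] .nil .nil) .nil))))) (.node [7,9,7,9] (.node [10,8,9,7,7] (.node [8,8,9,8,9] (.node [7,7,7,7,10,8] (.node [9,7,7,10,7,9,8] (.node [7,7,9,8,8,9,7,9] .nil .nil) (.node [8,8,8,8,9,8,10,8,9] .nil .nil)) (.node [8,9,8,8,10,7,7,7] (.node [8,9,7,7,7,7,9,8,8] .nil .nil) .nil)) (.node [7,9,7,9,7,7,7] (.node [7,10,7,7,9,8,9] (.node [8,10,8,8,10,7,7,10] .nil .nil) (.node [8,8,10,8,8,8,8,10,8,8] .nil .nil)) (.node [9,7,7,7,7,7,9,8] (.node [7,7,9,7,7,7,7,7,9] .nil .nil) .nil))) (.node [9,7,9,8,8,8] (.node [7,7,7,10,8,9] (.node [9,8,8,10,7,7,9] (.node [9,7,7,7,7,9,8,9] .nil .nil) (.node [7,10,7,7,10,7,10,8,10] .nil .nil)) (.node [8,8,9,7,7,9,8,8] (.node [7,10,7,7,7,7,7,9,8] .nil .nil) .nil)) (.node [10,7,9,7,9,8,8] (.node [8,8,10,7,10,7,10] (.node [8,8,8,10,7,9,7,7,7] .nil .nil) (.node [7,7,10,7,7,7,7,9,8,9] .nil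 .nil)) (.node [7,10,7,7,9,7,10,8] (.node [8,10,8,10,7,7,10,7,9] .nil .nil) .nil)))) (.node [8,9,8,9,8] (.node [7,7,10,8,10] (.node [7,7,7,10,7,9] (.node [8,9,7,7,7,10,8] (.node [9,8,9,8,8,8,8,9] .nil .nil) (.node [9,7,10,8,8,10,7,7,10] .nil .nil)) (.node [10,7,7,7,9,8,8,8] (.node [9,8,10,7,7,7,10,8,8] .nil .nil) .nil)) (.node [7,7,10,8,10,7,7] (.node [8,8,10,7,7,7,10] (.node [8,9,8,8,8,9,8,10] .nil .nil) (.node [7,9,8,9,7,7,7,7,7,9] .nil .nil)) (.node [7,9,8,8,10,7,9,8] (.node [8,10,8,8,8,10,7,7,9] .nil .nil) .nil))) (.node [8,9,8,10,8,8] (.node [7,10,7,10,7,10] (.node [8,9,8,8,10,7,9] (.node [8,8,8,10,8,10,8,9] .nil .nil) (.node [10,8,8,8,9,8,8,10,7,7] .nil .nil)) (.node [7,7,7,9,7,10,8,8] (.node [7,9,8,8,8,8,8,9,8] .nil .nil) .nil)) (.node [7,9,8,8,10,8,8] (.node [10,8,8,8,10,8,10] (.node [10,8,9,8,8,8,10,7,7] .nil .nil) .nil) (.node [10,7,10,7,9,7,7,9] (.node [9,7,7,9,8,9,8,8,9] .nil .nil) .nil))))))))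

/-- Data. -/
noncomputable def words0_1 : Arr (List ℕ) := (.node [7,7] (.node [7,9] (.node [9,8,8] (.node [10,8,10] (.node [10,8,8,9] (.node [7,10,7,10,8] (.node [7,9,7,7,9,8] (.node [10,8,9,8,10,8,8] (.node [9,8,8,8,10,7,7,9] .nil .nil) (.node [8,9,8,8,8,10,8,8,9] .nil .nil)) (.node [8,8,9,8,10,8,10] (.node [7,9,8,8,10,8,10,7,7] .nil .nil) .nil)) (.node [8,9,8,8,8,10] (.node [10,8,9,8,10,7,9] (.node [10,8,9,7,7,7,7,10] .nil .nil) (.node [9,7,7,7,10,7,9,8,8,8] .nil .nil)) (.node [8,8,8,9,7,10,8,8] (.node [7,10,7,7,7,9,8,9,8] .nil .nil) .nil))) (.node [7,7,9,7,7,7] (.node [9,8,8,10,7,9] (.node [7,7,7,10,7,10,8] (.node [7,9,7,9,8,8,8,9] .nil .nil) (.node [10,7,7,7,7,7,10,7,10] .nil .nil)) (.node [9,8,9,7,9,8,8,8] (.node [7,10,7,7,9,7,10,8,8] .nil .nil) .nil)) (.node [9,7,7,9,8,8,8] (.node [8,9,8,9,7,7,10] (.node [7,7,7,7,7,10,8,10] .nil .nil) (.node [7,7,7,9,7,7,9,7,7,9] .nil .nil)) (.node [9,8,8,8,8,8,9,8] (.node [7,10,7,9,8,10,7,7,9]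 .nil .nil) .nil)))) (.node [8,9,8,8,8] (.node [10,8,10,8,9] (.node [9,7,10,7,10,8] (.node [9,8,8,10,7,9,8] (.node [8,8,10,8,8,9,7,9] .nil .nil) (.node [8,8,8,9,7,7,7,7,10] .nil .nil)) (.node [9,8,8,8,8,9,7,7] (.node [7,9,8,8,8,8,9,8,8] .nil .nil) .nil)) (.node [8,10,8,9,7,7,7] (.node [9,7,10,7,9,8,9] (.node [7,10,8,8,8,9,7,10] .nil .nil) (.node [8,9,8,8,10,8,8,10,8,8] .nil .nil)) (.node [10,7,9,7,7,7,9,8] (.node [10,7,10,7,7,7,7,7,9] .nil .nil) .nil))) (.node [9,7,10,8,8,8] (.node [8,8,8,10,8,9] (.node [7,7,7,7,9,7,9] (.node [7,7,10,7,7,9,8,9] .nil .nil) (.node [8,10,8,8,9,8,10,8,10] .nil .nil)) (.node [9,8,8,8,8,9,8,8] (.node [7,10,7,9,7,7,7,9,8] .nil .nil) .nil)) (.node [10,8,8,8,9,8,8] (.node [8,10,8,8,10,7,10] (.node [7,9,8,9,8,9,7,7,7] .nil .nil) (.node [8,10,7,7,7,9,7,10,8,9] .nil .nil)) (.node [7,10,8,8,10,7,10,8] (.node [10,8,10,8,8,8,10,7,9] .nil .nil) .nil))))) (.node [10,7,9,8] (.node [7,10,8,10] (.node [9,8,10,7,9] (.node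 [8,9,8,8,9,8] (.node [7,7,7,9,7,9,8] (.node [10,8,10,8,10,7,7,9] .nil .nil) (.node [7,7,7,7,9,7,10,8,9] .nil .nil)) (.node [9,8,9,8,9,7,7,7] (.node [8,9,7,10,7,9,8,8,8] .nil .nil) .nil)) (.node [7,9,7,10,8,10] (.node [7,7,7,10,8,8,9] (.node [9,7,7,7,10,7,7,10] .nil .nil) (.node [7,9,8,9,7,7,7,10,8,8] .nil .nil)) (.node [7,7,9,8,8,10,8,8] (.node [8,8,10,7,7,9,7,10,8] .nil .nil) .nil))) (.node [8,10,8,9,7,7] (.node [8,8,10,8,8,9] (.node [8,8,10,7,7,7,9] (.node [10,7,9,8,9,8,8,9] .nil .nil) (.node [8,10,7,10,7,10,8,8,10] .nil .nil)) (.node [8,9,8,8,10,8,8,8] (.node [9,8,10,8,8,8,10,8,8] .nil .nil) .nil)) (.node [9,8,8,10,8,8,8] (.node [7,9,8,8,9,7,10] (.node [8,9,8,9,8,10,8,10] .nil .nil) (.node [8,9,7,7,7,9,8,10,7,9] .nil .nil)) (.node [7,7,10,7,10,8,9,8] (.node [8,10,7,9,8,8,9,7,9] .nil .nil) .nil)))) (.node [9,7,7,9,8] (.node [9,8,8,8,10] (.node [9,8,10,7,7,9] (.node [9,7,7,9,8,9,8] (.node [10,7,10,8,8,10,7,9] .nil .nil) (.node [9,8,8,8,10,7,7,7,10]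 .nil .nil)) (.node [8,8,9,8,8,10,7,7] (.node [9,8,9,8,9,8,9,8,8] .nil .nil) .nil)) (.node [9,7,10,8,9,7,7] (.node [9,7,10,8,10,8,9] (.node [8,8,8,10,8,8,8,10] .nil .nil) (.node [7,9,8,8,8,9,8,8,9,8] .nil .nil)) (.node [7,10,7,7,9,7,9,8] (.node [7,7,9,7,7,9,7,7,9] .nil .nil) .nil))) (.node [7,7,7,10,8,8] (.node [8,8,10,7,7,10] (.node [8,9,7,7,10,7,9] (.node [7,7,9,8,8,10,8,9] .nil .nil) (.node [9,8,8,9,7,7,10,7,7,7] .nil .nil)) (.node [8,9,8,9,8,9,8,8] (.node [7,9,8,8,8,9,7,9,8] .nil .nil) .nil)) (.node [10,7,9,7,10,8,8] (.node [9,7,9,8,9,8,10] (.node [7,7,7,7,10,8,9,7,7] .nil .nil) (.node [8,10,7,7,9,7,7,9,7,7,9] .nil .nil)) (.node [7,10,7,10,7,7,7,9] (.node [8,9,7,7,9,8,8,8,9] .nil .nil) .nil)))))) (.node [8,8,9] (.node [9,8,8,8] (.node [7,9,7,10] (.node [8,10,7,7,9] (.node [7,7,10,7,9,8] (.node [7,9,7,7,7,9,8] (.node [10,7,9,8,10,7,7,9] .nil .nil) (.node [8,10,7,7,9,7,9,8,9] .nil .nil)) (.node [10,7,9,7,9,7,7,7] (.node [8,8,9,7,7,9,8,8,8]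 .nil .nil) .nil)) (.node [8,10,7,9,8,10] (.node [9,8,9,8,8,8,9] (.node [8,10,7,10,7,7,7,10] .nil .nil) (.node [7,7,7,7,10,8,8,9,8,8] .nil .nil)) (.node [8,9,7,10,7,10,8,8] (.node [10,8,8,8,8,10,8,9,8] .nil .nil) .nil))) (.node [10,7,10,7,7,7] (.node [8,9,8,8,8,9] (.node [10,7,7,7,7,7,9] (.node [7,7,7,10,8,8,8,9] .nil .nil) (.node [10,8,8,8,8,8,10,7,10] .nil .nil)) (.node [10,8,10,8,9,8,8,8] (.node [8,9,8,8,8,8,10,8,8] .nil .nil) .nil)) (.node [8,9,8,9,8,8,8] (.node [10,8,8,10,7,7,10] (.node [8,8,9,8,8,10,8,10] .nil .nil) (.node [7,7,9,7,10,8,10,7,7,9] .nil .nil)) (.node [9,8,8,9,8,8,9,8] (.node [7,10,8,10,8,10,7,7,9] .nil .nil) .nil)))) (.node [10,8,9,8,8] (.node [9,7,9,7,10] (.node [7,10,7,7,7,9] (.node [10,7,9,8,8,9,8] (.node [8,10,8,10,7,10,7,9] .nil .nil) (.node [9,8,10,7,9,7,7,7,10] .nil .nil)) (.node [8,8,8,10,8,9,7,7] (.node [9,8,8,10,8,8,9,8,8] .nil .nil) .nil)) (.node [7,9,8,10,7,7,7] (.node [10,8,9,7,10,8,9] (.node [8,8,8,10,7,10,7,10]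 .nil .nil) (.node [10,7,7,9,7,7,7,7,9,8] .nil .nil)) (.node [8,8,8,9,7,7,9,8] (.node [10,7,7,7,10,7,7,7,9] .nil .nil) .nil))) (.node [7,10,7,9,8,8] (.node [7,10,7,7,7,10] (.node [9,8,10,7,9,7,9] (.node [8,8,10,8,8,9,8,9] .nil .nil) (.node [8,10,7,7,9,7,9,7,7,7] .nil .nil)) (.node [10,7,10,8,8,9,8,8] (.node [10,8,8,10,7,7,7,9,8] .nil .nil) .nil)) (.node [9,8,9,8,9,8,8] (.node [10,8,8,10,8,8,10] (.node [9,8,8,8,8,10,7,7,7] .nil .nil) (.node [10,7,9,7,7,9,7,9,7,7,7] .nil .nil)) (.node [8,10,7,9,7,7,7,9] (.node [10,7,7,7,9,8,10,7,9] .nil .nil) .nil))))) (.node [9,7,7,9] (.node [8,8,9,7,7] (.node [9,7,9,8,9] (.node [9,8,10,8,9,8] (.node [8,10,8,9,7,9,8] (.node [7,9,8,10,7,9,7,9] .nil .nil) (.node [7,9,7,10,8,8,10,8,9] .nil .nil)) (.node [10,8,8,8,10,7,7,7] (.node [8,8,8,10,7,10,8,8,8] .nil .nil) .nil)) (.node [9,7,7,9,7,7,7] (.node [10,7,7,7,9,8,9] (.node [10,8,8,8,10,7,7,10] .nil .nil) (.node [8,8,9,8,8,8,8,10,8,8] .nil .nil)) (.node [7,10,7,10,8,10,8,8]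 (.node [9,7,10,8,8,10,7,10,8] .nil .nil) .nil))) (.node [10,8,8,8,8,8] (.node [9,8,8,9,8,9] (.node [8,10,8,9,7,7,9] (.node [8,8,8,8,10,8,8,9] .nil .nil) (.node [7,7,10,7,9,8,9,8,10] .nil .nil)) (.node [8,10,7,7,7,9,8,8] (.node [7,7,10,7,10,8,10,8,8] .nil .nil) .nil)) (.node [7,7,9,7,9,8,8] (.node [9,7,10,7,10,7,10] (.node [9,7,7,10,7,9,7,7,7] .nil .nil) (.node [8,9,7,9,7,10,8,8,8,9] .nil .nil)) (.node [9,7,7,7,9,7,10,8] (.node [10,7,7,9,7,7,10,7,9] .nil .nil) .nil)))) (.node [10,8,8,9,8] (.node [9,8,9,8,10] (.node [9,8,8,9,7,9] (.node [7,9,8,10,8,9,8] (.node [10,7,9,8,8,8,8,9] .nil .nil) (.node [7,10,7,10,7,10,7,7,10] .nil .nil)) (.node [8,8,9,8,8,8,8,8] (.node [10,7,9,7,7,7,10,8,8] .nil .nil) .nil)) (.node [8,10,8,8,10,7,7] (.node [9,7,10,7,7,7,10] (.node [10,8,8,8,8,9,8,10] .nil .nil) (.node [10,7,7,7,7,7,10,7,10,8] .nil .nil)) (.node [8,8,8,8,10,7,9,8] (.node [10,7,7,10,8,9,7,7,9] .nil .nil) .nil))) (.node [10,8,8,10,8,8] (.node [7,7,7,10,7,10]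 (.node [10,8,8,8,10,7,9] (.node [10,7,7,10,8,10,8,9] .nil .nil) (.node [7,7,7,10,8,8,8,10,7,7] .nil .nil)) (.node [9,8,10,7,7,10,8,8] (.node [7,9,8,10,8,10,7,9,8] .nil .nil) .nil)) (.node [9,8,8,8,10,8,8] (.node [8,8,8,8,10,8,10] (.node [9,7,9,8,8,8,10,7,7] .nil .nil) .nil) (.node [8,10,7,7,9,7,7,9] (.node [7,7,10,7,10,8,8,8,9] .nil .nil) .nil))))))) (.node [7,7,7] (.node [7,10,8] (.node [7,9,7,7] (.node [8,10,8,9] (.node [10,7,7,7,9] (.node [10,7,9,7,9,8] (.node [8,8,10,8,10,8,8] (.node [7,10,8,8,10,7,7,9] .nil .nil) (.node [7,10,7,10,7,7,9,8,9] .nil .nil)) (.node [8,9,7,7,9,7,7,7] (.node [7,10,7,7,7,9,8,8,8] .nil .nil) .nil)) (.node [8,8,10,8,8,10] (.node [7,7,9,8,8,8,9] (.node [8,10,7,9,7,7,7,10] .nil .nil) (.node [7,9,7,7,7,7,10,8,8,8] .nil .nil)) (.node [7,7,7,10,7,10,8,8] (.node [8,8,9,7,7,10,8,9,8] .nil .nil) .nil))) (.node [9,8,9,7,7,7] (.node [8,8,8,8,8,9] (.node [8,8,8,10,7,10,8] (.node [9,8,8,9,8,8,8,9] .nil .nil) (.node [8,8,8,8,10,7,10,7,10]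 .nil .nil)) (.node [9,8,8,8,9,8,8,8] (.node [8,9,8,8,9,7,10,8,8] .nil .nil) .nil)) (.node [8,10,7,9,8,8,8] (.node [7,9,7,10,7,7,10] (.node [8,8,8,8,8,10,8,10] .nil .nil) (.node [9,7,7,10,7,7,9,7,7,9] .nil .nil)) (.node [7,9,7,9,8,8,9,8] (.node [9,8,8,10,8,10,7,7,9] .nil .nil) .nil)))) (.node [9,7,9,8,8] (.node [8,9,7,7,10] (.node [10,8,10,7,10,8] (.node [8,8,8,8,8,9,8] (.node [8,8,10,7,7,10,7,9] .nil .nil) (.node [10,7,9,7,9,7,7,7,10] .nil .nil)) (.node [7,7,7,10,8,9,7,7] (.node [8,8,8,9,8,8,9,8,8] .nil .nil) .nil)) (.node [7,10,7,10,7,7,7] (.node [10,7,7,7,10,8,9] (.node [8,9,7,7,7,10,7,10] .nil .nil) (.node [7,9,7,9,7,10,8,10,8,8] .nil .nil)) (.node [7,7,10,7,7,7,9,8] (.node [9,8,10,7,9,7,7,7,9] .nil .nil) .nil))) (.node [10,8,10,8,8,8] (.node [7,10,8,10,8,9] (.node [7,10,7,7,9,7,9] (.node [10,7,7,9,7,9,8,9] .nil .nil) (.node [8,9,8,9,7,7,9,7,7,7] .nil .nil)) (.node [8,10,8,8,8,9,8,8] (.node [8,10,8,9,7,7,7,9,8] .nil .nil) .nil)) (.node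 [8,10,8,8,9,8,8] (.node [8,8,10,8,8,8,10] (.node [8,8,9,7,7,10,7,7,7] .nil .nil) (.node [9,8,8,10,7,10,7,10,7,10] .nil .nil)) (.node [8,10,7,7,7,7,7,9] (.node [8,8,8,10,8,8,10,7,9] .nil .nil) .nil))))) (.node [7,7,10,8] (.node [8,9,7,7,7] (.node [8,9,8,8,9] (.node [7,7,10,8,9,8] (.node [8,8,8,9,7,9,8] (.node [8,9,8,9,7,9,7,9] .nil .nil) (.node [9,7,7,9,8,8,10,8,9] .nil .nil)) (.node [8,9,7,7,10,7,7,7] (.node [9,7,7,7,7,10,8,8,8] .nil .nil) .nil)) (.node [10,8,8,10,8,10] (.node [7,10,7,10,8,8,9] (.node [8,8,9,7,10,7,7,10] .nil .nil) (.node [9,8,8,8,8,9,7,10,8,8] .nil .nil)) (.node [10,8,8,9,8,10,8,8] (.node [7,9,7,7,7,10,7,10,8] .nil .nil) .nil))) (.node [7,9,8,10,7,7] (.node [9,7,7,9,8,9] (.node [7,10,7,9,7,7,9] (.node [10,7,7,7,10,8,8,9] .nil .nil) (.node [10,8,9,8,8,8,9,8,10] .nil .nil)) (.node [9,7,7,7,7,9,8,8] (.node [7,10,8,8,9,8,10,8,8] .nil .nil) .nil)) (.node [9,7,7,7,9,8,8] (.node [9,7,7,7,10,7,10] (.node [8,8,10,7,7,9,7,7,7]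 .nil .nil) (.node [7,7,7,7,7,9,8,8,8,9] .nil .nil)) (.node [8,8,9,8,10,8,9,8] (.node [9,8,8,10,8,8,9,7,9] .nil .nil) .nil)))) (.node [7,10,7,9,8] (.node [7,7,9,8,10] (.node [10,7,7,9,7,9] (.node [7,9,7,10,8,9,8] (.node [7,7,7,9,8,10,7,9] .nil .nil) (.node [8,8,9,7,7,10,7,7,10] .nil .nil)) (.node [7,7,7,9,8,10,7,7] (.node [10,8,10,8,9,8,9,8,8] .nil .nil) .nil)) (.node [9,8,8,8,10,7,7] (.node [7,9,7,7,7,7,10] (.node [10,7,10,7,10,8,8,10] .nil .nil) (.node [8,10,8,9,7,7,10,8,9,8] .nil .nil)) (.node [8,8,10,8,9,7,9,8] (.node [7,7,10,7,7,9,7,7,9] .nil .nil) .nil))) (.node [8,9,7,10,8,8] (.node [8,10,7,9,7,10] (.node [9,8,10,7,10,7,9] (.node [9,7,10,8,8,10,8,9] .nil .nil) (.node [8,9,7,7,10,7,10,7,7,7] .nil .nil)) (.node [10,7,7,7,7,10,8,8] (.node [10,8,8,9,7,10,7,9,8] .nil .nil) .nil)) (.node [7,7,10,7,10,8,8] (.node [7,7,7,7,10,8,10] (.node [8,9,8,8,10,8,9,7,7] .nil .nil) (.node [7,7,10,7,7,7,9,7,9,8,9] .nil .nil)) (.node [9,7,7,7,9,7,7,9]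 (.node [8,8,10,8,9,8,8,8,9] .nil .nil) .nil)))))) (.node [9,7,10] (.node [7,10,8,8] (.node [8,8,8,10] (.node [8,8,9,7,9] (.node [9,8,10,7,9,8] (.node [8,8,9,7,7,9,8] (.node [9,7,10,8,10,7,7,9] .nil .nil) (.node [9,7,7,9,8,8,9,8,9] .nil .nil)) (.node [7,9,8,8,9,7,7,7] (.node [8,9,8,9,7,9,8,8,8] .nil .nil) .nil)) (.node [8,9,8,9,8,10] (.node [10,7,10,8,8,8,9] (.node [7,9,8,8,9,7,7,10] .nil .nil) (.node [10,8,9,8,8,9,8,9,8,8] .nil .nil)) (.node [7,9,8,8,8,10,8,8] (.node [7,9,8,9,7,7,7,10,8] .nil .nil) .nil))) (.node [10,7,7,9,7,7] (.node [10,8,9,8,8,9] (.node [10,8,9,7,7,7,9] (.node [8,10,7,10,8,8,8,9] .nil .nil) (.node [8,10,7,10,8,8,10,7,10] .nil .nil)) (.node [9,7,9,7,10,8,8,8] (.node [10,8,9,8,8,8,10,8,8] .nil .nil) .nil)) (.node [8,9,7,10,8,8,8] (.node [9,7,10,7,9,7,10] (.node [8,8,8,9,8,10,8,10] .nil .nil) (.node [8,8,8,10,8,10,7,9,7,9] .nil .nil)) (.node [10,7,7,7,9,8,9,8] (.node [7,7,9,8,10,7,9,7,9] .nil .nil) .nil)))) (.node [8,8,10,8,8]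 (.node [9,7,10,7,10] (.node [8,8,9,7,7,9] (.node [8,8,10,8,8,9,8] (.node [8,8,9,8,8,10,7,9] .nil .nil) (.node [7,7,10,7,10,7,7,7,10] .nil .nil)) (.node [10,8,8,8,8,10,7,7] (.node [7,7,10,7,9,8,9,8,8] .nil .nil) .nil)) (.node [9,8,8,8,9,7,7] (.node [8,9,8,8,10,8,9] (.node [8,9,8,8,8,10,7,10] .nil .nil) (.node [8,10,7,10,7,7,9,7,9,8] .nil .nil)) (.node [7,7,7,7,9,7,9,8] (.node [9,8,8,8,10,7,7,7,9] .nil .nil) .nil))) (.node [10,8,8,9,8,8] (.node [10,8,9,7,7,10] (.node [7,10,8,8,9,7,9] (.node [7,7,7,9,7,10,8,9] .nil .nil) (.node [7,7,7,10,8,8,9,7,7,7] .nil .nil)) (.node [7,9,7,9,8,9,8,8] (.node [9,7,9,7,7,9,7,9,8] .nil .nil) .nil)) (.node [10,7,7,7,10,8,8] (.node [9,8,8,8,9,8,10] (.node [8,9,8,8,8,8,9,7,7] .nil .nil) (.node [7,7,7,7,7,10,8,8,9,8,8] .nil .nil)) (.node [9,7,7,10,7,7,7,9] (.node [7,9,8,9,8,8,8,8,9] .nil .nil) .nil))))) (.node [7,10,7,9] (.node [9,8,10,7,7] (.node [9,7,10,8,9] (.node [10,7,7,7,10,8] (.node [8,9,7,10,7,9,8] (.node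 [10,7,9,8,8,9,7,9] .nil .nil) (.node [7,7,9,8,10,8,10,8,9] .nil .nil)) (.node [10,7,7,7,7,9,7,7] (.node [7,7,9,7,7,7,9,8,8] .nil .nil) .nil)) (.node [8,10,7,9,7,7,7] (.node [7,7,9,7,9,8,9] (.node [8,8,8,9,7,9,7,10] .nil .nil) (.node [8,10,7,9,8,8,8,10,8,8] .nil .nil)) (.node [7,9,7,7,7,7,9,8] (.node [8,8,9,7,7,7,7,7,9] .nil .nil) .nil))) (.node [8,8,9,8,8,8] (.node [10,7,7,10,8,9] (.node [7,9,8,10,7,7,9] (.node [7,9,7,7,7,9,8,9] .nil .nil) (.node [8,9,8,8,8,8,10,8,10] .nil .nil)) (.node [7,10,7,9,7,9,8,8] (.node [7,7,9,7,7,7,7,9,8] .nil .nil) .nil)) (.node [9,7,10,7,9,8,8] (.node [8,8,8,8,10,7,10] (.node [10,8,8,10,7,9,7,7,7] .nil .nil) (.node [7,7,10,7,10,7,7,9,8,9] .nil .nil)) (.node [7,7,7,7,10,7,10,8] (.node [9,8,9,8,8,8,10,7,9] .nil .nil) .nil)))) (.node [8,10,8,9,8] (.node [10,7,10,8,10] (.node [10,7,7,10,7,9] (.node [7,7,7,9,7,10,8] (.node [9,7,10,8,8,8,8,9] .nil .nil) (.node [9,8,9,7,9,7,9,7,10] .nil .nil)) (.node [8,9,7,7,9,8,8,8]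 (.node [8,9,8,10,7,7,10,8,8] .nil .nil) .nil)) (.node [8,9,8,8,8,8,8] (.node [8,8,8,9,7,7,10] (.node [7,7,9,8,8,9,8,10] .nil .nil) (.node [7,10,7,9,7,9,7,7,7,9] .nil .nil)) (.node [8,10,8,8,10,7,9,8] (.node [9,8,9,8,8,10,7,7,9] .nil .nil) .nil))) (.node [8,10,8,10,8,8] (.node [8,8,8,10,7,10] (.node [8,10,8,8,10,7,9] (.node [8,9,8,10,8,10,8,9] .nil .nil) (.node [10,7,7,7,7,9,8,10,7,7] .nil .nil)) (.node [10,7,7,9,7,10,8,8] (.node [7,10,8,8,8,8,8,9,8] .nil .nil) .nil)) (.node [7,10,8,8,10,8,8] (.node [8,9,8,8,10,8,10] (.node [8,8,8,9,8,8,10,7,7] .nil .nil) .nil) (.node [9,7,9,8,9,7,7,9] (.node [8,9,7,10,8,9,8,8,9] .nil .nil) .nil))))))))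

/-- Data. -/
noncomputable def words0_2 : Arr (List ℕ) := (.node [10] (.node [10,8] (.node [8,8,8] (.node [9,8,10] (.node [9,8,8,9] (.node [8,9,7,10,8] (.node [10,7,7,7,9,8] (.node [9,8,9,8,10,8,8] (.node [8,8,8,8,10,7,7,9] .nil .nil) (.node [9,8,8,8,8,10,8,8,9] .nil .nil)) (.node [9,7,9,8,10,8,10] (.node [10,8,8,8,10,8,10,7,7] .nil .nil) .nil)) (.node [10,8,8,8,8,10] (.node [9,8,9,8,10,7,9] (.node [9,8,9,7,7,7,7,10] .nil .nil) (.node [7,7,7,9,7,7,9,8,8,8] .nil .nil)) (.node [8,10,7,9,7,10,8,8] (.node [8,8,9,8,9,8,8,9,8] .nil .nil) .nil))) (.node [10,8,10,8,10] (.node [8,8,8,10,7,9] (.node [8,9,7,9,7,10,8] (.node [9,7,7,9,8,8,8,9] .nil .nil) (.node [7,9,7,10,8,8,9,7,10] .nil .nil)) (.node [8,8,9,7,9,8,8,8] (.node [8,9,7,7,9,7,10,8,8] .nil .nil) .nil)) (.node [7,7,7,9,8,8,8] (.node [7,9,8,9,7,7,10] (.node [7,10,7,9,8,9,8,10] .nil .nil) (.node [8,10,7,7,7,10,7,7,7,9] .nil .nil)) (.node [10,8,10,8,10,7,9,8] (.node [7,9,7,9,8,10,7,7,9]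 .nil .nil) .nil)))) (.node [7,9,8,8,8] (.node [9,8,10,8,9] (.node [7,7,10,7,10,8] (.node [8,8,8,10,7,9,8] (.node [10,7,10,8,8,9,7,9] .nil .nil) (.node [7,7,10,8,10,8,10,8,9] .nil .nil)) (.node [10,7,10,7,7,9,7,7] (.node [8,8,10,7,9,7,9,8,8] .nil .nil) .nil)) (.node [8,9,8,9,7,7,7] (.node [7,7,10,7,9,8,9] (.node [8,9,7,10,7,9,7,10] .nil .nil) (.node [10,7,7,7,9,8,8,10,8,8] .nil .nil)) (.node [9,7,9,7,7,7,9,8] (.node [9,7,10,7,7,7,7,7,9] .nil .nil) .nil))) (.node [7,7,10,8,8,8] (.node [7,10,7,10,8,9] (.node [8,10,8,10,7,7,9] (.node [10,8,9,7,7,9,8,9] .nil .nil) (.node [7,9,8,8,9,8,10,8,10] .nil .nil)) (.node [7,10,7,10,7,9,8,8] (.node [10,8,9,7,7,7,7,9,8] .nil .nil) .nil)) (.node [9,8,8,8,9,8,8] (.node [7,10,8,8,10,7,10] (.node [10,7,10,8,8,9,7,7,7] .nil .nil) (.node [10,8,8,9,7,10,7,9,8,9] .nil .nil)) (.node [8,8,8,8,10,7,10,8] (.node [9,8,10,8,8,8,10,7,9] .nil .nil) .nil))))) (.node [9,7,9,8] (.node [8,9,8,10] (.node [8,8,10,7,9] (.node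 [7,9,8,8,9,8] (.node [10,7,10,7,7,9,8] (.node [9,8,10,8,10,7,7,9] .nil .nil) (.node [8,9,7,10,7,7,10,8,9] .nil .nil)) (.node [8,8,9,8,9,7,7,7] (.node [10,7,7,10,7,9,8,8,8] .nil .nil) .nil)) (.node [10,7,7,10,8,10] (.node [7,10,8,9,8,8,9] (.node [7,7,7,7,10,7,7,10] .nil .nil) (.node [10,7,7,9,7,7,7,10,8,8] .nil .nil)) (.node [8,10,8,8,8,10,8,8] (.node [7,7,10,7,7,9,7,10,8] .nil .nil) .nil))) (.node [7,10,8,9,7,7] (.node [10,7,10,8,8,9] (.node [10,7,10,7,7,7,9] (.node [9,7,9,8,9,8,8,9] .nil .nil) (.node [9,7,7,10,7,10,8,8,10] .nil .nil)) (.node [8,8,10,7,10,8,8,8] (.node [8,8,10,8,8,8,10,8,8] .nil .nil) .nil)) (.node [8,8,8,10,8,8,8] (.node [10,8,8,8,9,7,10] (.node [7,9,8,9,8,10,8,10] .nil .nil) (.node [9,7,7,7,7,9,8,10,7,9] .nil .nil)) (.node [8,9,7,7,10,8,9,8] (.node [7,10,7,9,8,8,9,7,9] .nil .nil) .nil)))) (.node [7,7,7,9,8] (.node [8,8,8,8,10] (.node [8,8,10,7,7,9] (.node [7,7,7,9,8,9,8] (.node [9,7,10,8,8,10,7,9] .nil .nil) (.node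 [8,8,8,8,10,7,7,7,10] .nil .nil)) (.node [7,10,8,8,8,10,7,7] (.node [8,10,8,8,9,8,9,8,8] .nil .nil) .nil)) (.node [7,7,10,8,9,7,7] (.node [7,7,10,8,10,8,9] (.node [8,8,9,8,8,8,8,10] .nil .nil) (.node [9,8,9,8,10,8,10,7,9,8] .nil .nil)) (.node [8,9,7,7,9,7,9,8] (.node [7,9,7,7,7,9,7,7,9] .nil .nil) .nil))) (.node [8,10,8,9,8,8] (.node [10,7,10,7,7,10] (.node [7,9,7,7,10,7,9] (.node [8,9,7,10,7,10,8,9] .nil .nil) (.node [10,8,9,8,10,8,9,7,7,7] .nil .nil)) (.node [10,8,8,9,8,9,8,8] (.node [9,8,8,10,7,9,7,9,8] .nil .nil) .nil)) (.node [9,7,9,7,10,8,8] (.node [7,7,9,8,9,8,10] (.node [9,7,10,8,8,8,9,7,7] .nil .nil) (.node [8,8,10,7,10,7,7,7,7,7,9] .nil .nil)) (.node [8,9,7,10,7,7,7,9] (.node [7,7,7,7,9,8,8,8,9] .nil .nil) .nil)))))) (.node [10,7,9] (.node [8,8,8,8] (.node [10,7,7,10] (.node [7,10,7,7,9] (.node [10,8,9,7,9,8] (.node [10,7,7,7,7,9,8] (.node [9,7,9,8,10,7,7,9] .nil .nil) (.node [7,9,7,7,9,7,9,8,9] .nil .nil)) (.node [7,7,9,7,9,7,7,7]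 (.node [10,7,9,7,7,9,8,8,8] .nil .nil) .nil)) (.node [10,7,7,9,8,10] (.node [8,8,9,8,8,8,9] (.node [7,10,7,10,7,7,7,10] .nil .nil) (.node [7,10,7,10,7,9,7,9,8,8] .nil .nil)) (.node [7,9,7,10,7,10,8,8] (.node [9,8,8,8,8,10,8,9,8] .nil .nil) .nil))) (.node [9,7,10,7,7,7] (.node [7,9,8,8,8,9] (.node [9,7,7,7,7,7,9] (.node [8,10,8,9,8,8,8,9] .nil .nil) (.node [9,8,8,8,8,8,10,7,10] .nil .nil)) (.node [9,8,10,8,9,8,8,8] (.node [8,10,7,7,10,7,10,8,8] .nil .nil) .nil)) (.node [7,9,8,9,8,8,8] (.node [8,8,8,10,7,7,10] (.node [7,7,9,8,8,10,8,10] .nil .nil) (.node [8,10,7,7,9,8,10,7,7,9] .nil .nil)) (.node [8,8,8,9,8,8,9,8] (.node [8,9,8,10,8,10,7,7,9] .nil .nil) .nil)))) (.node [9,8,9,8,8] (.node [7,7,9,7,10] (.node [8,9,7,7,7,9] (.node [9,7,9,8,8,9,8] (.node [8,10,7,10,7,10,7,9] .nil .nil) (.node [10,7,10,7,9,7,7,7,10] .nil .nil)) (.node [8,9,7,10,8,9,7,7] (.node [7,9,7,10,8,8,9,8,8] .nil .nil) .nil)) (.node [9,8,8,10,7,7,7] (.node [8,8,9,7,10,8,9]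 (.node [8,10,7,10,7,10,7,10] .nil .nil) (.node [9,7,7,9,7,7,7,7,9,8] .nil .nil)) (.node [8,8,10,7,7,7,9,8] (.node [10,8,8,8,9,7,7,7,9] .nil .nil) .nil))) (.node [7,9,7,9,8,8] (.node [7,9,7,7,7,10] (.node [8,8,10,7,9,7,9] (.node [7,7,9,8,8,9,8,9] .nil .nil) (.node [7,10,7,7,9,7,9,7,7,7] .nil .nil)) (.node [9,7,10,8,8,9,8,8] (.node [8,10,7,10,7,7,7,9,8] .nil .nil) .nil)) (.node [8,8,9,8,9,8,8] (.node [9,8,8,10,8,8,10] (.node [9,7,7,10,7,10,7,7,7] .nil .nil) (.node [10,7,7,9,7,9,8,10,8,10] .nil .nil)) (.node [7,10,7,9,7,7,7,9] (.node [9,7,7,7,9,8,10,7,9] .nil .nil) .nil))))) (.node [7,7,7,9] (.node [7,7,9,7,7] (.node [7,7,9,8,9] (.node [8,8,10,8,9,8] (.node [8,9,8,9,7,9,8] (.node [9,8,8,10,7,9,7,9] .nil .nil) (.node [7,9,8,9,8,8,10,8,9] .nil .nil)) (.node [9,8,8,8,10,7,7,7] (.node [7,10,7,7,7,10,8,8,8] .nil .nil) .nil)) (.node [7,7,7,9,7,7,7] (.node [9,7,7,7,9,8,9] (.node [9,8,8,8,10,7,7,10] .nil .nil) (.node [9,7,10,7,7,10,7,10,8,8] .nil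 .nil)) (.node [7,9,7,10,8,10,8,8] (.node [9,8,8,8,8,10,7,10,8] .nil .nil) .nil))) (.node [9,8,8,8,8,8] (.node [7,10,7,9,8,9] (.node [7,10,8,9,7,7,9] (.node [8,8,9,7,10,8,8,9] .nil .nil) (.node [10,7,7,9,8,8,9,8,10] .nil .nil)) (.node [8,9,7,7,7,9,8,8] (.node [10,7,9,7,10,8,10,8,8] .nil .nil) .nil)) (.node [8,9,7,7,9,8,8] (.node [7,7,10,7,10,7,10] (.node [8,10,7,9,7,9,7,7,7] .nil .nil) (.node [7,9,7,9,7,10,8,8,8,9] .nil .nil)) (.node [10,8,10,7,7,7,10,8] (.node [9,7,7,9,7,7,10,7,9] .nil .nil) .nil)))) (.node [9,8,8,9,8] (.node [8,8,9,8,10] (.node [8,10,7,9,7,9] (.node [9,8,8,10,8,9,8] (.node [7,7,9,8,8,8,8,9] .nil .nil) (.node [8,8,8,9,7,10,7,7,10] .nil .nil)) (.node [9,8,8,10,8,10,7,7] (.node [7,7,9,7,7,7,10,8,8] .nil .nil) .nil)) (.node [7,10,8,8,10,7,7] (.node [10,7,9,7,7,7,10] (.node [9,8,8,8,8,9,8,10] .nil .nil) (.node [10,8,9,7,7,7,9,7,10,8] .nil .nil)) (.node [8,8,9,7,10,7,9,8] (.node [7,7,7,10,8,9,7,7,9] .nil .nil) .nil))) (.node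 [9,8,8,10,8,8] (.node [10,8,8,9,7,10] (.node [9,8,8,8,10,7,9] (.node [9,7,7,10,8,10,8,9] .nil .nil) (.node [7,7,7,7,7,10,8,9,7,7] .nil .nil)) (.node [8,10,7,7,7,10,8,8] (.node [10,7,9,8,8,10,7,9,8] .nil .nil) .nil)) (.node [8,8,8,8,10,8,8] (.node [10,7,10,7,10,8,10] (.node [7,7,9,8,8,8,10,7,7] .nil .nil) .nil) (.node [7,10,7,7,9,7,7,9] (.node [10,7,9,7,10,8,8,8,9] .nil .nil) .nil))))))) (.node [8,10] (.node [8,9,8] (.node [10,7,7,7] (.node [7,10,8,9] (.node [9,7,7,7,9] (.node [7,7,9,7,9,8] (.node [10,7,10,8,10,8,8] (.node [8,9,8,8,10,7,7,9] .nil .nil) (.node [10,7,7,10,7,7,9,8,9] .nil .nil)) (.node [7,9,7,7,9,7,7,7] (.node [8,9,7,7,7,9,8,8,8] .nil .nil) .nil)) (.node [10,7,10,8,8,10] (.node [7,10,8,8,8,8,9] (.node [7,10,7,9,7,7,7,10] .nil .nil) (.node [10,8,9,7,10,7,9,8,8,8] .nil .nil)) (.node [8,10,8,9,7,10,8,8] (.node [10,7,9,7,7,9,8,9,8] .nil .nil) .nil))) (.node [8,8,9,7,7,7] (.node [8,9,8,10,7,9] (.node [7,9,7,10,7,10,8] (.node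 [8,8,8,9,8,8,8,9] .nil .nil) (.node [8,8,10,7,10,7,10,7,10] .nil .nil)) (.node [10,7,10,7,9,8,8,8] (.node [8,8,8,8,9,7,10,8,8] .nil .nil) .nil)) (.node [7,10,7,9,8,8,8] (.node [10,7,7,10,7,7,10] (.node [10,7,7,10,7,10,8,10] .nil .nil) (.node [7,9,7,9,7,7,9,7,7,9] .nil .nil)) (.node [8,10,8,8,8,8,9,8] (.node [7,9,7,10,8,10,7,7,9] .nil .nil) .nil)))) (.node [7,7,9,8,8] (.node [10,7,7,7,10] (.node [9,8,10,7,10,8] (.node [8,10,8,10,7,9,8] (.node [10,8,9,7,7,10,7,9] .nil .nil) (.node [7,10,8,9,7,7,7,7,10] .nil .nil)) (.node [7,10,8,8,8,9,7,7] (.node [8,8,10,8,8,8,9,8,8] .nil .nil) .nil)) (.node [8,9,7,10,7,7,7] (.node [8,10,8,8,9,8,9] (.node [7,9,7,7,7,10,7,10] .nil .nil) (.node [10,7,10,8,8,9,8,10,8,8] .nil .nil)) (.node [10,8,9,7,7,7,9,8] (.node [10,7,10,7,9,7,7,7,9] .nil .nil) .nil))) (.node [9,8,10,8,8,8] (.node [8,9,8,10,8,9] (.node [8,9,7,7,9,7,9] (.node [9,7,7,9,7,9,8,9] .nil .nil) (.node [10,8,9,8,9,8,10,8,10] .nil .nil)) (.node [7,10,8,8,8,9,8,8]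 (.node [7,10,8,9,7,7,7,9,8] .nil .nil) .nil)) (.node [7,10,8,8,9,8,8] (.node [8,10,8,8,8,8,10] (.node [7,10,8,10,8,9,7,7,7] .nil .nil) (.node [7,7,7,10,8,8,8,9,7,10] .nil .nil)) (.node [7,10,7,7,7,7,7,9] (.node [7,9,7,10,8,8,10,7,9] .nil .nil) .nil))))) (.node [10,8,9,8] (.node [7,9,7,7,7] (.node [10,8,8,8,9] (.node [10,7,9,8,9,8] (.node [8,10,7,9,7,9,8] (.node [7,7,10,7,7,9,7,9] .nil .nil) (.node [7,7,7,9,8,8,10,8,9] .nil .nil)) (.node [10,8,10,8,9,7,7,7] (.node [9,8,8,9,8,9,8,8,8] .nil .nil) .nil)) (.node [9,8,8,10,8,10] (.node [8,9,7,10,8,8,9] (.node [7,7,9,7,10,7,7,10] .nil .nil) (.node [8,8,8,8,8,9,7,10,8,8] .nil .nil)) (.node [10,8,10,8,8,10,8,8] (.node [10,7,7,7,7,10,7,10,8] .nil .nil) .nil))) (.node [10,8,8,10,7,7] (.node [7,7,7,9,8,9] (.node [10,7,7,9,7,7,9] (.node [9,7,7,7,10,8,8,9] .nil .nil) (.node [9,8,9,8,8,8,9,8,10] .nil .nil)) (.node [7,7,7,7,7,9,8,8] (.node [9,8,8,10,8,8,10,8,8] .nil .nil) .nil)) (.node [7,7,7,7,9,8,8]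 (.node [7,7,7,7,10,7,10] (.node [10,8,9,7,7,9,7,7,7] .nil .nil) (.node [10,8,8,8,9,8,8,8,8,9] .nil .nil)) (.node [10,8,8,8,10,8,9,8] (.node [8,10,7,10,8,8,9,7,9] .nil .nil) .nil)))) (.node [8,9,7,9,8] (.node [8,10,8,8,10] (.node [9,7,7,9,7,9] (.node [10,7,7,10,8,9,8] (.node [10,8,10,8,8,10,7,9] .nil .nil) (.node [9,7,7,7,7,10,7,7,10] .nil .nil)) (.node [10,8,10,8,8,10,7,7] (.node [8,8,10,8,9,8,9,8,8] .nil .nil) .nil)) (.node [8,8,8,8,10,7,7] (.node [10,8,10,8,10,8,9] (.node [9,7,10,7,10,8,8,10] .nil .nil) (.node [7,7,10,7,7,7,9,8,9,8] .nil .nil)) (.node [8,8,9,8,9,7,9,8] (.node [8,8,9,7,7,9,7,7,9] .nil .nil) .nil))) (.node [7,9,7,10,8,8] (.node [7,10,7,9,7,10] (.node [10,7,10,7,10,7,9] (.node [9,8,9,8,8,10,8,9] .nil .nil) (.node [7,9,7,7,10,7,10,7,7,7] .nil .nil)) (.node [9,7,7,7,7,10,8,8] (.node [7,10,7,7,7,10,7,9,8] .nil .nil) .nil)) (.node [10,8,9,7,10,8,8] (.node [10,8,9,8,9,8,10] (.node [10,8,8,8,10,8,9,7,7] .nil .nil) (.node [7,10,8,8,10,8,9,8,8,8,9]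 .nil .nil)) (.node [10,8,8,10,7,7,7,9] (.node [9,8,8,8,9,8,8,8,9] .nil .nil) .nil)))))) (.node [7,7,10] (.node [8,9,8,8] (.node [8,10,7,10] (.node [10,7,9,7,9] (.node [8,8,10,7,9,8] (.node [8,10,7,7,7,9,8] (.node [7,7,10,8,10,7,7,9] .nil .nil) (.node [9,8,10,7,10,7,9,8,9] .nil .nil)) (.node [8,8,10,7,9,7,7,7] (.node [8,8,8,9,7,9,8,8,8] .nil .nil) .nil)) (.node [7,9,8,9,8,10] (.node [9,7,10,8,8,8,9] (.node [8,8,8,8,9,7,7,10] .nil .nil) (.node [9,8,9,8,8,9,8,9,8,8] .nil .nil)) (.node [10,8,8,8,8,10,8,8] (.node [9,8,8,9,8,10,8,9,8] .nil .nil) .nil))) (.node [7,7,7,9,7,7] (.node [9,8,9,8,8,9] (.node [8,8,9,7,7,7,9] (.node [7,10,7,10,8,8,8,9] .nil .nil) (.node [9,7,7,10,8,8,10,7,10] .nil .nil)) (.node [10,7,7,7,10,8,8,8] (.node [8,8,9,8,8,8,10,8,8] .nil .nil) .nil)) (.node [7,9,7,10,8,8,8] (.node [7,7,10,7,9,7,10] (.node [7,9,7,9,8,10,8,10] .nil .nil) (.node [7,7,10,8,10,8,10,7,7,9] .nil .nil)) (.node [7,7,7,7,9,8,9,8] (.node [9,8,9,8,9,7,9,7,9]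 .nil .nil) .nil)))) (.node [10,7,10,8,8] (.node [7,7,10,7,10] (.node [10,7,9,7,7,9] (.node [10,8,9,8,8,9,8] (.node [8,10,8,8,8,10,7,9] .nil .nil) (.node [10,8,9,7,10,7,7,7,10] .nil .nil)) (.node [9,8,8,8,8,10,7,7] (.node [7,7,9,7,9,8,9,8,8] .nil .nil) .nil)) (.node [8,8,8,8,9,7,7] (.node [7,9,8,8,10,8,9] (.node [8,8,8,8,8,10,7,10] .nil .nil) (.node [9,7,7,9,7,7,9,7,9,8] .nil .nil)) (.node [8,9,7,10,7,7,9,8] (.node [8,8,10,7,10,7,7,7,9] .nil .nil) .nil))) (.node [9,8,8,9,8,8] (.node [9,8,9,7,7,10] (.node [8,9,8,8,9,7,9] (.node [9,7,10,7,7,10,8,9] .nil .nil) (.node [8,9,7,7,10,7,9,7,7,7] .nil .nil)) (.node [10,8,10,8,8,9,8,8] (.node [7,7,9,7,7,9,7,9,8] .nil .nil) .nil)) (.node [9,7,7,7,10,8,8] (.node [8,8,8,8,9,8,10] (.node [7,9,8,8,8,8,9,7,7] .nil .nil) (.node [8,8,8,10,8,8,8,8,9,7,7] .nil .nil)) (.node [7,7,7,10,7,7,7,9] (.node [8,8,8,9,8,8,8,8,9] .nil .nil) .nil))))) (.node [8,9,7,9] (.node [8,8,10,7,7] (.node [7,7,10,8,9] (.node [9,7,7,7,10,8]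 (.node [10,7,7,10,7,9,8] (.node [9,7,9,8,8,9,7,9] .nil .nil) (.node [9,7,9,7,10,8,10,8,9] .nil .nil)) (.node [9,7,7,7,7,9,7,7] (.node [7,10,7,7,7,7,9,8,8] .nil .nil) .nil)) (.node [7,10,7,9,7,7,7] (.node [8,10,7,7,9,8,9] (.node [8,9,7,9,7,9,7,10] .nil .nil) (.node [7,10,7,9,8,8,8,10,8,8] .nil .nil)) (.node [10,7,7,7,7,7,9,8] (.node [10,7,9,7,7,7,7,7,9] .nil .nil) .nil))) (.node [10,7,9,8,8,8] (.node [9,7,7,10,8,9] (.node [10,8,8,10,7,7,9] (.node [10,7,7,7,7,9,8,9] .nil .nil) (.node [10,8,8,8,8,8,10,8,10] .nil .nil)) (.node [7,9,7,9,7,9,8,8] (.node [8,10,7,7,7,7,7,9,8] .nil .nil) .nil)) (.node [7,7,10,7,9,8,8] (.node [10,8,10,7,10,7,10] (.node [9,8,8,10,7,9,7,7,7] .nil .nil) (.node [8,8,10,8,9,7,7,9,8,9] .nil .nil)) (.node [8,10,7,7,9,7,10,8] (.node [8,8,10,7,10,7,10,7,9] .nil .nil) .nil)))) (.node [7,10,8,9,8] (.node [9,7,10,8,10] (.node [9,7,7,10,7,9] (.node [8,10,7,7,7,10,8] (.node [10,8,9,8,8,8,8,9] .nil .nil) (.node [10,7,10,8,8,10,7,7,10]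 .nil .nil)) (.node [7,9,7,7,9,8,8,8] (.node [7,9,8,10,7,7,10,8,8] .nil .nil) .nil)) (.node [8,8,10,8,10,7,7] (.node [10,8,10,7,7,7,10] (.node [7,10,8,8,8,9,8,10] .nil .nil) (.node [8,10,7,10,7,7,7,7,7,9] .nil .nil)) (.node [8,9,8,8,10,7,9,8] (.node [8,8,9,8,8,10,7,7,9] .nil .nil) .nil))) (.node [7,10,8,10,8,8] (.node [8,10,7,10,7,10] (.node [7,10,8,8,10,7,9] (.node [7,9,8,10,8,10,8,9] .nil .nil) (.node [7,7,10,7,10,8,8,10,7,7] .nil .nil)) (.node [9,7,7,9,7,10,8,8] (.node [8,9,8,8,8,8,8,9,8] .nil .nil) .nil)) (.node [8,9,8,8,10,8,8] (.node [7,9,8,8,10,8,10] (.node [7,7,10,8,8,8,10,7,7] .nil .nil) .nil) (.node [8,9,8,8,9,7,7,9] (.node [7,9,7,9,8,9,8,8,9] .nil .nil) .nil))))))))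

/-- Data. -/
noncomputable def words0_3 : Arr (List ℕ) := (.node [8,8] (.node [8,9] (.node [10,8,8] (.node [7,7,7,7] (.node [7,9,8,9] (.node [8,10,7,10,8] (.node [8,9,7,7,9,8] (.node [7,7,10,8,10,8,8] (.node [10,8,8,8,10,7,7,9] .nil .nil) (.node [7,10,7,7,7,7,9,8,9] .nil .nil)) (.node [9,8,9,8,10,8,10] (.node [8,9,8,8,10,8,10,7,7] .nil .nil) .nil)) (.node [8,10,8,8,8,10] (.node [7,9,8,8,8,8,9] (.node [7,9,7,9,7,7,7,10] .nil .nil) (.node [10,7,7,7,10,7,9,8,8,8] .nil .nil)) (.node [9,8,8,9,7,10,8,8] (.node [8,10,7,7,7,9,8,9,8] .nil .nil) .nil))) (.node [9,7,9,7,7,7] (.node [10,8,8,10,7,9] (.node [9,7,7,10,7,10,8] (.node [8,9,7,9,8,8,8,9] .nil .nil) (.node [7,7,9,7,7,7,10,7,10] .nil .nil)) (.node [7,7,10,7,9,8,8,8] (.node [7,7,10,7,9,7,10,8,8] .nil .nil) .nil)) (.node [7,9,7,9,8,8,8] (.node [7,7,7,10,7,7,10] (.node [9,7,7,7,7,10,8,10] .nil .nil) (.node [9,7,7,9,7,7,9,7,7,9] .nil .nil)) (.node [10,8,8,8,8,8,9,8] (.node [7,10,8,9,8,10,7,7,9]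 .nil .nil) .nil)))) (.node [7,10,8,8,8] (.node [7,7,7,7,10] (.node [10,7,10,7,10,8] (.node [10,8,8,10,7,9,8] (.node [7,7,9,7,7,10,7,9] .nil .nil) (.node [9,8,8,9,7,7,7,7,10] .nil .nil)) (.node [10,8,8,8,8,9,7,7] (.node [7,10,8,8,8,8,9,8,8] .nil .nil) .nil)) (.node [9,7,7,10,7,7,7] (.node [10,7,10,7,9,8,9] (.node [9,7,10,8,8,9,7,10] .nil .nil) (.node [7,7,10,8,8,9,8,10,8,8] .nil .nil)) (.node [8,8,9,7,7,7,9,8] (.node [10,7,9,7,9,7,7,7,9] .nil .nil) .nil))) (.node [10,7,10,8,8,8] (.node [9,8,8,10,8,9] (.node [9,7,7,7,9,7,9] (.node [10,7,10,7,7,9,8,9] .nil .nil) (.node [7,7,9,8,9,8,10,8,10] .nil .nil)) (.node [10,8,8,8,8,9,8,8] (.node [8,10,7,9,7,7,7,9,8] .nil .nil) .nil)) (.node [7,9,8,8,9,8,8] (.node [7,9,8,8,8,8,10] (.node [8,8,8,10,8,9,7,7,7] .nil .nil) (.node [7,9,8,10,7,9,7,7,7,10] .nil .nil)) (.node [7,9,7,7,7,7,7,9] (.node [9,8,8,9,8,8,10,7,9] .nil .nil) .nil))))) (.node [8,8,9,8] (.node [8,10,8,10] (.node [8,8,8,8,9] (.node [8,10,8,8,9,8]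 (.node [9,7,7,9,7,9,8] (.node [9,7,9,7,7,9,7,9] .nil .nil) (.node [9,7,7,7,9,7,10,8,9] .nil .nil)) (.node [8,8,10,8,9,7,7,7] (.node [7,7,7,9,8,9,8,8,8] .nil .nil) .nil)) (.node [7,10,7,10,8,10] (.node [9,7,7,10,8,8,9] (.node [10,7,7,7,10,7,7,10] .nil .nil) (.node [7,7,7,7,7,9,7,10,8,8] .nil .nil)) (.node [7,7,10,8,8,10,8,8] (.node [7,7,7,7,7,10,7,10,8] .nil .nil) .nil))) (.node [8,8,8,10,7,7] (.node [9,8,10,8,8,9] (.node [7,7,7,9,7,7,9] (.node [7,7,10,8,9,8,8,9] .nil .nil) (.node [7,9,8,8,8,8,9,8,10] .nil .nil)) (.node [8,10,8,8,10,8,8,8] (.node [7,7,7,9,8,8,10,8,8] .nil .nil) .nil)) (.node [10,8,8,10,8,8,8] (.node [8,9,8,8,9,7,10] (.node [7,9,7,7,7,9,7,7,7] .nil .nil) (.node [7,10,8,9,8,9,8,10,7,9] .nil .nil)) (.node [8,8,8,8,10,8,9,8] (.node [9,8,8,9,8,8,9,7,9] .nil .nil) .nil)))) (.node [10,7,7,9,8] (.node [10,8,8,8,10] (.node [10,8,10,7,7,9] (.node [7,7,7,10,8,9,8] (.node [8,8,10,8,8,10,7,9] .nil .nil) (.node [7,9,8,8,10,7,7,7,10]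 .nil .nil)) (.node [7,7,10,8,8,10,7,7] (.node [10,8,9,8,9,8,9,8,8] .nil .nil) .nil)) (.node [8,8,10,8,9,7,7] (.node [8,8,10,8,10,8,9] (.node [8,8,9,7,10,8,8,10] .nil .nil) (.node [7,7,9,8,8,9,8,8,9,8] .nil .nil)) (.node [8,8,10,7,9,7,9,8] (.node [9,7,9,7,7,9,7,7,9] .nil .nil) .nil))) (.node [9,7,7,10,8,8] (.node [7,9,7,9,7,10] (.node [8,10,7,7,10,7,9] (.node [10,7,9,8,8,10,8,9] .nil .nil) (.node [7,10,8,9,7,7,10,7,7,7] .nil .nil)) (.node [7,10,8,9,8,9,8,8] (.node [8,8,8,9,8,9,7,9,8] .nil .nil) .nil)) (.node [8,8,9,7,10,8,8] (.node [10,7,9,8,9,8,10] (.node [9,7,7,7,10,8,9,7,7] .nil .nil) (.node [10,7,10,8,8,10,8,10,7,7,9] .nil .nil)) (.node [8,10,7,10,7,7,7,9] (.node [9,8,9,7,9,8,8,8,9] .nil .nil) .nil)))))) (.node [9,8,9] (.node [10,8,8,8] (.node [8,9,7,10] (.node [7,7,9,7,9] (.node [9,7,10,7,9,8] (.node [8,9,7,7,7,9,8] (.node [9,8,9,8,10,7,7,9] .nil .nil) (.node [8,8,9,7,10,7,9,8,9] .nil .nil)) (.node [7,7,10,7,9,7,7,7] (.node [9,8,9,7,7,9,8,8,8]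 .nil .nil) .nil)) (.node [8,8,8,9,8,10] (.node [10,8,9,8,8,8,9] (.node [8,8,8,10,7,7,7,10] .nil .nil) (.node [7,7,9,8,10,8,8,9,8,8] .nil .nil)) (.node [7,10,7,10,7,10,8,8] (.node [7,9,8,8,8,10,8,9,8] .nil .nil) .nil))) (.node [8,8,10,7,7,7] (.node [7,10,8,8,8,9] (.node [9,7,9,7,7,7,9] (.node [7,9,7,10,8,8,8,9] .nil .nil) (.node [9,8,9,8,8,8,10,7,10] .nil .nil)) (.node [7,7,7,7,10,8,8,8] (.node [8,10,8,8,8,8,10,8,8] .nil .nil) .nil)) (.node [8,10,8,9,8,8,8] (.node [9,7,9,7,9,7,10] (.node [9,8,9,8,8,10,8,10] .nil .nil) (.node [7,10,8,8,10,8,10,7,7,9] .nil .nil)) (.node [10,8,8,9,8,8,9,8] (.node [8,10,8,10,8,10,7,7,9] .nil .nil) .nil)))) (.node [7,7,10,8,8] (.node [10,7,9,7,10] (.node [8,10,7,7,7,9] (.node [8,8,9,8,8,9,8] (.node [8,9,8,8,8,10,7,9] .nil .nil) (.node [10,8,10,7,9,7,7,7,10] .nil .nil)) (.node [9,8,8,10,8,9,7,7] (.node [10,8,8,10,8,8,9,8,8] .nil .nil) .nil)) (.node [7,7,7,7,9,7,7] (.node [7,7,10,7,10,8,9] (.node [9,8,8,10,7,10,7,10]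 .nil .nil) (.node [8,8,8,9,7,7,7,7,9,8] .nil .nil)) (.node [7,7,7,10,7,7,9,8] (.node [7,9,7,7,10,7,7,7,9] .nil .nil) .nil))) (.node [8,10,7,9,8,8] (.node [8,10,7,7,7,10] (.node [10,8,10,7,9,7,9] (.node [7,10,7,7,7,10,8,9] .nil .nil) (.node [8,8,10,7,9,7,9,7,7,7] .nil .nil)) (.node [8,8,10,8,8,9,8,8] (.node [10,8,8,8,9,7,7,9,8] .nil .nil) .nil)) (.node [10,8,9,8,9,8,8] (.node [7,10,8,10,8,8,10] (.node [9,7,9,8,8,10,7,7,7] .nil .nil) (.node [9,8,8,10,7,9,7,9,7,7,7] .nil .nil)) (.node [8,8,8,9,7,7,7,9] (.node [10,8,9,8,9,8,10,7,9] .nil .nil) .nil))))) (.node [10,7,7,9] (.node [9,8,9,7,7] (.node [10,7,9,8,9] (.node [10,8,10,8,9,8] (.node [7,7,7,10,7,9,8] (.node [8,10,8,10,7,9,7,9] .nil .nil) (.node [8,9,7,10,8,8,10,8,9] .nil .nil)) (.node [7,9,8,8,10,7,7,7] (.node [7,9,7,7,7,7,9,8,8] .nil .nil) .nil)) (.node [10,7,7,9,7,7,7] (.node [8,9,7,7,9,8,9] (.node [7,10,8,8,10,7,7,10] .nil .nil) (.node [9,8,9,8,8,8,8,10,8,8] .nil .nil)) (.node [10,8,8,10,8,10,8,8]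 (.node [10,7,10,8,8,10,7,10,8] .nil .nil) .nil))) (.node [7,7,9,8,8,8] (.node [10,8,8,9,8,9] (.node [8,8,8,10,7,7,9] (.node [9,8,8,8,10,8,8,9] .nil .nil) (.node [10,8,8,10,7,7,10,8,10] .nil .nil)) (.node [7,7,9,7,7,9,8,8] (.node [7,9,7,7,7,7,7,9,8] .nil .nil) .nil)) (.node [9,7,9,7,9,8,8] (.node [10,7,10,7,10,7,10] (.node [8,10,7,10,7,9,7,7,7] .nil .nil) (.node [7,9,7,7,9,8,9,8,8,9] .nil .nil)) (.node [10,7,7,7,9,7,10,8] (.node [8,10,8,9,7,7,10,7,9] .nil .nil) .nil)))) (.node [7,9,8,9,8] (.node [10,8,9,8,10] (.node [10,8,8,9,7,9] (.node [8,9,8,10,8,9,8] (.node [8,8,9,8,8,8,8,9] .nil .nil) (.node [8,9,8,8,8,10,7,7,10] .nil .nil)) (.node [9,7,7,7,9,8,8,8] (.node [9,8,9,7,7,7,10,8,8] .nil .nil) .nil)) (.node [7,7,9,8,10,7,7] (.node [10,7,10,7,7,7,10] (.node [7,9,8,8,8,9,8,10] .nil .nil) (.node [8,8,8,9,7,7,7,7,7,9] .nil .nil)) (.node [10,8,8,8,10,7,9,8] (.node [8,9,7,10,8,9,7,7,9] .nil .nil) .nil))) (.node [7,9,8,10,8,8] (.node [7,9,7,10,7,10]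 (.node [7,9,8,8,10,7,9] (.node [7,9,7,10,8,10,8,9] .nil .nil) (.node [9,8,8,8,9,8,8,10,7,7] .nil .nil)) (.node [10,8,10,7,7,10,8,8] (.node [8,9,8,10,8,10,7,9,8] .nil .nil) .nil)) (.node [10,8,8,8,10,8,8] (.node [9,8,8,8,10,8,10] (.node [9,8,9,8,8,8,10,7,7] .nil .nil) .nil) (.node [9,7,10,7,9,7,7,9] (.node [9,7,10,7,10,8,8,8,9] .nil .nil) .nil))))))) (.node [9,7,7] (.node [7,7,9] (.node [8,9,7,7] (.node [7,7,7,10] (.node [7,9,7,7,9] (.node [8,8,9,7,9,8] (.node [7,7,7,7,7,9,8] (.node [8,10,8,8,10,7,7,9] .nil .nil) (.node [9,7,7,7,9,7,9,8,9] .nil .nil)) (.node [7,10,7,7,9,7,7,7] (.node [7,7,9,7,7,9,8,8,8] .nil .nil) .nil)) (.node [10,8,10,8,8,10] (.node [9,7,9,8,8,8,9] (.node [7,9,7,10,7,7,7,10] .nil .nil) (.node [9,8,8,8,10,7,10,8,8,8] .nil .nil)) (.node [9,7,7,10,7,10,8,8] (.node [10,8,9,7,7,10,8,9,8] .nil .nil) .nil))) (.node [10,8,9,7,7,7] (.node [9,8,8,8,8,9] (.node [9,8,8,10,7,10,8] (.node [10,8,8,9,8,8,8,9] .nil .nil) (.node [10,8,8,8,10,7,10,7,10]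 .nil .nil)) (.node [7,7,9,8,9,8,8,8] (.node [8,8,10,8,9,7,10,8,8] .nil .nil) .nil)) (.node [8,8,8,9,8,8,8] (.node [8,9,7,10,7,7,10] (.node [9,8,8,8,8,10,8,10] .nil .nil) (.node [10,7,7,10,7,7,9,7,7,9] .nil .nil)) (.node [7,10,7,9,8,8,9,8] (.node [10,8,8,10,8,10,7,7,9] .nil .nil) .nil)))) (.node [10,7,9,8,8] (.node [7,10,7,7,10] (.node [7,7,7,7,7,9] (.node [9,8,8,8,8,9,8] (.node [10,8,10,7,7,10,7,9] .nil .nil) (.node [8,8,9,7,9,7,7,7,10] .nil .nil)) (.node [9,7,7,10,8,9,7,7] (.node [7,7,7,10,8,8,9,8,8] .nil .nil) .nil)) (.node [8,10,7,10,7,7,7] (.node [7,10,7,7,10,8,9] (.node [9,7,7,10,7,10,7,10] .nil .nil) (.node [8,9,7,9,7,10,8,10,8,8] .nil .nil)) (.node [9,7,10,7,7,7,9,8] (.node [8,8,8,8,9,7,7,7,9] .nil .nil) .nil))) (.node [7,7,7,9,8,8] (.node [8,10,8,10,8,9] (.node [9,8,9,7,9,7,9] (.node [8,9,7,10,7,9,8,9] .nil .nil) (.node [7,10,8,9,7,7,9,7,7,7] .nil .nil)) (.node [8,8,9,8,8,9,8,8] (.node [7,7,7,10,7,7,7,9,8] .nil .nil) .nil)) (.node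 [9,7,9,8,9,8,8] (.node [8,9,7,10,8,8,10] (.node [9,8,9,7,7,10,7,7,7] .nil .nil) (.node [8,9,8,9,8,8,8,9,8,10] .nil .nil)) (.node [7,9,7,9,7,7,7,9] (.node [8,10,8,10,8,8,10,7,9] .nil .nil) .nil))))) (.node [9,7,10,8] (.node [7,10,7,7,7] (.node [7,10,8,8,9] (.node [9,7,10,8,9,8] (.node [9,8,8,9,7,9,8] (.node [8,10,8,9,7,9,7,9] .nil .nil) (.node [10,7,7,9,8,8,10,8,9] .nil .nil)) (.node [7,7,10,7,10,7,7,7] (.node [10,7,7,7,7,10,8,8,8] .nil .nil) .nil)) (.node [7,9,8,10,8,10] (.node [8,8,8,10,8,8,9] (.node [9,7,10,7,10,7,7,10] .nil .nil) (.node [9,8,9,8,8,9,7,10,8,8] .nil .nil)) (.node [7,10,8,9,8,10,8,8] (.node [8,9,7,7,7,10,7,10,8] .nil .nil) .nil))) (.node [7,10,8,10,7,7] (.node [10,7,7,9,8,9] (.node [9,8,8,9,7,7,9] (.node [8,9,7,7,10,8,8,9] .nil .nil) (.node [9,7,10,8,8,8,9,8,10] .nil .nil)) (.node [10,7,7,7,7,9,8,8] (.node [8,10,8,8,9,8,10,8,8] .nil .nil) .nil)) (.node [10,7,7,7,9,8,8] (.node [10,7,7,7,10,7,10] (.node [9,7,7,9,7,9,7,7,7]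 .nil .nil) (.node [8,8,8,8,8,9,8,8,8,9] .nil .nil)) (.node [9,8,9,7,7,7,10,8] (.node [10,8,8,10,8,8,9,7,9] .nil .nil) .nil)))) (.node [8,10,7,9,8] (.node [9,7,9,8,10] (.node [7,9,7,9,7,9] (.node [7,10,7,10,8,9,8] (.node [8,9,8,9,8,10,7,9] .nil .nil) (.node [9,7,7,9,7,10,7,7,10] .nil .nil)) (.node [10,7,7,10,8,10,7,7] (.node [7,10,7,7,7,7,10,8,8] .nil .nil) .nil)) (.node [10,8,8,8,10,7,7] (.node [8,9,7,7,7,7,10] (.node [7,9,8,8,10,8,8,10] .nil .nil) (.node [8,9,8,8,8,8,10,8,9,8] .nil .nil)) (.node [10,7,7,7,10,7,9,8] (.node [9,7,10,7,7,9,7,7,9] .nil .nil) .nil))) (.node [7,10,7,10,8,8] (.node [8,8,8,9,7,10] (.node [10,8,10,7,10,7,9] (.node [8,8,8,9,8,10,8,9] .nil .nil) (.node [7,7,9,8,8,8,8,9,7,7] .nil .nil)) (.node [7,9,7,7,7,10,8,8] (.node [7,10,8,8,8,10,7,9,8] .nil .nil) .nil)) (.node [9,7,10,7,10,8,8] (.node [8,10,7,7,10,8,10] (.node [7,7,9,8,10,8,9,7,7] .nil .nil) .nil) (.node [7,9,7,7,9,7,7,9] (.node [10,8,10,8,9,8,8,8,9] .nil .nil)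 .nil)))))) (.node [10,7,10] (.node [8,10,8,8] (.node [10,8,8,10] (.node [7,7,10,7,9] (.node [10,8,10,7,9,8] (.node [7,7,10,7,7,9,8] (.node [10,7,10,8,10,7,7,9] .nil .nil) (.node [9,7,7,10,7,7,10,8,9] .nil .nil)) (.node [8,9,8,8,9,7,7,7] (.node [7,7,7,10,7,9,8,8,8] .nil .nil) .nil)) (.node [7,10,8,9,8,10] (.node [8,8,8,9,8,8,9] (.node [8,8,9,8,9,7,7,10] .nil .nil) (.node [8,9,8,9,8,9,8,9,8,8] .nil .nil)) (.node [8,9,8,8,8,10,8,8] (.node [7,10,8,10,7,7,7,10,8] .nil .nil) .nil))) (.node [8,8,8,9,7,7] (.node [7,7,10,8,8,9] (.node [7,7,10,7,7,7,9] (.node [10,8,8,8,9,8,8,9] .nil .nil) (.node [9,8,8,9,7,10,8,8,10] .nil .nil)) (.node [9,7,10,7,10,8,8,8] (.node [9,7,10,8,8,8,10,8,8] .nil .nil) .nil)) (.node [7,10,7,10,8,8,8] (.node [8,8,8,8,9,7,10] (.node [9,8,8,9,8,10,8,10] .nil .nil) (.node [8,8,8,10,7,10,7,10,7,9] .nil .nil)) (.node [7,9,7,7,9,8,9,8] (.node [8,8,10,8,10,7,9,7,9] .nil .nil) .nil)))) (.node [9,8,10,8,8] (.node [10,7,10,7,10]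 (.node [9,8,9,7,7,9] (.node [9,8,10,8,8,9,8] (.node [10,8,9,8,8,10,7,9] .nil .nil) (.node [9,8,10,7,10,7,7,7,10] .nil .nil)) (.node [7,9,8,8,8,10,7,7] (.node [8,9,8,8,9,8,9,8,8] .nil .nil) .nil)) (.node [10,8,8,8,9,7,7] (.node [7,10,8,8,10,8,9] (.node [7,7,10,8,8,10,7,10] .nil .nil) (.node [10,7,9,8,8,8,9,7,9,8] .nil .nil)) (.node [9,7,7,7,9,7,9,8] (.node [10,8,8,8,10,7,7,7,9] .nil .nil) .nil))) (.node [7,9,8,9,8,8] (.node [7,7,10,7,7,10] (.node [8,10,8,8,9,7,9] (.node [9,7,7,9,7,10,8,9] .nil .nil) (.node [7,7,9,8,9,8,9,7,7,7] .nil .nil)) (.node [7,10,7,9,8,9,8,8] (.node [10,7,9,7,7,9,7,9,8] .nil .nil) .nil)) (.node [8,10,7,7,10,8,8] (.node [10,8,8,8,9,8,10] (.node [7,10,8,8,8,8,9,7,7] .nil .nil) (.node [8,9,7,7,9,7,7,7,7,9,8] .nil .nil)) (.node [10,7,7,10,7,7,7,9] (.node [8,10,8,9,8,8,8,8,9] .nil .nil) .nil))))) (.node [8,10,7,9] (.node [10,8,10,7,7] (.node [10,7,10,8,9] (.node [7,7,9,7,10,8] (.node [7,10,7,10,7,9,8] (.node [8,8,9,8,8,9,7,9]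 .nil .nil) (.node [8,8,9,8,10,8,10,8,9] .nil .nil)) (.node [7,7,10,7,7,9,7,7] (.node [7,7,10,7,9,7,9,8,8] .nil .nil) .nil)) (.node [9,8,8,9,7,7,7] (.node [9,7,9,7,9,8,9] (.node [10,8,8,9,7,9,7,10] .nil .nil) (.node [7,10,8,9,8,8,8,10,8,8] .nil .nil)) (.node [8,9,7,7,7,7,9,8] (.node [9,8,9,7,7,7,7,7,9] .nil .nil) .nil))) (.node [9,8,9,8,8,8] (.node [7,9,7,10,8,9] (.node [8,9,8,10,7,7,9] (.node [7,10,7,7,7,9,8,9] .nil .nil) (.node [9,7,7,9,8,8,10,8,10] .nil .nil)) (.node [8,10,7,9,7,9,8,8] (.node [8,8,9,7,7,7,7,9,8] .nil .nil) .nil)) (.node [10,7,10,7,9,8,8] (.node [9,8,8,8,10,7,10] (.node [7,7,10,8,8,9,7,7,7] .nil .nil) (.node [8,9,7,7,7,9,7,9,8,9] .nil .nil)) (.node [9,7,7,7,10,7,10,8] (.node [7,7,10,8,8,8,10,7,9] .nil .nil) .nil)))) (.node [7,7,7,10,8] (.node [8,8,10,8,10] (.node [7,10,7,10,7,9] (.node [9,7,7,9,7,10,8] (.node [10,7,10,8,8,8,8,9] .nil .nil) (.node [10,7,7,7,10,7,9,7,10] .nil .nil)) (.node [9,7,9,7,9,8,8,8] (.node [7,7,7,7,9,7,10,8,8]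 .nil .nil) .nil)) (.node [7,10,8,8,8,8,8] (.node [9,8,8,9,7,7,10] (.node [9,7,9,8,8,9,8,10] .nil .nil) (.node [7,9,8,10,7,9,7,7,7,9] .nil .nil)) (.node [8,8,10,8,10,7,9,8] (.node [10,8,9,8,8,10,7,7,9] .nil .nil) .nil))) (.node [7,7,7,7,9,8] (.node [10,8,8,10,7,10] (.node [7,7,9,8,10,7,9] (.node [7,10,8,10,8,10,8,9] .nil .nil) (.node [7,10,8,8,8,10,8,10,7,7] .nil .nil)) (.node [8,9,7,9,7,10,8,8] (.node [9,8,8,8,9,8,8,9,8] .nil .nil) .nil)) (.node [8,10,8,8,10,8,8] (.node [7,10,8,8,10,8,10] (.node [7,10,7,10,8,8,10,7,7] .nil .nil) .nil) (.node [7,7,10,8,9,7,7,9] (.node [7,9,7,7,7,10,8,8,9] .nil .nil) .nil))))))))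

/-- Data. -/
noncomputable def words0 : Arr (List ℕ) := (.node [] (.node [7] words0_0 words0_1) (.node [8] words0_2 words0_3))

/-- Data. -/
noncomputable def pos0_0 : Arr (ℕ) := (.node 397 (.node 42 (.node 283 (.node 224 (.node 561 (.node 559 (.node 1152 (.node 1132 (.node 1209 (.node 1084 .nil .nil) (.node 1689 .nil .nil)) (.node 313 (.node 1040 .nil .nil) .nil)) (.node 1692 (.node 369 (.node 810 .nil .nil) (.node 438 .nil .nil)) (.node 29 (.node 117 .nil .nil) .nil))) (.node 475 (.node 1413 (.node 1000 (.node 630 .nil .nil) (.node 1506 .nil .nil)) (.node 421 (.node 1778 .nil .nil) .nil)) (.node 751 (.node 1670 (.node 1220 .nil .nil) (.node 1278 .nil .nil)) (.node 24 (.node 1667 .nil .nil) .nil)))) (.node 1206 (.node 181 (.node 825 (.node 607 (.node 1725 .nil .nil) (.node 1153 .nil .nil)) (.node 702 (.node 1527 .nil .nil) .nil)) (.node 617 (.node 1036 (.node 649 .nil .nil) (.node 1675 .nil .nil)) (.node 935 (.node 554 .nil .nil) .nil)))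 (.node 544 (.node 268 (.node 1714 (.node 813 .nil .nil) (.node 1289 .nil .nil)) (.node 1676 (.node 1155 .nil .nil) .nil)) (.node 829 (.node 1553 (.node 324 .nil .nil) (.node 1139 .nil .nil)) (.node 120 (.node 601 .nil .nil) .nil))))) (.node 861 (.node 1185 (.node 578 (.node 863 (.node 818 (.node 1469 .nil .nil) (.node 778 .nil .nil)) (.node 18 (.node 865 .nil .nil) .nil)) (.node 505 (.node 1271 (.node 1494 .nil .nil) (.node 643 .nil .nil)) (.node 1481 (.node 1371 .nil .nil) .nil))) (.node 1130 (.node 1551 (.node 406 (.node 1602 .nil .nil) (.node 1023 .nil .nil)) (.node 1749 (.node 376 .nil .nil) .nil)) (.node 785 (.node 1533 (.node 395 .nil .nil) (.node 819 .nil .nil)) (.node 1664 (.node 1136 .nil .nil) .nil)))) (.node 613 (.node 299 (.node 55 (.node 1636 (.node 1112 .nil .nil) (.node 1603 .nil .nil)) (.node 1181 (.node 1231 .nil .nil) .nil)) (.node 74 (.node 855 (.node 1451 .nil .nil) (.node 1519 .nil .nil)) (.node 1604 (.node 163 .nil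 .nil) .nil))) (.node 170 (.node 1022 (.node 1399 (.node 393 .nil .nil) (.node 417 .nil .nil)) (.node 131 (.node 1666 .nil .nil) .nil)) (.node 281 (.node 867 (.node 892 .nil .nil) (.node 603 .nil .nil)) (.node 923 (.node 1550 .nil .nil) .nil)))))) (.node 349 (.node 260 (.node 1464 (.node 399 (.node 1461 (.node 857 (.node 640 .nil .nil) (.node 1610 .nil .nil)) (.node 1615 (.node 658 .nil .nil) .nil)) (.node 1420 (.node 113 (.node 1274 .nil .nil) (.node 696 .nil .nil)) (.node 715 (.node 789 .nil .nil) .nil))) (.node 1008 (.node 541 (.node 1638 (.node 1559 .nil .nil) (.node 1447 .nil .nil)) (.node 644 (.node 1571 .nil .nil) .nil)) (.node 1671 (.node 306 (.node 388 .nil .nil) (.node 585 .nil .nil)) (.node 1068 (.node 738 .nil .nil) .nil)))) (.node 823 (.node 797 (.node 424 (.node 72 (.node 1484 .nil .nil) (.node 872 .nil .nil)) (.node 1394 (.node 1480 .nil .nil) .nil)) (.node 300 (.node 625 (.node 1557 .nil .nil) (.node 1600 .nil .nil)) (.node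 891 (.node 779 .nil .nil) .nil))) (.node 1058 (.node 1228 (.node 1207 (.node 870 .nil .nil) (.node 786 .nil .nil)) (.node 938 (.node 160 .nil .nil) .nil)) (.node 1431 (.node 1159 (.node 1430 .nil .nil) (.node 1069 .nil .nil)) (.node 25 (.node 1174 .nil .nil) .nil))))) (.node 1433 (.node 234 (.node 1661 (.node 51 (.node 1197 (.node 731 .nil .nil) (.node 854 .nil .nil)) (.node 1724 (.node 440 .nil .nil) .nil)) (.node 207 (.node 912 (.node 1085 .nil .nil) (.node 816 .nil .nil)) (.node 1272 (.node 1561 .nil .nil) .nil))) (.node 741 (.node 1154 (.node 14 (.node 1368 .nil .nil) (.node 895 .nil .nil)) (.node 565 (.node 1276 .nil .nil) .nil)) (.node 562 (.node 887 (.node 1641 .nil .nil) (.node 521 .nil .nil)) (.node 827 (.node 9 .nil .nil) .nil)))) (.node 254 (.node 1463 (.node 97 (.node 124 (.node 1482 .nil .nil) (.node 1672 .nil .nil)) (.node 894 (.node 238 .nil .nil) .nil)) (.node 233 (.node 1128 (.node 1742 .nil .nil) (.node 434 .nil .nil))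 (.node 82 (.node 1363 .nil .nil) .nil))) (.node 56 (.node 1030 (.node 791 (.node 725 .nil .nil) (.node 133 .nil .nil)) (.node 8 (.node 904 .nil .nil) .nil)) (.node 394 (.node 1369 (.node 835 .nil .nil) .nil) (.node 1643 (.node 1747 .nil .nil) .nil))))))) (.node 1422 (.node 402 (.node 108 (.node 667 (.node 1753 (.node 342 (.node 307 (.node 1586 .nil .nil) (.node 1496 .nil .nil)) (.node 1435 (.node 155 .nil .nil) .nil)) (.node 487 (.node 718 (.node 447 .nil .nil) (.node 381 .nil .nil)) (.node 344 (.node 647 .nil .nil) .nil))) (.node 1455 (.node 884 (.node 631 (.node 138 .nil .nil) (.node 1441 .nil .nil)) (.node 1493 (.node 1281 .nil .nil) .nil)) (.node 186 (.node 190 (.node 408 .nil .nil) (.node 999 .nil .nil)) (.node 1100 (.node 700 .nil .nil) .nil)))) (.node 664 (.node 656 (.node 1249 (.node 1088 (.node 422 .nil .nil) (.node 901 .nil .nil)) (.node 187 (.node 1594 .nil .nil) .nil)) (.node 660 (.node 915 (.node 900 .nil .nil) (.node 1720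 .nil .nil)) (.node 128 (.node 264 .nil .nil) .nil))) (.node 914 (.node 1611 (.node 1037 (.node 60 .nil .nil) (.node 1262 .nil .nil)) (.node 637 (.node 1745 .nil .nil) .nil)) (.node 687 (.node 123 (.node 1116 .nil .nil) (.node 1052 .nil .nil)) (.node 856 (.node 990 .nil .nil) .nil))))) (.node 98 (.node 398 (.node 1121 (.node 612 (.node 893 (.node 441 .nil .nil) (.node 1702 .nil .nil)) (.node 1010 (.node 59 .nil .nil) .nil)) (.node 1498 (.node 1738 (.node 401 .nil .nil) (.node 712 .nil .nil)) (.node 981 (.node 1191 .nil .nil) .nil))) (.node 1424 (.node 972 (.node 1781 (.node 1516 .nil .nil) (.node 907 .nil .nil)) (.node 491 (.node 1089 .nil .nil) .nil)) (.node 1485 (.node 1257 (.node 383 .nil .nil) (.node 924 .nil .nil)) (.node 774 (.node 506 .nil .nil) .nil)))) (.node 1446 (.node 127 (.node 241 (.node 321 (.node 723 .nil .nil) (.node 1628 .nil .nil)) (.node 1293 (.node 1070 .nil .nil) .nil)) (.node 86 (.node 1728 (.node 1436 .nil .nil)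 (.node 164 .nil .nil)) (.node 69 (.node 1329 .nil .nil) .nil))) (.node 1693 (.node 796 (.node 868 (.node 183 .nil .nil) (.node 198 .nil .nil)) (.node 1337 (.node 1625 .nil .nil) .nil)) (.node 952 (.node 15 (.node 1102 .nil .nil) (.node 1486 .nil .nil)) (.node 1124 (.node 1227 .nil .nil) .nil)))))) (.node 227 (.node 467 (.node 624 (.node 989 (.node 1476 (.node 902 (.node 1312 .nil .nil) (.node 1062 .nil .nil)) (.node 1499 (.node 201 .nil .nil) .nil)) (.node 1150 (.node 1709 (.node 217 .nil .nil) (.node 437 .nil .nil)) (.node 1458 (.node 1111 .nil .nil) .nil))) (.node 1148 (.node 411 (.node 1263 (.node 184 .nil .nil) (.node 1321 .nil .nil)) (.node 1086 (.node 1530 .nil .nil) .nil)) (.node 443 (.node 600 (.node 1547 .nil .nil) (.node 704 .nil .nil)) (.node 1542 (.node 176 .nil .nil) .nil)))) (.node 126 (.node 611 (.node 526 (.node 1555 (.node 776 .nil .nil) (.node 773 .nil .nil)) (.node 452 (.node 162 .nil .nil) .nil)) (.node 90 (.node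 1395 (.node 360 .nil .nil) (.node 750 .nil .nil)) (.node 228 (.node 1538 .nil .nil) .nil))) (.node 116 (.node 1495 (.node 1577 (.node 1657 .nil .nil) (.node 1684 .nil .nil)) (.node 880 (.node 250 .nil .nil) .nil)) (.node 1723 (.node 1340 (.node 1283 .nil .nil) (.node 1322 .nil .nil)) (.node 322 (.node 1635 .nil .nil) .nil))))) (.node 682 (.node 729 (.node 574 (.node 688 (.node 149 (.node 1065 .nil .nil) (.node 1051 .nil .nil)) (.node 976 (.node 1066 .nil .nil) .nil)) (.node 305 (.node 732 (.node 1073 .nil .nil) (.node 1386 .nil .nil)) (.node 1014 (.node 172 .nil .nil) .nil))) (.node 606 (.node 1270 (.node 423 (.node 1633 .nil .nil) (.node 1640 .nil .nil)) (.node 1313 (.node 769 .nil .nil) .nil)) (.node 897 (.node 1765 (.node 151 .nil .nil) (.node 737 .nil .nil)) (.node 949 (.node 1193 .nil .nil) .nil)))) (.node 100 (.node 1415 (.node 36 (.node 1290 (.node 315 .nil .nil) (.node 1726 .nil .nil)) (.node 1299 (.node 1204 .nil .nil) .nil))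 (.node 1222 (.node 853 (.node 1166 .nil .nil) (.node 291 .nil .nil)) (.node 589 (.node 918 .nil .nil) .nil))) (.node 5 (.node 1157 (.node 1021 (.node 1334 .nil .nil) (.node 532 .nil .nil)) (.node 1529 (.node 1029 .nil .nil) .nil)) (.node 1348 (.node 744 (.node 1079 .nil .nil) .nil) (.node 969 (.node 1569 .nil .nil) .nil)))))))) (.node 339 (.node 755 (.node 343 (.node 984 (.node 669 (.node 230 (.node 539 (.node 1044 (.node 1531 .nil .nil) (.node 1584 .nil .nil)) (.node 1668 (.node 780 .nil .nil) .nil)) (.node 386 (.node 12 (.node 1581 .nil .nil) (.node 840 .nil .nil)) (.node 309 (.node 567 .nil .nil) .nil))) (.node 331 (.node 62 (.node 1410 (.node 296 .nil .nil) (.node 1303 .nil .nil)) (.node 756 (.node 493 .nil .nil) .nil)) (.node 1669 (.node 939 (.node 215 .nil .nil) (.node 1344 .nil .nil)) (.node 245 (.node 1510 .nil .nil) .nil)))) (.node 106 (.node 118 (.node 520 (.node 716 (.node 89 .nil .nil) (.node 973 .nil .nil)) (.node 1513 (.node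 830 .nil .nil) .nil)) (.node 416 (.node 1425 (.node 1762 .nil .nil) (.node 1353 .nil .nil)) (.node 1467 (.node 1759 .nil .nil) .nil))) (.node 1055 (.node 292 (.node 139 (.node 1734 .nil .nil) (.node 361 .nil .nil)) (.node 1779 (.node 93 .nil .nil) .nil)) (.node 883 (.node 1612 (.node 1391 .nil .nil) (.node 815 .nil .nil)) (.node 1286 (.node 1637 .nil .nil) .nil))))) (.node 580 (.node 1161 (.node 799 (.node 836 (.node 1673 (.node 1047 .nil .nil) (.node 304 .nil .nil)) (.node 593 (.node 257 .nil .nil) .nil)) (.node 568 (.node 1378 (.node 882 .nil .nil) (.node 1705 .nil .nil)) (.node 1327 (.node 523 .nil .nil) .nil))) (.node 679 (.node 214 (.node 590 (.node 329 .nil .nil) (.node 694 .nil .nil)) (.node 363 (.node 619 .nil .nil) .nil)) (.node 794 (.node 471 (.node 570 .nil .nil) (.node 1264 .nil .nil)) (.node 1774 (.node 581 .nil .nil) .nil)))) (.node 1645 (.node 1688 (.node 263 (.node 226 (.node 1387 .nil .nil) (.node 355 .nil .nil)) (.node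 1404 (.node 1567 .nil .nil) .nil)) (.node 1388 (.node 275 (.node 948 .nil .nil) (.node 583 .nil .nil)) (.node 533 (.node 413 .nil .nil) .nil))) (.node 426 (.node 564 (.node 1736 (.node 534 .nil .nil) (.node 1190 .nil .nil)) (.node 677 (.node 104 .nil .nil) .nil)) (.node 1077 (.node 1685 (.node 1558 .nil .nil) (.node 722 .nil .nil)) (.node 636 (.node 1509 .nil .nil) .nil)))))) (.node 0 (.node 96 (.node 472 (.node 293 (.node 7 (.node 319 (.node 1375 .nil .nil) (.node 1613 .nil .nil)) (.node 821 (.node 515 .nil .nil) .nil)) (.node 1599 (.node 524 (.node 328 .nil .nil) (.node 1658 .nil .nil)) (.node 1223 (.node 1573 .nil .nil) .nil))) (.node 1396 (.node 28 (.node 988 (.node 1198 .nil .nil) (.node 994 .nil .nil)) (.node 549 (.node 592 .nil .nil) .nil)) (.node 503 (.node 92 (.node 495 .nil .nil) (.node 410 .nil .nil)) (.node 21 (.node 1605 .nil .nil) .nil)))) (.node 352 (.node 41 (.node 1512 (.node 510 (.node 983 .nil .nil) (.node 964 .nil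 .nil)) (.node 1634 (.node 621 .nil .nil) .nil)) (.node 1382 (.node 379 (.node 545 .nil .nil) (.node 937 .nil .nil)) (.node 278 (.node 1095 .nil .nil) .nil))) (.node 48 (.node 982 (.node 146 (.node 1580 .nil .nil) (.node 629 .nil .nil)) (.node 1346 (.node 642 .nil .nil) .nil)) (.node 1359 (.node 1511 (.node 1532 .nil .nil) (.node 879 .nil .nil)) (.node 1126 (.node 137 .nil .nil) .nil))))) (.node 1305 (.node 415 (.node 427 (.node 295 (.node 330 (.node 284 .nil .nil) (.node 269 .nil .nil)) (.node 1562 (.node 1318 .nil .nil) .nil)) (.node 193 (.node 478 (.node 156 .nil .nil) (.node 620 .nil .nil)) (.node 1651 (.node 1750 .nil .nil) .nil))) (.node 1659 (.node 766 (.node 1390 (.node 302 .nil .nil) (.node 1701 .nil .nil)) (.node 204 (.node 1522 .nil .nil) .nil)) (.node 966 (.node 1763 (.node 1683 .nil .nil) (.node 632 .nil .nil)) (.node 1164 (.node 1677 .nil .nil) .nil)))) (.node 1398 (.node 1117 (.node 19 (.node 468 (.node 75 .nil .nil) (.node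 945 .nil .nil)) (.node 841 (.node 1211 .nil .nil) .nil)) (.node 367 (.node 1595 (.node 1739 .nil .nil) (.node 876 .nil .nil)) (.node 622 (.node 1543 .nil .nil) .nil))) (.node 1043 (.node 662 (.node 916 (.node 1335 .nil .nil) (.node 271 .nil .nil)) (.node 1294 (.node 1365 .nil .nil) .nil)) (.node 1033 (.node 1488 (.node 1125 .nil .nil) .nil) (.node 144 (.node 814 .nil .nil) .nil))))))) (.node 153 (.node 385 (.node 391 (.node 663 (.node 210 (.node 837 (.node 1517 (.node 1534 .nil .nil) (.node 77 .nil .nil)) (.node 713 (.node 828 .nil .nil) .nil)) (.node 906 (.node 1623 (.node 46 .nil .nil) (.node 1492 .nil .nil)) (.node 1122 (.node 962 .nil .nil) .nil))) (.node 967 (.node 378 (.node 1757 (.node 1589 .nil .nil) (.node 358 .nil .nil)) (.node 68 (.node 1301 .nil .nil) .nil)) (.node 1224 (.node 356 (.node 420 .nil .nil) (.node 782 .nil .nil)) (.node 761 (.node 1754 .nil .nil) .nil)))) (.node 1642 (.node 569 (.node 746 (.node 1644 (.node 1342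 .nil .nil) (.node 317 .nil .nil)) (.node 1373 (.node 1700 .nil .nil) .nil)) (.node 930 (.node 1173 (.node 1597 .nil .nil) (.node 1308 .nil .nil)) (.node 23 (.node 236 .nil .nil) .nil))) (.node 919 (.node 960 (.node 852 (.node 1722 .nil .nil) (.node 1075 .nil .nil)) (.node 1109 (.node 743 .nil .nil) .nil)) (.node 1663 (.node 1292 (.node 871 .nil .nil) (.node 364 .nil .nil)) (.node 1372 (.node 1098 .nil .nil) .nil))))) (.node 135 (.node 793 (.node 1284 (.node 507 (.node 88 (.node 481 .nil .nil) (.node 703 .nil .nil)) (.node 142 (.node 666 .nil .nil) .nil)) (.node 548 (.node 477 (.node 772 .nil .nil) (.node 873 .nil .nil)) (.node 920 (.node 1743 .nil .nil) .nil))) (.node 1472 (.node 1627 (.node 404 (.node 377 .nil .nil) (.node 1448 .nil .nil)) (.node 1721 (.node 1445 .nil .nil) .nil)) (.node 1639 (.node 435 (.node 1090 .nil .nil) (.node 1579 .nil .nil)) (.node 1219 (.node 651 .nil .nil) .nil)))) (.node 1616 (.node 650 (.node 977 (.node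 605 (.node 1583 .nil .nil) (.node 1279 .nil .nil)) (.node 1653 (.node 719 .nil .nil) .nil)) (.node 530 (.node 1104 (.node 1026 .nil .nil) (.node 272 .nil .nil)) (.node 451 (.node 1406 .nil .nil) .nil))) (.node 974 (.node 168 (.node 536 (.node 864 .nil .nil) (.node 1218 .nil .nil)) (.node 30 (.node 370 .nil .nil) .nil)) (.node 150 (.node 903 (.node 1780 .nil .nil) (.node 482 .nil .nil)) (.node 614 (.node 1266 .nil .nil) .nil)))))) (.node 851 (.node 84 (.node 448 (.node 672 (.node 67 (.node 159 (.node 1761 .nil .nil) (.node 1189 .nil .nil)) (.node 927 (.node 1771 .nil .nil) .nil)) (.node 618 (.node 1440 (.node 1194 .nil .nil) (.node 166 .nil .nil)) (.node 648 (.node 314 .nil .nil) .nil))) (.node 1243 (.node 1160 (.node 1067 (.node 1282 .nil .nil) (.node 1050 .nil .nil)) (.node 991 (.node 997 .nil .nil) .nil)) (.node 800 (.node 65 (.node 1520 .nil .nil) (.node 635 .nil .nil)) (.node 587 (.node 430 .nil .nil) .nil)))) (.node 771 (.node 963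 (.node 958 (.node 992 (.node 1092 .nil .nil) (.node 220 .nil .nil)) (.node 831 (.node 942 .nil .nil) .nil)) (.node 474 (.node 53 (.node 1697 .nil .nil) (.node 1662 .nil .nil)) (.node 480 (.node 1755 .nil .nil) .nil))) (.node 1434 (.node 936 (.node 931 (.node 1297 .nil .nil) (.node 412 .nil .nil)) (.node 1691 (.node 686 .nil .nil) .nil)) (.node 1317 (.node 1060 (.node 1221 .nil .nil) (.node 341 .nil .nil)) (.node 173 (.node 58 .nil .nil) .nil))))) (.node 627 (.node 1096 (.node 206 (.node 792 (.node 70 (.node 588 .nil .nil) (.node 1681 .nil .nil)) (.node 921 (.node 1718 .nil .nil) .nil)) (.node 943 (.node 777 (.node 433 .nil .nil) (.node 1208 .nil .nil)) (.node 1465 (.node 1028 .nil .nil) .nil))) (.node 1200 (.node 429 (.node 1540 (.node 1024 .nil .nil) (.node 1172 .nil .nil)) (.node 403 (.node 1535 .nil .nil) .nil)) (.node 1045 (.node 1768 (.node 1416 .nil .nil) (.node 1536 .nil .nil)) (.node 1620 (.node 1477 .nil .nil) .nil)))) (.node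 1686 (.node 1332 (.node 122 (.node 109 (.node 1377 .nil .nil) (.node 450 .nil .nil)) (.node 1746 (.node 1764 .nil .nil) .nil)) (.node 1012 (.node 747 (.node 598 .nil .nil) (.node 1357 .nil .nil)) (.node 1046 (.node 1311 .nil .nil) .nil))) (.node 898 (.node 1106 (.node 926 (.node 638 .nil .nil) (.node 1080 .nil .nil)) (.node 899 (.node 961 .nil .nil) .nil)) (.node 384 (.node 599 (.node 910 .nil .nil) .nil) (.node 940 (.node 608 .nil .nil) .nil)))))))))

/-- Data. -/
noncomputable def pos0_1 : Arr (ℕ) := (.node 396 (.node 99 (.node 558 (.node 678 (.node 57 (.node 129 (.node 859 (.node 350 (.node 896 (.node 323 .nil .nil) (.node 490 .nil .nil)) (.node 1479 (.node 40 .nil .nil) .nil)) (.node 11 (.node 239 (.node 1038 .nil .nil) (.node 414 .nil .nil)) (.node 709 (.node 1259 .nil .nil) .nil))) (.node 202 (.node 1053 (.node 929 (.node 833 .nil .nil) (.node 633 .nil .nil)) (.node 922 (.node 1179 .nil .nil) .nil)) (.node 1108 (.node 721 (.node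 1758 .nil .nil) (.node 1064 .nil .nil)) (.node 1304 (.node 237 .nil .nil) .nil)))) (.node 221 (.node 1624 (.node 535 (.node 499 (.node 1772 .nil .nil) (.node 657 .nil .nil)) (.node 655 (.node 1239 .nil .nil) .nil)) (.node 338 (.node 680 (.node 332 .nil .nil) (.node 1027 .nil .nil)) (.node 547 (.node 497 .nil .nil) .nil))) (.node 1717 (.node 208 (.node 501 (.node 1302 .nil .nil) (.node 754 .nil .nil)) (.node 1423 (.node 881 .nil .nil) .nil)) (.node 695 (.node 1295 (.node 80 .nil .nil) (.node 225 .nil .nil)) (.node 775 (.node 866 .nil .nil) .nil))))) (.node 753 (.node 838 (.node 345 (.node 327 (.node 874 (.node 1314 .nil .nil) (.node 1149 .nil .nil)) (.node 1419 (.node 1652 .nil .nil) .nil)) (.node 325 (.node 297 (.node 1031 .nil .nil) (.node 996 .nil .nil)) (.node 1556 (.node 1566 .nil .nil) .nil))) (.node 1133 (.node 13 (.node 784 (.node 26 .nil .nil) (.node 1251 .nil .nil)) (.node 1588 (.node 1649 .nil .nil) .nil)) (.node 1254 (.node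 1285 (.node 1319 .nil .nil) (.node 1296 .nil .nil)) (.node 511 (.node 860 .nil .nil) .nil)))) (.node 143 (.node 1277 (.node 764 (.node 334 (.node 1402 .nil .nil) (.node 735 .nil .nil)) (.node 1226 (.node 1563 .nil .nil) .nil)) (.node 993 (.node 745 (.node 597 .nil .nil) (.node 1560 .nil .nil)) (.node 1740 (.node 1019 .nil .nil) .nil))) (.node 550 (.node 1408 (.node 1196 (.node 634 .nil .nil) (.node 623 .nil .nil)) (.node 803 (.node 303 .nil .nil) .nil)) (.node 1769 (.node 877 (.node 1188 .nil .nil) (.node 610 .nil .nil)) (.node 457 (.node 1572 .nil .nil) .nil)))))) (.node 577 (.node 596 (.node 717 (.node 748 (.node 1310 (.node 1192 (.node 516 .nil .nil) (.node 1474 .nil .nil)) (.node 357 (.node 1548 .nil .nil) .nil)) (.node 285 (.node 905 (.node 1162 .nil .nil) (.node 1405 .nil .nil)) (.node 242 (.node 862 .nil .nil) .nil))) (.node 121 (.node 79 (.node 1466 (.node 689 .nil .nil) (.node 1704 .nil .nil)) (.node 61 (.node 235 .nil .nil)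 .nil)) (.node 294 (.node 1113 (.node 200 .nil .nil) (.node 1766 .nil .nil)) (.node 1437 (.node 1712 .nil .nil) .nil)))) (.node 1017 (.node 552 (.node 1703 (.node 955 (.node 38 .nil .nil) (.node 1167 .nil .nil)) (.node 1094 (.node 1384 .nil .nil) .nil)) (.node 1432 (.node 152 (.node 1621 .nil .nil) (.node 1401 .nil .nil)) (.node 1005 (.node 1025 .nil .nil) .nil))) (.node 1491 (.node 290 (.node 132 (.node 676 .nil .nil) (.node 298 .nil .nil)) (.node 733 (.node 1554 .nil .nil) .nil)) (.node 683 (.node 34 (.node 320 .nil .nil) (.node 697 .nil .nil)) (.node 1708 (.node 326 .nil .nil) .nil))))) (.node 333 (.node 1135 (.node 970 (.node 76 (.node 182 (.node 1773 .nil .nil) (.node 1059 .nil .nil)) (.node 50 (.node 1273 .nil .nil) .nil)) (.node 392 (.node 1760 (.node 652 .nil .nil) (.node 557 .nil .nil)) (.node 1607 (.node 1141 .nil .nil) .nil))) (.node 425 (.node 1325 (.node 431 (.node 351 .nil .nil) (.node 486 .nil .nil)) (.node 1183 (.node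 1202 .nil .nil) .nil)) (.node 469 (.node 1248 (.node 1504 .nil .nil) (.node 382 .nil .nil)) (.node 1626 (.node 1103 .nil .nil) .nil)))) (.node 1737 (.node 1195 (.node 1541 (.node 353 (.node 1590 .nil .nil) (.node 843 .nil .nil)) (.node 1682 (.node 311 .nil .nil) .nil)) (.node 167 (.node 846 (.node 758 .nil .nil) (.node 1500 .nil .nil)) (.node 1255 (.node 812 .nil .nil) .nil))) (.node 265 (.node 543 (.node 1744 (.node 1505 .nil .nil) (.node 1674 .nil .nil)) (.node 251 (.node 119 .nil .nil) .nil)) (.node 454 (.node 1392 (.node 734 .nil .nil) .nil) (.node 1462 (.node 671 .nil .nil) .nil))))))) (.node 573 (.node 848 (.node 288 (.node 252 (.node 2 (.node 240 (.node 205 (.node 147 .nil .nil) (.node 890 .nil .nil)) (.node 203 (.node 1151 .nil .nil) .nil)) (.node 1234 (.node 1238 (.node 1114 .nil .nil) (.node 110 .nil .nil)) (.node 466 (.node 790 .nil .nil) .nil))) (.node 473 (.node 259 (.node 267 (.node 1177 .nil .nil) (.node 1176 .nil .nil))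 (.node 1213 (.node 192 .nil .nil) .nil)) (.node 701 (.node 6 (.node 453 .nil .nil) (.node 563 .nil .nil)) (.node 665 (.node 1300 .nil .nil) .nil)))) (.node 1032 (.node 286 (.node 566 (.node 502 (.node 1339 .nil .nil) (.node 1361 .nil .nil)) (.node 946 (.node 1343 .nil .nil) .nil)) (.node 371 (.node 213 (.node 519 .nil .nil) (.node 1146 .nil .nil)) (.node 1439 (.node 1713 .nil .nil) .nil))) (.node 609 (.node 318 (.node 114 (.node 1076 .nil .nil) (.node 1129 .nil .nil)) (.node 1004 (.node 1245 .nil .nil) .nil)) (.node 1307 (.node 1385 (.node 1093 .nil .nil) (.node 103 .nil .nil)) (.node 492 (.node 1147 .nil .nil) .nil))))) (.node 189 (.node 1775 (.node 91 (.node 4 (.node 33 (.node 839 .nil .nil) (.node 586 .nil .nil)) (.node 875 (.node 1182 .nil .nil) .nil)) (.node 107 (.node 1328 (.node 804 .nil .nil) (.node 1656 .nil .nil)) (.node 957 (.node 1269 .nil .nil) .nil))) (.node 1411 (.node 246 (.node 801 (.node 1134 .nil .nil) (.node 1291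 .nil .nil)) (.node 1115 (.node 73 .nil .nil) .nil)) (.node 560 (.node 1770 (.node 971 .nil .nil) (.node 130 .nil .nil)) (.node 484 (.node 31 .nil .nil) .nil)))) (.node 542 (.node 455 (.node 675 (.node 847 (.node 850 .nil .nil) (.node 1170 .nil .nil)) (.node 531 (.node 1107 .nil .nil) .nil)) (.node 148 (.node 154 (.node 1142 .nil .nil) (.node 1596 .nil .nil)) (.node 1776 (.node 661 .nil .nil) .nil))) (.node 1362 (.node 591 (.node 1330 (.node 659 .nil .nil) (.node 1013 .nil .nil)) (.node 594 (.node 1258 .nil .nil) .nil)) (.node 1454 (.node 1054 (.node 934 .nil .nil) (.node 787 .nil .nil)) (.node 1489 (.node 1380 .nil .nil) .nil)))))) (.node 1246 (.node 538 (.node 1421 (.node 1719 (.node 1549 (.node 739 (.node 1428 .nil .nil) (.node 1366 .nil .nil)) (.node 730 (.node 1570 .nil .nil) .nil)) (.node 1711 (.node 1694 (.node 52 .nil .nil) (.node 1039 .nil .nil)) (.node 1171 (.node 1471 .nil .nil) .nil))) (.node 498 (.node 464 (.node 479 (.node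 212 .nil .nil) (.node 262 .nil .nil)) (.node 546 (.node 362 .nil .nil) .nil)) (.node 1501 (.node 1006 (.node 1237 .nil .nil) (.node 1165 .nil .nil)) (.node 1414 (.node 1587 .nil .nil) .nil)))) (.node 514 (.node 1145 (.node 1632 (.node 1609 (.node 1212 .nil .nil) (.node 500 .nil .nil)) (.node 256 (.node 1450 .nil .nil) .nil)) (.node 1418 (.node 316 (.node 188 .nil .nil) (.node 216 .nil .nil)) (.node 888 (.node 174 .nil .nil) .nil))) (.node 1629 (.node 842 (.node 508 (.node 197 .nil .nil) (.node 446 .nil .nil)) (.node 512 (.node 1687 .nil .nil) .nil)) (.node 1582 (.node 811 (.node 83 .nil .nil) (.node 1306 .nil .nil)) (.node 832 (.node 1035 .nil .nil) .nil))))) (.node 232 (.node 289 (.node 698 (.node 1407 (.node 1716 (.node 1619 .nil .nil) (.node 1444 .nil .nil)) (.node 1137 (.node 337 .nil .nil) .nil)) (.node 488 (.node 749 (.node 1539 .nil .nil) (.node 136 .nil .nil)) (.node 1364 (.node 1735 .nil .nil) .nil))) (.node 1215 (.node 274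 (.node 908 (.node 980 .nil .nil) (.node 1733 .nil .nil)) (.node 1105 (.node 1336 .nil .nil) .nil)) (.node 1144 (.node 781 (.node 1679 .nil .nil) (.node 639 .nil .nil)) (.node 140 (.node 71 .nil .nil) .nil)))) (.node 1240 (.node 944 (.node 47 (.node 1730 (.node 37 .nil .nil) (.node 740 .nil .nil)) (.node 975 (.node 1253 .nil .nil) .nil)) (.node 742 (.node 691 (.node 66 .nil .nil) (.node 674 .nil .nil)) (.node 1777 (.node 312 .nil .nil) .nil))) (.node 798 (.node 209 (.node 95 (.node 270 .nil .nil) (.node 1698 .nil .nil)) (.node 1118 (.node 1518 .nil .nil) .nil)) (.node 1101 (.node 1316 (.node 1576 .nil .nil) .nil) (.node 653 (.node 822 .nil .nil) .nil)))))))) (.node 1358 (.node 1298 (.node 35 (.node 218 (.node 134 (.node 78 (.node 965 (.node 1379 (.node 1426 .nil .nil) (.node 1575 .nil .nil)) (.node 1205 (.node 1502 .nil .nil) .nil)) (.node 105 (.node 157 (.node 1056 .nil .nil) (.node 1397 .nil .nil)) (.node 808 (.node 1622 .nil .nil)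 .nil))) (.node 1568 (.node 1452 (.node 1478 (.node 571 .nil .nil) (.node 807 .nil .nil)) (.node 889 (.node 724 .nil .nil) .nil)) (.node 1376 (.node 979 (.node 1507 .nil .nil) (.node 690 .nil .nil)) (.node 518 (.node 727 .nil .nil) .nil)))) (.node 720 (.node 372 (.node 279 (.node 1018 (.node 1438 .nil .nil) (.node 1497 .nil .nil)) (.node 684 (.node 1617 .nil .nil) .nil)) (.node 1180 (.node 1260 (.node 1648 .nil .nil) (.node 537 .nil .nil)) (.node 191 (.node 461 .nil .nil) .nil))) (.node 654 (.node 1007 (.node 941 (.node 762 .nil .nil) (.node 1696 .nil .nil)) (.node 1707 (.node 1665 .nil .nil) .nil)) (.node 1449 (.node 444 (.node 1169 .nil .nil) (.node 1158 .nil .nil)) (.node 419 (.node 1186 .nil .nil) .nil))))) (.node 111 (.node 229 (.node 196 (.node 1 (.node 504 (.node 616 .nil .nil) (.node 869 .nil .nil)) (.node 527 (.node 765 .nil .nil) .nil)) (.node 522 (.node 1680 (.node 1247 .nil .nil) (.node 3 .nil .nil)) (.node 1341 (.node 1250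 .nil .nil) .nil))) (.node 1355 (.node 301 (.node 517 (.node 641 .nil .nil) (.node 1598 .nil .nil)) (.node 354 (.node 1417 .nil .nil) .nil)) (.node 1252 (.node 141 (.node 1352 .nil .nil) (.node 1048 .nil .nil)) (.node 1699 (.node 1120 .nil .nil) .nil)))) (.node 1016 (.node 428 (.node 347 (.node 951 (.node 628 .nil .nil) (.node 1110 .nil .nil)) (.node 1514 (.node 1526 .nil .nil) .nil)) (.node 913 (.node 179 (.node 1409 .nil .nil) (.node 911 .nil .nil)) (.node 1225 (.node 551 .nil .nil) .nil))) (.node 1381 (.node 340 (.node 540 (.node 1767 .nil .nil) (.node 1127 .nil .nil)) (.node 1690 (.node 602 .nil .nil) .nil)) (.node 968 (.node 20 (.node 1042 .nil .nil) (.node 1400 .nil .nil)) (.node 809 (.node 1216 .nil .nil) .nil)))))) (.node 681 (.node 373 (.node 494 (.node 1715 (.node 760 (.node 714 (.node 496 .nil .nil) (.node 1606 .nil .nil)) (.node 1003 (.node 1585 .nil .nil) .nil)) (.node 788 (.node 465 (.node 928 .nil .nil) (.node 1564 .nil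 .nil)) (.node 933 (.node 1546 .nil .nil) .nil))) (.node 277 (.node 463 (.node 1138 (.node 768 .nil .nil) (.node 27 .nil .nil)) (.node 528 (.node 1618 .nil .nil) .nil)) (.node 604 (.node 767 (.node 1608 .nil .nil) (.node 1071 .nil .nil)) (.node 1232 (.node 1732 .nil .nil) .nil)))) (.node 1349 (.node 1123 (.node 1470 (.node 726 (.node 1099 .nil .nil) (.node 64 .nil .nil)) (.node 1537 (.node 995 .nil .nil) .nil)) (.node 834 (.node 1545 (.node 824 .nil .nil) (.node 959 .nil .nil)) (.node 43 (.node 17 .nil .nil) .nil))) (.node 1393 (.node 509 (.node 575 (.node 266 .nil .nil) (.node 195 .nil .nil)) (.node 387 (.node 1459 .nil .nil) .nil)) (.node 485 (.node 708 (.node 445 .nil .nil) (.node 1034 .nil .nil)) (.node 1009 (.node 1370 .nil .nil) .nil))))) (.node 1131 (.node 1525 (.node 158 (.node 909 (.node 1201 (.node 462 .nil .nil) (.node 956 .nil .nil)) (.node 1468 (.node 525 .nil .nil) .nil)) (.node 243 (.node 802 (.node 1230 .nil .nil) (.node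 1647 .nil .nil)) (.node 706 (.node 1275 .nil .nil) .nil))) (.node 112 (.node 1083 (.node 986 (.node 1333 .nil .nil) (.node 1591 .nil .nil)) (.node 947 (.node 1756 .nil .nil) .nil)) (.node 553 (.node 1460 (.node 366 .nil .nil) (.node 584 .nil .nil)) (.node 763 (.node 978 .nil .nil) .nil)))) (.node 87 (.node 858 (.node 308 (.node 409 (.node 1261 .nil .nil) (.node 1473 .nil .nil)) (.node 886 (.node 736 .nil .nil) .nil)) (.node 998 (.node 1187 (.node 817 .nil .nil) (.node 1156 .nil .nil)) (.node 400 (.node 1326 .nil .nil) .nil))) (.node 806 (.node 101 (.node 1178 (.node 885 .nil .nil) (.node 1487 .nil .nil)) (.node 1383 (.node 1429 .nil .nil) .nil)) (.node 1614 (.node 244 (.node 336 .nil .nil) .nil) (.node 1072 (.node 1356 .nil .nil) .nil))))))) (.node 436 (.node 282 (.node 1695 (.node 459 (.node 757 (.node 1578 (.node 223 (.node 1456 .nil .nil) (.node 1389 .nil .nil)) (.node 646 (.node 844 .nil .nil) .nil)) (.node 1233 (.node 1001 (.node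 1350 .nil .nil) (.node 1412 .nil .nil)) (.node 1175 (.node 10 .nil .nil) .nil))) (.node 390 (.node 276 (.node 626 (.node 94 .nil .nil) (.node 125 .nil .nil)) (.node 1360 (.node 1315 .nil .nil) .nil)) (.node 1729 (.node 1443 (.node 576 .nil .nil) (.node 513 .nil .nil)) (.node 1741 (.node 556 .nil .nil) .nil)))) (.node 45 (.node 405 (.node 374 (.node 449 (.node 1074 .nil .nil) (.node 439 .nil .nil)) (.node 925 (.node 673 .nil .nil) .nil)) (.node 1078 (.node 1403 (.node 470 .nil .nil) (.node 595 .nil .nil)) (.node 1081 (.node 255 .nil .nil) .nil))) (.node 458 (.node 878 (.node 1049 (.node 39 .nil .nil) (.node 1544 .nil .nil)) (.node 1731 (.node 1203 .nil .nil) .nil)) (.node 49 (.node 222 (.node 1593 .nil .nil) (.node 699 .nil .nil)) (.node 845 (.node 489 .nil .nil) .nil))))) (.node 752 (.node 177 (.node 1678 (.node 178 (.node 460 (.node 389 .nil .nil) (.node 1475 .nil .nil)) (.node 1199 (.node 249 .nil .nil) .nil)) (.node 615 (.node 247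 (.node 1288 .nil .nil) (.node 917 .nil .nil)) (.node 1508 (.node 1655 .nil .nil) .nil))) (.node 692 (.node 1011 (.node 555 (.node 805 .nil .nil) (.node 685 .nil .nil)) (.node 258 (.node 1041 .nil .nil) .nil)) (.node 668 (.node 175 (.node 1163 .nil .nil) (.node 219 .nil .nil)) (.node 579 (.node 1630 .nil .nil) .nil)))) (.node 253 (.node 180 (.node 1521 (.node 1244 (.node 1267 .nil .nil) (.node 211 .nil .nil)) (.node 1140 (.node 1091 .nil .nil) .nil)) (.node 476 (.node 1320 (.node 1087 .nil .nil) (.node 645 .nil .nil)) (.node 1354 (.node 1242 .nil .nil) .nil))) (.node 310 (.node 795 (.node 32 (.node 1503 .nil .nil) (.node 418 .nil .nil)) (.node 1574 (.node 261 .nil .nil) .nil)) (.node 22 (.node 169 (.node 1256 .nil .nil) .nil) (.node 1490 (.node 1168 .nil .nil) .nil)))))) (.node 783 (.node 1483 (.node 1063 (.node 582 (.node 1184 (.node 1442 (.node 1515 .nil .nil) (.node 1748 .nil .nil)) (.node 1338 (.node 1751 .nil .nil) .nil)) (.node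 1210 (.node 1457 (.node 1097 .nil .nil) (.node 1660 .nil .nil)) (.node 1241 (.node 375 .nil .nil) .nil))) (.node 231 (.node 1061 (.node 820 (.node 770 .nil .nil) (.node 1331 .nil .nil)) (.node 1057 (.node 145 .nil .nil) .nil)) (.node 199 (.node 1229 (.node 335 .nil .nil) (.node 1727 .nil .nil)) (.node 442 (.node 711 .nil .nil) .nil)))) (.node 529 (.node 54 (.node 81 (.node 1351 (.node 1706 .nil .nil) (.node 1015 .nil .nil)) (.node 1427 (.node 1710 .nil .nil) .nil)) (.node 1345 (.node 1214 (.node 985 .nil .nil) (.node 1143 .nil .nil)) (.node 1268 (.node 44 .nil .nil) .nil))) (.node 826 (.node 171 (.node 987 (.node 280 .nil .nil) (.node 368 .nil .nil)) (.node 1324 (.node 1347 .nil .nil) .nil)) (.node 1002 (.node 953 (.node 707 .nil .nil) (.node 1752 .nil .nil)) (.node 407 (.node 1323 .nil .nil) .nil))))) (.node 115 (.node 759 (.node 1646 (.node 456 (.node 710 (.node 1631 .nil .nil) (.node 1592 .nil .nil)) (.node 932 (.node 348 .nil .nil)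 .nil)) (.node 950 (.node 1565 (.node 693 .nil .nil) (.node 161 .nil .nil)) (.node 1020 (.node 1235 .nil .nil) .nil))) (.node 954 (.node 432 (.node 1654 (.node 273 .nil .nil) (.node 1265 .nil .nil)) (.node 380 (.node 1280 .nil .nil) .nil)) (.node 1119 (.node 194 (.node 16 .nil .nil) (.node 670 .nil .nil)) (.node 1453 (.node 1287 .nil .nil) .nil)))) (.node 85 (.node 287 (.node 1309 (.node 483 (.node 849 .nil .nil) (.node 1523 .nil .nil)) (.node 1601 (.node 1082 .nil .nil) .nil)) (.node 572 (.node 63 (.node 1650 .nil .nil) (.node 365 .nil .nil)) (.node 1236 (.node 705 .nil .nil) .nil))) (.node 102 (.node 1217 (.node 1374 (.node 346 .nil .nil) (.node 1524 .nil .nil)) (.node 359 (.node 1528 .nil .nil) .nil)) (.node 248 (.node 1552 (.node 1367 .nil .nil) .nil) (.node 165 (.node 728 .nil .nil) .nil)))))))))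

/-- Data. -/
noncomputable def pos0 : Arr (ℕ) := (.node 185 pos0_0 pos0_1)

/-- Data. -/
noncomputable def words1_0 : Arr (List ℕ) := (.node [11] (.node [13] (.node [14,11] (.node [22,11] (.node [11,13] (.node [19,11,11] (.node [23,17,11] (.node [17,16,12] (.node [14,20,14] (.node [19,17,20,11] .nil .nil) .nil) (.node [19,22,14,11] (.node [14,15,23,12] .nil .nil) .nil)) (.node [22,16,13] (.node [20,11,13,11] (.node [11,14,12,12] .nil .nil) .nil) (.node [23,15,17,11] .nil .nil))) (.node [22,23,11] (.node [11,23,12] (.node [20,15,11,11] (.node [22,16,22,11] .nil .nil) .nil) (.node [16,13,16,11] (.node [21,13,12,14] .nil .nil) .nil)) (.node [16,24,13] (.node [23,23,13,11] (.node [12,23,16,12] .nil .nil) .nil) (.node [12,12,19,11] .nil .nil)))) (.node [11,15,11] (.node [24,20,11] (.node [18,19,12] (.node [18,24,14] (.node [11,18,21,11] .nil .nil) .nil) (.node [11,18,15,11] (.node [23,19,15,13] .nil .nil) .nil)) (.node [17,20,13] (.node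 [13,18,13,11] (.node [12,14,14,12] .nil .nil) .nil) (.node [16,11,18,11] .nil .nil))) (.node [18,13,12] (.node [13,12,13] (.node [13,20,11,11] (.node [20,23,23,11] .nil .nil) .nil) (.node [22,23,16,11] .nil .nil)) (.node [13,16,14] (.node [11,16,14,11] (.node [24,15,19,12] .nil .nil) .nil) (.node [14,21,19,11] .nil .nil))))) (.node [16,14] (.node [22,13,11] (.node [15,19,11] (.node [23,17,12] (.node [11,23,14] (.node [18,11,21,11] .nil .nil) .nil) (.node [12,13,15,11] (.node [22,14,11,13] .nil .nil) .nil)) (.node [14,18,13] (.node [19,15,13,11] (.node [16,24,12,12] .nil .nil) .nil) (.node [13,21,17,11] .nil .nil))) (.node [14,12,12] (.node [17,24,12] (.node [17,17,11,11] (.node [23,12,23,11] .nil .nil) .nil) (.node [21,17,16,11] (.node [13,21,20,11,11] .nil .nil) .nil)) (.node [14,12,14] (.node [22,12,14,11] (.node [15,13,18,12] .nil .nil) .nil) (.node [18,14,19,11] .nil .nil)))) (.node [20,16,11] (.node [14,22,11] (.node [14,21,12]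 (.node [20,13,11,11] (.node [17,11,22,11] .nil .nil) .nil) (.node [23,23,15,11] (.node [13,22,18,13] .nil .nil) .nil)) (.node [20,22,13] (.node [15,20,13,11] (.node [24,15,15,12] .nil .nil) .nil) (.node [11,16,18,11] .nil .nil))) (.node [23,14,12] (.node [21,13,13] (.node [13,23,11,11] (.node [17,16,24,11] .nil .nil) .nil) (.node [15,13,17,11] .nil .nil)) (.node [14,18,14] (.node [15,19,14,11] (.node [12,15,21,12] .nil .nil) .nil) (.node [15,13,20,11] .nil .nil)))))) (.node [17,12] (.node [20,13] (.node [13,13,11] (.node [21,18,11] (.node [12,17,12] (.node [20,21,14] (.node [14,22,20,11] .nil .nil) .nil) (.node [17,24,14,11] (.node [22,12,24,12] .nil .nil) .nil)) (.node [17,17,13] (.node [24,12,13,11] (.node [23,19,12,12] .nil .nil) .nil) (.node [23,17,17,11] .nil .nil))) (.node [17,24,11] (.node [21,23,12] (.node [22,16,11,11] (.node [17,24,22,11] .nil .nil) .nil) (.node [21,14,16,11] (.node [14,17,19,14] .nil .nil) .nil)) (.node [15,11,14]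 (.node [17,11,14,11] (.node [13,21,17,12] .nil .nil) .nil) (.node [22,12,19,11] .nil .nil)))) (.node [23,15,11] (.node [19,21,11] (.node [17,20,12] (.node [17,11,11,11] (.node [15,21,21,11] .nil .nil) .nil) (.node [13,22,15,11] (.node [18,13,17,13] .nil .nil) .nil)) (.node [18,21,13] (.node [14,19,13,11] (.node [16,20,14,12] .nil .nil) .nil) (.node [22,12,18,11] .nil .nil))) (.node [14,14,12] (.node [11,13,13] (.node [21,21,11,11] (.node [23,12,24,11] .nil .nil) .nil) (.node [15,12,17,11] .nil .nil)) (.node [12,17,14] (.node [15,18,14,11] (.node [13,16,20,12] .nil .nil) .nil) (.node [15,12,20,11] .nil .nil))))) (.node [24,14] (.node [17,14,11] (.node [13,20,11] (.node [21,18,12] (.node [20,23,14] (.node [21,13,21,11] .nil .nil) .nil) (.node [22,14,15,11] (.node [13,13,13,13] .nil .nil) .nil)) (.node [14,19,13] (.node [11,17,13,11] (.node [16,21,13,12] .nil .nil) .nil) (.node [12,23,17,11] .nil .nil))) (.node [23,12,12] (.node [16,11,13]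 (.node [21,18,11,11] (.node [23,17,23,11] .nil .nil) .nil) (.node [13,20,16,11] .nil .nil)) (.node [15,14,14] (.node [24,14,14,11] (.node [12,22,18,12] .nil .nil) .nil) (.node [17,17,19,11] .nil .nil)))) (.node [14,17,11] (.node [12,23,11] (.node [13,22,12] (.node [17,14,11,11] (.node [22,12,22,11] .nil .nil) .nil) (.node [17,11,16,11] (.node [14,18,21,13] .nil .nil) .nil)) (.node [18,23,13] (.node [17,22,13,11] (.node [15,14,16,12] .nil .nil) .nil) (.node [23,22,18,11] .nil .nil))) (.node [20,15,12] (.node [22,15,13] (.node [23,23,11,11] (.node [15,21,24,11] .nil .nil) .nil) (.node [23,14,17,11] .nil .nil)) (.node [15,19,14] (.node [14,21,14,11] (.node [17,17,22,12] .nil .nil) .nil) (.node [16,14,20,11] .nil .nil))))))) (.node [18,11] (.node [13,12] (.node [16,13] (.node [23,11,11] (.node [13,18,11] (.node [21,16,12] (.node [16,21,14] (.node [20,21,20,11] .nil .nil) .nil) (.node [13,23,14,11] (.node [15,18,23,12] .nil .nil) .nil)) (.node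 [13,17,13] (.node [14,12,13,11] (.node [14,16,12,12] .nil .nil) .nil) (.node [20,16,17,11] .nil .nil))) (.node [13,24,11] (.node [16,23,12] (.node [17,16,11,11] (.node [17,17,22,11] .nil .nil) .nil) (.node [15,14,16,11] (.node [16,14,18,14] .nil .nil) .nil)) (.node [20,24,13] (.node [17,24,13,11] (.node [21,13,17,12] .nil .nil) .nil) (.node [18,12,19,11] .nil .nil)))) (.node [17,15,11] (.node [14,21,11] (.node [11,20,12] (.node [24,24,14] (.node [11,19,21,11] .nil .nil) .nil) (.node [13,21,15,11] (.node [23,12,16,13] .nil .nil) .nil)) (.node [12,21,13] (.node [21,18,13,11] (.node [14,16,14,12] .nil .nil) .nil) (.node [14,12,18,11] .nil .nil))) (.node [22,13,12] (.node [21,12,13] (.node [21,20,11,11] (.node [23,11,24,11] .nil .nil) .nil) (.node [24,24,16,11] .nil .nil)) (.node [20,16,14] (.node [24,16,14,11] (.node [18,11,20,12] .nil .nil) .nil) (.node [12,24,19,11] .nil .nil))))) (.node [20,14] (.node [12,14,11] (.node [21,19,11] (.node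 [13,18,12] (.node [16,23,14] (.node [13,13,21,11] .nil .nil) .nil) (.node [14,14,15,11] (.node [12,23,11,13] .nil .nil) .nil)) (.node [22,18,13] (.node [17,16,13,11] (.node [22,13,13,12] .nil .nil) .nil) (.node [20,21,17,11] .nil .nil))) (.node [19,12,12] (.node [22,24,12] (.node [11,18,11,11] (.node [22,14,23,11] .nil .nil) .nil) (.node [19,18,16,11] (.node [14,17,22,14,11] .nil .nil) .nil)) (.node [21,12,14] (.node [15,14,14,11] (.node [20,18,18,12] .nil .nil) .nil) (.node [15,15,19,11] .nil .nil)))) (.node [24,16,11] (.node [19,22,11] (.node [19,21,12] (.node [11,14,11,11] (.node [17,12,22,11] .nil .nil) .nil) (.node [17,24,15,11] (.node [22,13,19,13] .nil .nil) .nil)) (.node [11,23,13] (.node [11,22,13,11] (.node [15,21,15,12] .nil .nil) .nil) (.node [12,21,18,11] .nil .nil))) (.node [13,15,12] (.node [18,15,13] (.node [18,23,11,11] (.node [23,18,24,11] .nil .nil) .nil) (.node [22,13,17,11] .nil .nil)) (.node [21,18,14] (.node [11,20,14,11]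 (.node [11,19,21,12] .nil .nil) .nil) (.node [11,14,20,11] .nil .nil)))))) (.node [21,12] (.node [24,13] (.node [18,13,11] (.node [11,19,11] (.node [16,17,12] (.node [12,22,14] (.node [18,23,20,11] .nil .nil) .nil) (.node [14,11,15,11] (.node [19,18,24,12] .nil .nil) .nil)) (.node [23,17,13] (.node [24,13,13,11] (.node [22,22,12,12] .nil .nil) .nil) (.node [12,20,17,11] .nil .nil))) (.node [21,24,11] (.node [12,24,12] (.node [12,17,11,11] (.node [20,11,23,11] .nil .nil) .nil) (.node [15,17,16,11] (.node [19,14,24,14] .nil .nil) .nil)) (.node [22,11,14] (.node [15,12,14,11] (.node [22,22,17,12] .nil .nil) .nil) (.node [20,13,19,11] .nil .nil)))) (.node [13,16,11] (.node [24,21,11] (.node [24,20,12] (.node [24,11,11,11] (.node [22,24,21,11] .nil .nil) .nil) (.node [14,23,15,11] (.node [14,22,17,13] .nil .nil) .nil)) (.node [24,21,13] (.node [21,19,13,11] (.node [20,23,14,12] .nil .nil) .nil) (.node [21,13,18,11] .nil .nil))) (.node [18,14,12]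 (.node [17,13,13] (.node [18,22,11,11] (.node [20,14,24,11] .nil .nil) .nil) (.node [19,12,17,11] .nil .nil)) (.node [21,17,14] (.node [21,18,14,11] (.node [11,23,20,12] .nil .nil) .nil) (.node [22,12,20,11] .nil .nil))))) (.node [15,11,11] (.node [21,14,11] (.node [18,20,11] (.node [11,19,12] (.node [13,24,14] (.node [21,14,21,11] .nil .nil) .nil) (.node [24,15,15,11] (.node [13,20,13,13] .nil .nil) .nil)) (.node [12,20,13] (.node [16,17,13,11] (.node [16,24,13,12] .nil .nil) .nil) (.node [18,23,17,11] .nil .nil))) (.node [13,13,12] (.node [21,11,13] (.node [16,19,11,11] (.node [12,22,23,11] .nil .nil) .nil) (.node [13,22,16,11] .nil .nil)) (.node [23,14,14] (.node [19,15,14,11] (.node [15,11,19,12] .nil .nil) .nil) (.node [19,18,19,11] .nil .nil)))) (.node [19,17,11] (.node [17,23,11] (.node [17,22,12] (.node [24,14,11,11] (.node [24,13,22,11] .nil .nil) .nil) (.node [21,12,16,11] (.node [19,12,23,13] .nil .nil) .nil)) (.node [23,23,13]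 (.node [24,22,13,11] (.node [21,17,16,12] .nil .nil) .nil) (.node [15,11,19,11] .nil .nil))) (.node [11,16,12] (.node [13,16,13] (.node [22,24,11,11] (.node [23,12,12,12] .nil .nil) .nil) (.node [15,15,17,11] .nil .nil)) (.node [23,19,14] (.node [11,22,14,11] (.node [19,12,23,12] .nil .nil) .nil) (.node [13,15,20,11] .nil .nil)))))))) (.node [11,11] (.node [16,11] (.node [24,11] (.node [13,13] (.node [21,11,11] (.node [11,18,11] (.node [19,16,12] (.node [17,20,14] (.node [13,21,20,11] .nil .nil) .nil) (.node [22,22,14,11] (.node [12,18,23,12] .nil .nil) .nil)) (.node [24,16,13] (.node [12,12,13,11] (.node [23,15,12,12] .nil .nil) .nil) (.node [14,16,17,11] .nil .nil))) (.node [11,24,11] (.node [13,23,12] (.node [11,16,11,11] (.node [14,17,22,11] .nil .nil) .nil) (.node [22,13,16,11] (.node [11,20,17,14] .nil .nil) .nil)) (.node [18,24,13] (.node [13,24,13,11] (.node [16,12,17,12] .nil .nil) .nil) (.node [15,12,19,11] .nil .nil)))) (.node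 [14,15,11] (.node [12,21,11] (.node [22,19,12] (.node [21,24,14] (.node [15,18,21,11] .nil .nil) .nil) (.node [18,18,15,11] (.node [15,21,15,13] .nil .nil) .nil)) (.node [22,20,13] (.node [15,18,13,11] (.node [12,15,14,12] .nil .nil) .nil) (.node [19,11,18,11] .nil .nil))) (.node [20,13,12] (.node [17,12,13] (.node [16,20,11,11] (.node [21,11,24,11] .nil .nil) .nil) (.node [13,24,16,11] .nil .nil)) (.node [17,16,14] (.node [18,16,14,11] (.node [11,24,19,12] .nil .nil) .nil) (.node [15,22,19,11] .nil .nil))))) (.node [18,14] (.node [24,13,11] (.node [17,19,11] (.node [11,18,12] (.node [14,23,14] (.node [20,12,21,11] .nil .nil) .nil) (.node [16,13,15,11] (.node [11,21,11,13] .nil .nil) .nil)) (.node [18,18,13] (.node [24,15,13,11] (.node [13,13,13,12] .nil .nil) .nil) (.node [16,21,17,11] .nil .nil))) (.node [16,12,12] (.node [19,24,12] (.node [21,17,11,11] (.node [19,13,23,11] .nil .nil) .nil) (.node [12,18,16,11] (.node [16,14,15,13,11]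 .nil .nil) .nil)) (.node [16,12,14] (.node [12,14,14,11] (.node [17,13,18,12] .nil .nil) .nil) (.node [12,15,19,11] .nil .nil)))) (.node [22,16,11] (.node [16,22,11] (.node [17,21,12] (.node [23,13,11,11] (.node [22,11,22,11] .nil .nil) .nil) (.node [13,24,15,11] (.node [15,12,19,13] .nil .nil) .nil)) (.node [23,22,13] (.node [24,20,13,11] (.node [24,20,15,12] .nil .nil) .nil) (.node [23,16,18,11] .nil .nil))) (.node [11,15,12] (.node [11,15,13] (.node [16,23,11,11] (.node [20,17,24,11] .nil .nil) .nil) (.node [19,13,17,11] .nil .nil)) (.node [16,18,14] (.node [18,19,14,11] (.node [11,17,21,12] .nil .nil) .nil) (.node [17,13,20,11] .nil .nil)))))) (.node [19,12] (.node [22,13] (.node [16,13,11] (.node [23,18,11] (.node [14,17,12] (.node [24,21,14] (.node [11,23,20,11] .nil .nil) .nil) (.node [22,24,14,11] (.node [18,13,24,12] .nil .nil) .nil)) (.node [21,17,13] (.node [18,13,13,11] (.node [14,21,12,12] .nil .nil) .nil) (.node [23,19,17,11]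 .nil .nil))) (.node [19,24,11] (.node [23,23,12] (.node [24,16,11,11] (.node [15,11,23,11] .nil .nil) .nil) (.node [11,17,16,11] (.node [16,12,22,14] .nil .nil) .nil)) (.node [17,11,14] (.node [21,11,14,11] (.node [20,21,17,12] .nil .nil) .nil) (.node [16,13,19,11] .nil .nil)))) (.node [11,16,11] (.node [21,21,11] (.node [21,20,12] (.node [22,11,11,11] (.node [24,21,21,11] .nil .nil) .nil) (.node [11,23,15,11] (.node [13,16,17,13] .nil .nil) .nil)) (.node [21,21,13] (.node [17,19,13,11] (.node [14,23,14,12] .nil .nil) .nil) (.node [13,13,18,11] .nil .nil))) (.node [16,14,12] (.node [15,13,13] (.node [13,22,11,11] (.node [17,14,24,11] .nil .nil) .nil) (.node [17,12,17,11] .nil .nil)) (.node [19,17,14] (.node [19,18,14,11] (.node [15,18,20,12] .nil .nil) .nil) (.node [17,12,20,11] .nil .nil))))) (.node [13,11,11] (.node [19,14,11] (.node [15,20,11] (.node [23,18,12] (.node [11,24,14] (.node [15,14,21,11] .nil .nil) .nil) (.node [24,14,15,11]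 (.node [12,17,13,13] .nil .nil) .nil)) (.node [21,19,13] (.node [13,17,13,11] (.node [11,24,13,12] .nil .nil) .nil) (.node [15,23,17,11] .nil .nil))) (.node [11,13,12] (.node [18,11,13] (.node [24,18,11,11] (.node [11,20,23,11] .nil .nil) .nil) (.node [14,21,16,11] .nil .nil)) (.node [18,14,14] (.node [13,15,14,11] (.node [12,23,18,12] .nil .nil) .nil) (.node [23,17,19,11] .nil .nil)))) (.node [16,17,11] (.node [14,23,11] (.node [15,22,12] (.node [22,14,11,11] (.node [19,13,22,11] .nil .nil) .nil) (.node [21,11,16,11] (.node [13,24,21,13] .nil .nil) .nil)) (.node [20,23,13] (.node [20,22,13,11] (.node [22,14,16,12] .nil .nil) .nil) (.node [20,23,18,11] .nil .nil))) (.node [22,15,12] (.node [24,15,13] (.node [18,24,11,11] (.node [14,12,12,12] .nil .nil) .nil) (.node [12,15,17,11] .nil .nil)) (.node [21,19,14] (.node [17,21,14,11] (.node [14,11,23,12] .nil .nil) .nil) (.node [22,14,20,11] .nil .nil))))))) (.node [20,11] (.node [15,12]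 (.node [18,13] (.node [11,13,11] (.node [16,18,11] (.node [23,16,12] (.node [18,21,14] (.node [11,22,20,11] .nil .nil) .nil) (.node [20,23,14,11] (.node [17,12,24,12] .nil .nil) .nil)) (.node [15,17,13] (.node [16,12,13,11] (.node [18,18,12,12] .nil .nil) .nil) (.node [14,17,17,11] .nil .nil))) (.node [15,24,11] (.node [18,23,12] (.node [19,16,11,11] (.node [18,20,22,11] .nil .nil) .nil) (.node [17,14,16,11] (.node [14,24,18,14] .nil .nil) .nil)) (.node [13,11,14] (.node [11,11,14,11] (.node [22,14,17,12] .nil .nil) .nil) (.node [20,12,19,11] .nil .nil)))) (.node [21,15,11] (.node [17,21,11] (.node [14,20,12] (.node [14,11,11,11] (.node [13,20,21,11] .nil .nil) .nil) (.node [16,21,15,11] (.node [22,22,16,13] .nil .nil) .nil)) (.node [14,21,13] (.node [11,19,13,11] (.node [24,19,14,12] .nil .nil) .nil) (.node [16,12,18,11] .nil .nil))) (.node [24,13,12] (.node [23,12,13] (.node [13,21,11,11] (.node [18,12,24,11] .nil .nil) .nil) (.node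 [12,12,17,11] .nil .nil)) (.node [24,16,14] (.node [20,17,14,11] (.node [17,12,20,12] .nil .nil) .nil) (.node [21,24,19,11] .nil .nil))))) (.node [22,14] (.node [15,14,11] (.node [24,19,11] (.node [19,18,12] (.node [18,23,14] (.node [17,13,21,11] .nil .nil) .nil) (.node [20,14,15,11] (.node [18,14,12,13] .nil .nil) .nil)) (.node [12,19,13] (.node [22,16,13,11] (.node [22,18,13,12] .nil .nil) .nil) (.node [11,22,17,11] .nil .nil))) (.node [21,12,12] (.node [13,11,13] (.node [18,18,11,11] (.node [21,17,23,11] .nil .nil) .nil) (.node [22,18,16,11] .nil .nil)) (.node [11,14,14] (.node [17,14,14,11] (.node [13,19,18,12] .nil .nil) .nil) (.node [12,17,19,11] .nil .nil)))) (.node [12,17,11] (.node [24,22,11] (.node [24,21,12] (.node [15,14,11,11] (.node [19,12,22,11] .nil .nil) .nil) (.node [15,11,16,11] (.node [14,24,19,13] .nil .nil) .nil)) (.node [13,23,13] (.node [14,22,13,11] (.node [20,12,16,12] .nil .nil) .nil) (.node [15,22,18,11] .nil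 .nil))) (.node [18,15,12] (.node [20,15,13] (.node [20,23,11,11] (.node [13,19,24,11] .nil .nil) .nil) (.node [24,13,17,11] .nil .nil)) (.node [12,19,14] (.node [15,20,14,11] (.node [19,14,22,12] .nil .nil) .nil) (.node [14,14,20,11] .nil .nil)))))) (.node [23,12] (.node [12,14] (.node [20,13,11] (.node [13,19,11] (.node [21,17,12] (.node [23,22,14] (.node [21,24,20,11] .nil .nil) .nil) (.node [19,11,15,11] (.node [15,14,11,13] .nil .nil) .nil)) (.node [11,18,13] (.node [13,15,13,11] (.node [23,23,12,12] .nil .nil) .nil) (.node [18,20,17,11] .nil .nil))) (.node [12,12,12] (.node [14,24,12] (.node [15,17,11,11] (.node [23,11,23,11] .nil .nil) .nil) (.node [17,17,16,11] (.node [23,19,13,11,11] .nil .nil) .nil)) (.node [12,12,14] (.node [19,12,14,11] (.node [24,11,18,12] .nil .nil) .nil) (.node [24,13,19,11] .nil .nil)))) (.node [17,16,11] (.node [12,22,11] (.node [12,21,12] (.node [17,13,11,11] (.node [14,11,22,11] .nil .nil) .nil) (.node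 [16,23,15,11] (.node [17,14,18,13] .nil .nil) .nil)) (.node [13,22,13] (.node [12,20,13,11] (.node [20,11,15,12] .nil .nil) .nil) (.node [11,14,18,11] .nil .nil))) (.node [20,14,12] (.node [19,13,13] (.node [22,22,11,11] (.node [22,14,24,11] .nil .nil) .nil) (.node [22,12,17,11] .nil .nil)) (.node [12,18,14] (.node [11,19,14,11] (.node [22,12,21,12] .nil .nil) .nil) (.node [24,12,20,11] .nil .nil))))) (.node [17,11,11] (.node [23,14,11] (.node [22,20,11] (.node [15,19,12] (.node [15,24,14] (.node [24,15,21,11] .nil .nil) .nil) (.node [17,17,15,11] (.node [17,12,15,13] .nil .nil) .nil)) (.node [15,20,13] (.node [22,17,13,11] (.node [18,11,14,12] .nil .nil) .nil) (.node [16,24,17,11] .nil .nil))) (.node [16,13,12] (.node [23,11,13] (.node [21,19,11,11] (.node [13,23,23,11] .nil .nil) .nil) (.node [12,23,16,11] .nil .nil)) (.node [11,16,14] (.node [22,15,14,11] (.node [22,11,19,12] .nil .nil) .nil) (.node [11,21,19,11] .nil .nil)))) (.node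 [21,17,11] (.node [20,23,11] (.node [20,22,12] (.node [14,15,11,11] (.node [15,15,22,11] .nil .nil) .nil) (.node [13,13,16,11] (.node [12,18,24,13] .nil .nil) .nil)) (.node [14,24,13] (.node [16,23,13,11] (.node [16,20,16,12] .nil .nil) .nil) (.node [19,11,19,11] .nil .nil))) (.node [13,16,12] (.node [17,16,13] (.node [13,11,13,11] (.node [20,13,12,12] .nil .nil) .nil) (.node [20,15,17,11] .nil .nil)) (.node [11,20,14] (.node [17,22,14,11] (.node [23,12,23,12] .nil .nil) .nil) (.node [21,15,20,11] .nil .nil)))))))))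

/-- Data. -/
noncomputable def words1_1 : Arr (List ℕ) := (.node [12] (.node [14] (.node [15,11] (.node [23,11] (.node [12,13] (.node [20,11,11] (.node [24,17,11] (.node [18,16,12] (.node [16,20,14] (.node [14,18,20,11] .nil .nil) .nil) (.node [20,22,14,11] (.node [17,15,23,12] .nil .nil) .nil)) (.node [23,16,13] (.node [23,11,13,11] (.node [19,15,12,12] .nil .nil) .nil) (.node [13,16,17,11] .nil .nil))) (.node [23,23,11] (.node [12,23,12] (.node [21,15,11,11] (.node [12,17,22,11] .nil .nil) .nil) (.node [17,13,16,11] (.node [11,17,14,14] .nil .nil) .nil)) (.node [17,24,13] (.node [11,24,13,11] (.node [16,11,17,12] .nil .nil) .nil) (.node [13,12,19,11] .nil .nil)))) (.node [13,15,11] (.node [11,21,11] (.node [21,19,12] (.node [19,24,14] (.node [14,18,21,11] .nil .nil) .nil) (.node [13,18,15,11] (.node [14,20,15,13] .nil .nil) .nil)) (.node [18,20,13] (.node [14,18,13,11] (.node [11,15,14,12] .nil .nil) .nil) (.node [17,11,18,11] .nil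 .nil))) (.node [19,13,12] (.node [14,12,13] (.node [14,20,11,11] (.node [18,11,24,11] .nil .nil) .nil) (.node [12,24,16,11] .nil .nil)) (.node [14,16,14] (.node [12,16,14,11] (.node [12,17,19,12] .nil .nil) .nil) (.node [14,22,19,11] .nil .nil))))) (.node [17,14] (.node [23,13,11] (.node [16,19,11] (.node [24,17,12] (.node [12,23,14] (.node [13,12,21,11] .nil .nil) .nil) (.node [15,13,15,11] (.node [11,18,11,13] .nil .nil) .nil)) (.node [15,18,13] (.node [23,15,13,11] (.node [21,24,12,12] .nil .nil) .nil) (.node [14,21,17,11] .nil .nil))) (.node [15,12,12] (.node [18,24,12] (.node [20,17,11,11] (.node [15,13,23,11] .nil .nil) .nil) (.node [24,17,16,11] (.node [13,19,11,13,11] .nil .nil) .nil)) (.node [15,12,14] (.node [23,12,14,11] (.node [16,13,18,12] .nil .nil) .nil) (.node [24,14,19,11] .nil .nil)))) (.node [21,16,11] (.node [15,22,11] (.node [15,21,12] (.node [22,13,11,11] (.node [19,11,22,11] .nil .nil) .nil) (.node [11,24,15,11]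 (.node [12,12,19,13] .nil .nil) .nil)) (.node [22,22,13] (.node [17,20,13,11] (.node [11,18,15,12] .nil .nil) .nil) (.node [19,16,18,11] .nil .nil))) (.node [24,14,12] (.node [22,13,13] (.node [15,23,11,11] (.node [13,17,24,11] .nil .nil) .nil) (.node [16,13,17,11] .nil .nil)) (.node [15,18,14] (.node [16,19,14,11] (.node [23,15,21,12] .nil .nil) .nil) (.node [16,13,20,11] .nil .nil)))))) (.node [18,12] (.node [21,13] (.node [15,13,11] (.node [22,18,11] (.node [13,17,12] (.node [21,21,14] (.node [18,22,20,11] .nil .nil) .nil) (.node [18,24,14,11] (.node [23,12,24,12] .nil .nil) .nil)) (.node [20,17,13] (.node [17,13,13,11] (.node [13,20,12,12] .nil .nil) .nil) (.node [24,17,17,11] .nil .nil))) (.node [18,24,11] (.node [22,23,12] (.node [23,16,11,11] (.node [14,11,23,11] .nil .nil) .nil) (.node [24,14,16,11] (.node [13,16,21,14] .nil .nil) .nil)) (.node [16,11,14] (.node [19,11,14,11] (.node [14,21,17,12] .nil .nil) .nil) (.node [11,13,19,11]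 .nil .nil)))) (.node [24,15,11] (.node [20,21,11] (.node [18,20,12] (.node [21,11,11,11] (.node [16,21,21,11] .nil .nil) .nil) (.node [22,22,15,11] (.node [19,14,17,13] .nil .nil) .nil)) (.node [19,21,13] (.node [15,19,13,11] (.node [12,23,14,12] .nil .nil) .nil) (.node [24,12,18,11] .nil .nil))) (.node [15,14,12] (.node [13,13,13] (.node [12,22,11,11] (.node [24,12,24,11] .nil .nil) .nil) (.node [16,12,17,11] .nil .nil)) (.node [16,17,14] (.node [18,18,14,11] (.node [11,18,20,12] .nil .nil) .nil) (.node [16,12,20,11] .nil .nil))))) (.node [11,11,11] (.node [18,14,11] (.node [14,20,11] (.node [22,18,12] (.node [23,23,14] (.node [22,13,21,11] .nil .nil) .nil) (.node [23,14,15,11] (.node [24,16,13,13] .nil .nil) .nil)) (.node [17,19,13] (.node [12,17,13,11] (.node [21,21,13,12] .nil .nil) .nil) (.node [14,23,17,11] .nil .nil))) (.node [24,12,12] (.node [17,11,13] (.node [22,18,11,11] (.node [23,19,23,11] .nil .nil) .nil) (.node [14,20,16,11]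 .nil .nil)) (.node [17,14,14] (.node [12,15,14,11] (.node [13,22,18,12] .nil .nil) .nil) (.node [21,17,19,11] .nil .nil)))) (.node [15,17,11] (.node [13,23,11] (.node [14,22,12] (.node [18,14,11,11] (.node [23,12,22,11] .nil .nil) .nil) (.node [18,11,16,11] (.node [11,21,21,13] .nil .nil) .nil)) (.node [19,23,13] (.node [18,22,13,11] (.node [19,14,16,12] .nil .nil) .nil) (.node [12,23,18,11] .nil .nil))) (.node [21,15,12] (.node [23,15,13] (.node [15,24,11,11] (.node [17,21,24,11] .nil .nil) .nil) (.node [11,15,17,11] .nil .nil)) (.node [17,19,14] (.node [16,21,14,11] (.node [14,20,22,12] .nil .nil) .nil) (.node [19,14,20,11] .nil .nil))))))) (.node [19,11] (.node [14,12] (.node [17,13] (.node [24,11,11] (.node [14,18,11] (.node [22,16,12] (.node [17,21,14] (.node [21,21,20,11] .nil .nil) .nil) (.node [16,23,14,11] (.node [18,20,23,12] .nil .nil) .nil)) (.node [14,17,13] (.node [15,12,13,11] (.node [19,16,12,12] .nil .nil) .nil) (.node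 [22,16,17,11] .nil .nil))) (.node [14,24,11] (.node [17,23,12] (.node [18,16,11,11] (.node [13,19,22,11] .nil .nil) .nil) (.node [16,14,16,11] (.node [18,14,18,14] .nil .nil) .nil)) (.node [24,24,13] (.node [21,24,13,11] (.node [21,14,17,12] .nil .nil) .nil) (.node [19,12,19,11] .nil .nil)))) (.node [18,15,11] (.node [15,21,11] (.node [12,20,12] (.node [11,11,11,11] (.node [15,19,21,11] .nil .nil) .nil) (.node [15,21,15,11] (.node [12,14,16,13] .nil .nil) .nil)) (.node [13,21,13] (.node [24,18,13,11] (.node [11,17,14,12] .nil .nil) .nil) (.node [15,12,18,11] .nil .nil))) (.node [23,13,12] (.node [22,12,13] (.node [24,20,11,11] (.node [24,11,24,11] .nil .nil) .nil) (.node [18,11,17,11] .nil .nil)) (.node [22,16,14] (.node [17,17,14,11] (.node [24,11,20,12] .nil .nil) .nil) (.node [20,24,19,11] .nil .nil))))) (.node [21,14] (.node [14,14,11] (.node [22,19,11] (.node [18,18,12] (.node [17,23,14] (.node [15,13,21,11] .nil .nil) .nil) (.node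 [17,14,15,11] (.node [11,24,11,13] .nil .nil) .nil)) (.node [23,18,13] (.node [19,16,13,11] (.node [14,18,13,12] .nil .nil) .nil) (.node [24,21,17,11] .nil .nil))) (.node [20,12,12] (.node [24,24,12] (.node [12,18,11,11] (.node [24,14,23,11] .nil .nil) .nil) (.node [20,18,16,11] (.node [22,11,24,15,11] .nil .nil) .nil)) (.node [24,12,14] (.node [16,14,14,11] (.node [21,18,18,12] .nil .nil) .nil) (.node [17,16,19,11] .nil .nil)))) (.node [11,17,11] (.node [20,22,11] (.node [21,21,12] (.node [14,14,11,11] (.node [18,12,22,11] .nil .nil) .nil) (.node [20,24,15,11] (.node [22,14,19,13] .nil .nil) .nil)) (.node [12,23,13] (.node [12,22,13,11] (.node [19,24,15,12] .nil .nil) .nil) (.node [11,22,18,11] .nil .nil))) (.node [15,15,12] (.node [19,15,13] (.node [19,23,11,11] (.node [24,18,24,11] .nil .nil) .nil) (.node [23,13,17,11] .nil .nil)) (.node [24,18,14] (.node [13,20,14,11] (.node [14,12,22,12] .nil .nil) .nil) (.node [12,14,20,11] .nil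 .nil)))))) (.node [22,12] (.node [11,14] (.node [19,13,11] (.node [12,19,11] (.node [17,17,12] (.node [17,22,14] (.node [16,24,20,11] .nil .nil) .nil) (.node [18,11,15,11] (.node [17,19,24,12] .nil .nil) .nil)) (.node [24,17,13] (.node [11,15,13,11] (.node [16,23,12,12] .nil .nil) .nil) (.node [13,20,17,11] .nil .nil))) (.node [22,24,11] (.node [13,24,12] (.node [13,17,11,11] (.node [22,11,23,11] .nil .nil) .nil) (.node [16,17,16,11] (.node [13,21,11,11,11] .nil .nil) .nil)) (.node [24,11,14] (.node [18,12,14,11] (.node [19,11,18,12] .nil .nil) .nil) (.node [21,13,19,11] .nil .nil)))) (.node [14,16,11] (.node [11,22,11] (.node [11,21,12] (.node [12,13,11,11] (.node [24,24,21,11] .nil .nil) .nil) (.node [15,23,15,11] (.node [11,14,18,13] .nil .nil) .nil)) (.node [12,22,13] (.node [11,20,13,11] (.node [12,24,14,12] .nil .nil) .nil) (.node [22,13,18,11] .nil .nil))) (.node [19,14,12] (.node [18,13,13] (.node [20,22,11,11] (.node [21,14,24,11]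 .nil .nil) .nil) (.node [20,12,17,11] .nil .nil)) (.node [24,17,14] (.node [23,18,14,11] (.node [16,12,21,12] .nil .nil) .nil) (.node [23,12,20,11] .nil .nil))))) (.node [16,11,11] (.node [22,14,11] (.node [21,20,11] (.node [13,19,12] (.node [14,24,14] (.node [17,15,21,11] .nil .nil) .nil) (.node [12,17,15,11] (.node [13,21,13,13] .nil .nil) .nil)) (.node [14,20,13] (.node [20,17,13,11] (.node [11,11,14,12] .nil .nil) .nil) (.node [21,23,17,11] .nil .nil))) (.node [15,13,12] (.node [22,11,13] (.node [18,19,11,11] (.node [11,23,23,11] .nil .nil) .nil) (.node [22,22,16,11] .nil .nil)) (.node [24,14,14] (.node [20,15,14,11] (.node [17,11,19,12] .nil .nil) .nil) (.node [22,18,19,11] .nil .nil)))) (.node [20,17,11] (.node [19,23,11] (.node [19,22,12] (.node [12,15,11,11] (.node [19,14,22,11] .nil .nil) .nil) (.node [24,12,16,11] (.node [17,12,24,13] .nil .nil) .nil)) (.node [12,24,13] (.node [15,23,13,11] (.node [11,19,16,12] .nil .nil) .nil)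 (.node [18,11,19,11] .nil .nil))) (.node [12,16,12] (.node [14,16,13] (.node [11,11,13,11] (.node [18,13,12,12] .nil .nil) .nil) (.node [17,15,17,11] .nil .nil)) (.node [24,19,14] (.node [16,22,14,11] (.node [22,12,23,12] .nil .nil) .nil) (.node [14,15,20,11] .nil .nil)))))))) (.node [13,11] (.node [17,11] (.node [12,12] (.node [15,13] (.node [22,11,11] (.node [12,18,11] (.node [20,16,12] (.node [14,21,14] (.node [16,21,20,11] .nil .nil) .nil) (.node [12,23,14,11] (.node [14,18,23,12] .nil .nil) .nil)) (.node [11,17,13] (.node [13,12,13,11] (.node [24,15,12,12] .nil .nil) .nil) (.node [18,16,17,11] .nil .nil))) (.node [12,24,11] (.node [15,23,12] (.node [12,16,11,11] (.node [16,17,22,11] .nil .nil) .nil) (.node [14,14,16,11] (.node [18,12,18,14] .nil .nil) .nil)) (.node [19,24,13] (.node [15,24,13,11] (.node [20,12,17,12] .nil .nil) .nil) (.node [16,12,19,11] .nil .nil)))) (.node [15,15,11] (.node [13,21,11] (.node [24,19,12] (.node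 [22,24,14] (.node [23,18,21,11] .nil .nil) .nil) (.node [12,21,15,11] (.node [22,12,16,13] .nil .nil) .nil)) (.node [23,20,13] (.node [16,18,13,11] (.node [12,16,14,12] .nil .nil) .nil) (.node [22,11,18,11] .nil .nil))) (.node [21,13,12] (.node [19,12,13] (.node [18,20,11,11] (.node [22,11,24,11] .nil .nil) .nil) (.node [15,24,16,11] .nil .nil)) (.node [19,16,14] (.node [22,16,14,11] (.node [14,11,20,12] .nil .nil) .nil) (.node [11,24,19,11] .nil .nil))))) (.node [19,14] (.node [11,14,11] (.node [18,19,11] (.node [12,18,12] (.node [15,23,14] (.node [24,12,21,11] .nil .nil) .nil) (.node [11,14,15,11] (.node [16,21,11,13] .nil .nil) .nil)) (.node [20,18,13] (.node [14,16,13,11] (.node [16,13,13,12] .nil .nil) .nil) (.node [18,21,17,11] .nil .nil))) (.node [18,12,12] (.node [21,24,12] (.node [22,17,11,11] (.node [23,13,23,11] .nil .nil) .nil) (.node [13,18,16,11] (.node [11,19,16,13,11] .nil .nil) .nil)) (.node [20,12,14] (.node [14,14,14,11]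 (.node [19,13,18,12] .nil .nil) .nil) (.node [14,15,19,11] .nil .nil)))) (.node [23,16,11] (.node [17,22,11] (.node [18,21,12] (.node [24,13,11,11] (.node [16,12,22,11] .nil .nil) .nil) (.node [14,24,15,11] (.node [21,13,19,13] .nil .nil) .nil)) (.node [24,22,13] (.node [15,21,13,11] (.node [14,21,15,12] .nil .nil) .nil) (.node [12,19,18,11] .nil .nil))) (.node [12,15,12] (.node [12,15,13] (.node [17,23,11,11] (.node [18,18,24,11] .nil .nil) .nil) (.node [21,13,17,11] .nil .nil)) (.node [18,18,14] (.node [22,19,14,11] (.node [21,18,21,12] .nil .nil) .nil) (.node [18,13,20,11] .nil .nil)))))) (.node [20,12] (.node [23,13] (.node [17,13,11] (.node [24,18,11] (.node [15,17,12] (.node [11,22,14] (.node [14,23,20,11] .nil .nil) .nil) (.node [13,11,15,11] (.node [13,18,24,12] .nil .nil) .nil)) (.node [22,17,13] (.node [23,13,13,11] (.node [19,21,12,12] .nil .nil) .nil) (.node [24,19,17,11] .nil .nil))) (.node [20,24,11] (.node [11,24,12] (.node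 [11,17,11,11] (.node [18,11,23,11] .nil .nil) .nil) (.node [12,17,16,11] (.node [18,14,24,14] .nil .nil) .nil)) (.node [18,11,14] (.node [14,12,14,11] (.node [12,22,17,12] .nil .nil) .nil) (.node [19,13,19,11] .nil .nil)))) (.node [12,16,11] (.node [23,21,11] (.node [23,20,12] (.node [23,11,11,11] (.node [12,24,21,11] .nil .nil) .nil) (.node [12,23,15,11] (.node [20,17,17,13] .nil .nil) .nil)) (.node [23,21,13] (.node [18,19,13,11] (.node [18,23,14,12] .nil .nil) .nil) (.node [18,13,18,11] .nil .nil))) (.node [17,14,12] (.node [16,13,13] (.node [17,22,11,11] (.node [18,14,24,11] .nil .nil) .nil) (.node [18,12,17,11] .nil .nil)) (.node [20,17,14] (.node [20,18,14,11] (.node [23,18,20,12] .nil .nil) .nil) (.node [18,12,20,11] .nil .nil))))) (.node [14,11,11] (.node [20,14,11] (.node [17,20,11] (.node [24,18,12] (.node [12,24,14] (.node [18,14,21,11] .nil .nil) .nil) (.node [13,15,15,11] (.node [11,18,13,13] .nil .nil) .nil)) (.node [24,19,13]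 (.node [14,17,13,11] (.node [13,24,13,12] .nil .nil) .nil) (.node [17,23,17,11] .nil .nil))) (.node [12,13,12] (.node [19,11,13] (.node [14,19,11,11] (.node [13,21,23,11] .nil .nil) .nil) (.node [11,22,16,11] .nil .nil)) (.node [21,14,14] (.node [15,15,14,11] (.node [24,24,18,12] .nil .nil) .nil) (.node [24,17,19,11] .nil .nil)))) (.node [17,17,11] (.node [15,23,11] (.node [16,22,12] (.node [23,14,11,11] (.node [20,13,22,11] .nil .nil) .nil) (.node [19,12,16,11] (.node [17,12,23,13] .nil .nil) .nil)) (.node [22,23,13] (.node [22,22,13,11] (.node [17,17,16,12] .nil .nil) .nil) (.node [13,24,18,11] .nil .nil))) (.node [24,15,12] (.node [12,16,13] (.node [20,24,11,11] (.node [16,12,12,12] .nil .nil) .nil) (.node [13,15,17,11] .nil .nil)) (.node [22,19,14] (.node [20,21,14,11] (.node [19,11,23,12] .nil .nil) .nil) (.node [24,14,20,11] .nil .nil))))))) (.node [21,11] (.node [16,12] (.node [19,13] (.node [12,13,11] (.node [19,18,11] (.node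 [11,17,12] (.node [19,21,14] (.node [13,22,20,11] .nil .nil) .nil) (.node [13,24,14,11] (.node [20,12,24,12] .nil .nil) .nil)) (.node [16,17,13] (.node [21,12,13,11] (.node [21,19,12,12] .nil .nil) .nil) (.node [16,17,17,11] .nil .nil))) (.node [16,24,11] (.node [20,23,12] (.node [20,16,11,11] (.node [11,24,22,11] .nil .nil) .nil) (.node [20,14,16,11] (.node [15,13,19,14] .nil .nil) .nil)) (.node [14,11,14] (.node [13,11,14,11] (.node [12,15,17,12] .nil .nil) .nil) (.node [21,12,19,11] .nil .nil)))) (.node [22,15,11] (.node [18,21,11] (.node [16,20,12] (.node [16,11,11,11] (.node [22,20,21,11] .nil .nil) .nil) (.node [20,21,15,11] (.node [23,11,17,13] .nil .nil) .nil)) (.node [16,21,13] (.node [13,19,13,11] (.node [12,20,14,12] .nil .nil) .nil) (.node [21,12,18,11] .nil .nil))) (.node [11,14,12] (.node [24,12,13] (.node [16,21,11,11] (.node [20,12,24,11] .nil .nil) .nil) (.node [14,12,17,11] .nil .nil)) (.node [11,17,14] (.node [14,18,14,11]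 (.node [18,14,20,12] .nil .nil) .nil) (.node [14,12,20,11] .nil .nil))))) (.node [23,14] (.node [16,14,11] (.node [12,20,11] (.node [20,18,12] (.node [19,23,14] (.node [18,13,21,11] .nil .nil) .nil) (.node [21,14,15,11] (.node [12,23,12,13] .nil .nil) .nil)) (.node [13,19,13] (.node [23,16,13,11] (.node [16,19,13,12] .nil .nil) .nil) (.node [18,22,17,11] .nil .nil))) (.node [22,12,12] (.node [14,11,13] (.node [19,18,11,11] (.node [22,17,23,11] .nil .nil) .nil) (.node [12,20,16,11] .nil .nil)) (.node [14,14,14] (.node [23,14,14,11] (.node [11,22,18,12] .nil .nil) .nil) (.node [15,17,19,11] .nil .nil)))) (.node [13,17,11] (.node [11,23,11] (.node [12,22,12] (.node [16,14,11,11] (.node [21,12,22,11] .nil .nil) .nil) (.node [16,11,16,11] (.node [18,14,20,13] .nil .nil) .nil)) (.node [14,23,13] (.node [15,22,13,11] (.node [11,13,16,12] .nil .nil) .nil) (.node [20,22,18,11] .nil .nil))) (.node [19,15,12] (.node [21,15,13] (.node [21,23,11,11]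 (.node [17,20,24,11] .nil .nil) .nil) (.node [15,14,17,11] .nil .nil)) (.node [13,19,14] (.node [21,20,14,11] (.node [11,16,22,12] .nil .nil) .nil) (.node [15,14,20,11] .nil .nil)))))) (.node [24,12] (.node [14,14] (.node [21,13,11] (.node [14,19,11] (.node [22,17,12] (.node [24,22,14] (.node [22,24,20,11] .nil .nil) .nil) (.node [23,11,15,11] (.node [18,14,11,13] .nil .nil) .nil)) (.node [13,18,13] (.node [14,15,13,11] (.node [12,24,12,12] .nil .nil) .nil) (.node [11,21,17,11] .nil .nil))) (.node [13,12,12] (.node [15,24,12] (.node [16,17,11,11] (.node [24,11,23,11] .nil .nil) .nil) (.node [20,17,16,11] (.node [16,12,16,11,11] .nil .nil) .nil)) (.node [13,12,14] (.node [21,12,14,11] (.node [13,13,18,12] .nil .nil) .nil) (.node [17,14,19,11] .nil .nil)))) (.node [18,16,11] (.node [13,22,11] (.node [13,21,12] (.node [19,13,11,11] (.node [15,11,22,11] .nil .nil) .nil) (.node [20,23,15,11] (.node [14,18,18,13] .nil .nil) .nil)) (.node [16,22,13]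 (.node [13,20,13,11] (.node [20,15,15,12] .nil .nil) .nil) (.node [22,14,18,11] .nil .nil))) (.node [21,14,12] (.node [20,13,13] (.node [12,23,11,11] (.node [15,15,24,11] .nil .nil) .nil) (.node [24,12,17,11] .nil .nil)) (.node [13,18,14] (.node [14,19,14,11] (.node [11,15,21,12] .nil .nil) .nil) (.node [11,13,20,11] .nil .nil))))) (.node [18,11,11] (.node [24,14,11] (.node [23,20,11] (.node [17,19,12] (.node [17,24,14] (.node [11,17,21,11] .nil .nil) .nil) (.node [22,17,15,11] (.node [14,19,15,13] .nil .nil) .nil)) (.node [16,20,13] (.node [11,18,13,11] (.node [11,14,14,12] .nil .nil) .nil) (.node [18,24,17,11] .nil .nil))) (.node [17,13,12] (.node [24,11,13] (.node [12,20,11,11] (.node [14,23,23,11] .nil .nil) .nil) (.node [13,23,16,11] .nil .nil)) (.node [12,16,14] (.node [23,15,14,11] (.node [13,15,19,12] .nil .nil) .nil) (.node [13,21,19,11] .nil .nil)))) (.node [22,17,11] (.node [21,23,11] (.node [22,22,12] (.node [17,15,11,11]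 (.node [21,15,22,11] .nil .nil) .nil) (.node [15,13,16,11] (.node [14,18,24,13] .nil .nil) .nil)) (.node [15,24,13] (.node [20,23,13,11] (.node [21,21,16,12] .nil .nil) .nil) (.node [20,11,19,11] .nil .nil))) (.node [14,16,12] (.node [21,16,13] (.node [19,11,13,11] (.node [22,13,12,12] .nil .nil) .nil) (.node [21,15,17,11] .nil .nil)) (.node [13,20,14] (.node [18,22,14,11] (.node [11,15,23,12] .nil .nil) .nil) (.node [12,17,20,11] .nil .nil)))))))))

/-- Data. -/
noncomputable def words1 : Arr (List ℕ) := (.node [] words1_0 words1_1)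

/-- Data. -/
noncomputable def pos1_0 : Arr (ℕ) := (.node 0 (.node 803 (.node 1109 (.node 1229 (.node 124 (.node 0 (.node 638 (.node 0 (.node 571 (.node 2 .nil .nil) (.node 133 .nil .nil)) (.node 0 (.node 1178 .nil .nil) .nil)) (.node 211 (.node 311 (.node 1133 .nil .nil) (.node 1336 .nil .nil)) (.node 433 (.node 778 .nil .nil) .nil))) (.node 1036 (.node 1223 (.node 1323 (.node 0 .nil .nil) (.node 498 .nil .nil)) (.node 548 (.node 707 .nil .nil) .nil)) (.node 412 (.node 781 (.node 56 .nil .nil) (.node 0 .nil .nil)) (.node 700 (.node 495 .nil .nil) .nil)))) (.node 1286 (.node 438 (.node 545 (.node 425 (.node 186 .nil .nil) (.node 65 .nil .nil)) (.node 0 (.node 776 .nil .nil) .nil)) (.node 118 (.node 975 (.node 0 .nil .nil) (.node 881 .nil .nil)) (.node 799 (.node 0 .nil .nil) .nil))) (.node 598 (.node 396 (.node 1007 (.node 1274 .nil .nil) (.node 1160 .nil .nil)) (.node 1005 (.node 1037 .nil .nil) .nil)) (.node 0 (.node 0 (.node 698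 .nil .nil) (.node 309 .nil .nil)) (.node 830 (.node 451 .nil .nil) .nil))))) (.node 1068 (.node 0 (.node 116 (.node 832 (.node 341 (.node 313 .nil .nil) (.node 782 .nil .nil)) (.node 1255 (.node 1203 .nil .nil) .nil)) (.node 1226 (.node 100 (.node 445 .nil .nil) (.node 581 .nil .nil)) (.node 962 (.node 317 .nil .nil) .nil))) (.node 511 (.node 110 (.node 242 (.node 0 .nil .nil) (.node 201 .nil .nil)) (.node 695 (.node 649 .nil .nil) .nil)) (.node 1335 (.node 797 (.node 0 .nil .nil) (.node 725 .nil .nil)) (.node 103 (.node 0 .nil .nil) .nil)))) (.node 0 (.node 300 (.node 7 (.node 720 (.node 1085 .nil .nil) (.node 1130 .nil .nil)) (.node 947 (.node 956 .nil .nil) .nil)) (.node 0 (.node 613 (.node 191 .nil .nil) (.node 1013 .nil .nil)) (.node 599 (.node 1071 .nil .nil) .nil))) (.node 264 (.node 255 (.node 0 (.node 251 .nil .nil) (.node 1021 .nil .nil)) (.node 268 (.node 327 .nil .nil) .nil)) (.node 0 (.node 839 (.node 1019 .nil .nil) (.node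 1322 .nil .nil)) (.node 1017 (.node 606 .nil .nil) .nil)))))) (.node 0 (.node 0 (.node 812 (.node 1237 (.node 800 (.node 0 (.node 0 .nil .nil) (.node 0 .nil .nil)) (.node 618 (.node 831 .nil .nil) .nil)) (.node 64 (.node 0 (.node 472 .nil .nil) (.node 1204 .nil .nil)) (.node 0 (.node 400 .nil .nil) .nil))) (.node 314 (.node 555 (.node 1139 (.node 0 .nil .nil) (.node 0 .nil .nil)) (.node 523 (.node 1170 .nil .nil) .nil)) (.node 121 (.node 0 (.node 1280 .nil .nil) (.node 687 .nil .nil)) (.node 1326 (.node 673 .nil .nil) .nil)))) (.node 762 (.node 293 (.node 1074 (.node 575 (.node 1039 .nil .nil) (.node 858 .nil .nil)) (.node 24 (.node 743 .nil .nil) .nil)) (.node 152 (.node 658 (.node 21 .nil .nil) (.node 1218 .nil .nil)) (.node 0 (.node 0 .nil .nil) .nil))) (.node 301 (.node 148 (.node 220 (.node 0 .nil .nil) (.node 178 .nil .nil)) (.node 718 (.node 724 .nil .nil) .nil)) (.node 271 (.node 0 (.node 0 .nil .nil) (.node 0 .nil .nil)) (.node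 826 (.node 1253 .nil .nil) .nil))))) (.node 0 (.node 214 (.node 683 (.node 0 (.node 617 (.node 821 .nil .nil) (.node 0 .nil .nil)) (.node 500 (.node 430 .nil .nil) .nil)) (.node 874 (.node 880 (.node 0 .nil .nil) (.node 247 .nil .nil)) (.node 0 (.node 0 .nil .nil) .nil))) (.node 0 (.node 0 (.node 1212 (.node 385 .nil .nil) (.node 1026 .nil .nil)) (.node 93 (.node 668 .nil .nil) .nil)) (.node 554 (.node 0 (.node 444 .nil .nil) (.node 138 .nil .nil)) (.node 432 (.node 1179 .nil .nil) .nil)))) (.node 23 (.node 622 (.node 1328 (.node 981 (.node 234 .nil .nil) (.node 566 .nil .nil)) (.node 410 (.node 0 .nil .nil) .nil)) (.node 237 (.node 0 (.node 568 .nil .nil) (.node 1192 .nil .nil)) (.node 446 (.node 1023 .nil .nil) .nil))) (.node 38 (.node 0 (.node 829 (.node 0 .nil .nil) (.node 283 .nil .nil)) (.node 123 (.node 131 .nil .nil) .nil)) (.node 169 (.node 0 (.node 405 .nil .nil) .nil) (.node 0 (.node 0 .nil .nil) .nil))))))) (.node 99 (.node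 233 (.node 705 (.node 0 (.node 442 (.node 1012 (.node 0 (.node 262 .nil .nil) (.node 429 .nil .nil)) (.node 0 (.node 680 .nil .nil) .nil)) (.node 996 (.node 330 (.node 0 .nil .nil) (.node 1281 .nil .nil)) (.node 684 (.node 911 .nil .nil) .nil))) (.node 245 (.node 0 (.node 650 (.node 492 .nil .nil) (.node 0 .nil .nil)) (.node 552 (.node 1271 .nil .nil) .nil)) (.node 0 (.node 966 (.node 439 .nil .nil) (.node 1152 .nil .nil)) (.node 315 (.node 150 .nil .nil) .nil)))) (.node 0 (.node 277 (.node 0 (.node 403 (.node 0 .nil .nil) (.node 998 .nil .nil)) (.node 1099 (.node 267 .nil .nil) .nil)) (.node 578 (.node 377 (.node 0 .nil .nil) (.node 1092 .nil .nil)) (.node 142 (.node 1272 .nil .nil) .nil))) (.node 0 (.node 983 (.node 0 (.node 0 .nil .nil) (.node 1058 .nil .nil)) (.node 0 (.node 0 .nil .nil) .nil)) (.node 0 (.node 754 (.node 1191 .nil .nil) (.node 541 .nil .nil)) (.node 0 (.node 250 .nil .nil) .nil))))) (.node 1167 (.node 1250 (.node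 487 (.node 395 (.node 1268 (.node 167 .nil .nil) (.node 117 .nil .nil)) (.node 426 (.node 597 .nil .nil) .nil)) (.node 298 (.node 654 (.node 988 .nil .nil) (.node 0 .nil .nil)) (.node 458 (.node 692 .nil .nil) .nil))) (.node 932 (.node 846 (.node 1142 (.node 1117 .nil .nil) (.node 1031 .nil .nil)) (.node 676 (.node 1225 .nil .nil) .nil)) (.node 758 (.node 971 (.node 0 .nil .nil) (.node 0 .nil .nil)) (.node 891 (.node 0 .nil .nil) .nil)))) (.node 323 (.node 624 (.node 355 (.node 437 (.node 1049 .nil .nil) (.node 834 .nil .nil)) (.node 1201 (.node 564 .nil .nil) .nil)) (.node 335 (.node 0 (.node 0 .nil .nil) (.node 0 .nil .nil)) (.node 351 (.node 1327 .nil .nil) .nil))) (.node 1210 (.node 1042 (.node 321 (.node 1312 .nil .nil) (.node 0 .nil .nil)) (.node 665 (.node 26 .nil .nil) .nil)) (.node 735 (.node 728 (.node 922 .nil .nil) (.node 1126 .nil .nil)) (.node 1087 (.node 0 .nil .nil) .nil)))))) (.node 128 (.node 345 (.node 714 (.node 1166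 (.node 0 (.node 0 (.node 0 .nil .nil) (.node 25 .nil .nil)) (.node 0 (.node 0 .nil .nil) .nil)) (.node 1011 (.node 0 (.node 77 .nil .nil) (.node 788 .nil .nil)) (.node 208 (.node 43 .nil .nil) .nil))) (.node 753 (.node 964 (.node 0 (.node 0 .nil .nil) (.node 793 .nil .nil)) (.node 1181 (.node 0 .nil .nil) .nil)) (.node 760 (.node 1209 (.node 0 .nil .nil) (.node 696 .nil .nil)) (.node 593 (.node 906 .nil .nil) .nil)))) (.node 0 (.node 713 (.node 1266 (.node 772 (.node 135 .nil .nil) (.node 0 .nil .nil)) (.node 1 (.node 82 .nil .nil) .nil)) (.node 481 (.node 360 (.node 918 .nil .nil) (.node 1150 .nil .nil)) (.node 0 (.node 346 .nil .nil) .nil))) (.node 994 (.node 1264 (.node 924 (.node 553 .nil .nil) (.node 0 .nil .nil)) (.node 469 (.node 569 .nil .nil) .nil)) (.node 0 (.node 0 (.node 0 .nil .nil) (.node 338 .nil .nil)) (.node 505 (.node 489 .nil .nil) .nil))))) (.node 689 (.node 1091 (.node 0 (.node 572 (.node 0 (.node 199 .nil .nil)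 (.node 504 .nil .nil)) (.node 538 (.node 286 .nil .nil) .nil)) (.node 27 (.node 0 (.node 0 .nil .nil) (.node 0 .nil .nil)) (.node 669 (.node 1305 .nil .nil) .nil))) (.node 1101 (.node 449 (.node 0 (.node 0 .nil .nil) (.node 866 .nil .nil)) (.node 885 (.node 0 .nil .nil) .nil)) (.node 1032 (.node 1100 (.node 0 .nil .nil) (.node 468 .nil .nil)) (.node 703 (.node 961 .nil .nil) .nil)))) (.node 0 (.node 353 (.node 0 (.node 307 (.node 0 .nil .nil) (.node 1065 .nil .nil)) (.node 159 (.node 1182 .nil .nil) .nil)) (.node 0 (.node 284 (.node 1187 .nil .nil) (.node 883 .nil .nil)) (.node 1163 (.node 542 .nil .nil) .nil))) (.node 343 (.node 423 (.node 889 (.node 316 .nil .nil) (.node 1278 .nil .nil)) (.node 1200 (.node 61 .nil .nil) .nil)) (.node 591 (.node 113 (.node 557 .nil .nil) .nil) (.node 1144 (.node 739 .nil .nil) .nil)))))))) (.node 1103 (.node 473 (.node 612 (.node 114 (.node 171 (.node 875 (.node 671 (.node 342 (.node 10 .nil .nil) (.node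 0 .nil .nil)) (.node 662 (.node 483 .nil .nil) .nil)) (.node 515 (.node 0 (.node 530 .nil .nil) (.node 868 .nil .nil)) (.node 667 (.node 119 .nil .nil) .nil))) (.node 1206 (.node 0 (.node 457 (.node 378 .nil .nil) (.node 752 .nil .nil)) (.node 192 (.node 954 .nil .nil) .nil)) (.node 0 (.node 533 (.node 0 .nil .nil) (.node 1110 .nil .nil)) (.node 63 (.node 394 .nil .nil) .nil)))) (.node 0 (.node 1199 (.node 399 (.node 0 (.node 0 .nil .nil) (.node 1054 .nil .nil)) (.node 1309 (.node 1034 .nil .nil) .nil)) (.node 33 (.node 588 (.node 1038 .nil .nil) (.node 0 .nil .nil)) (.node 146 (.node 89 .nil .nil) .nil))) (.node 1361 (.node 181 (.node 1287 (.node 0 .nil .nil) (.node 582 .nil .nil)) (.node 1033 (.node 844 .nil .nil) .nil)) (.node 0 (.node 1297 (.node 1028 .nil .nil) (.node 0 .nil .nil)) (.node 1136 (.node 701 .nil .nil) .nil))))) (.node 1251 (.node 0 (.node 0 (.node 13 (.node 0 (.node 759 .nil .nil) (.node 559 .nil .nil)) (.node 984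 (.node 195 .nil .nil) .nil)) (.node 226 (.node 1067 (.node 916 .nil .nil) (.node 897 .nil .nil)) (.node 213 (.node 652 .nil .nil) .nil))) (.node 0 (.node 325 (.node 0 (.node 0 .nil .nil) (.node 1341 .nil .nil)) (.node 580 (.node 228 .nil .nil) .nil)) (.node 1342 (.node 240 (.node 0 .nil .nil) (.node 1161 .nil .nil)) (.node 69 (.node 621 .nil .nil) .nil)))) (.node 0 (.node 1168 (.node 188 (.node 1291 (.node 328 .nil .nil) (.node 246 .nil .nil)) (.node 1183 (.node 546 .nil .nil) .nil)) (.node 187 (.node 1265 (.node 1248 .nil .nil) (.node 219 .nil .nil)) (.node 0 (.node 978 .nil .nil) .nil))) (.node 0 (.node 903 (.node 417 (.node 677 .nil .nil) (.node 80 .nil .nil)) (.node 556 (.node 1149 .nil .nil) .nil)) (.node 4 (.node 0 (.node 0 .nil .nil) (.node 0 .nil .nil)) (.node 1055 (.node 633 .nil .nil) .nil)))))) (.node 0 (.node 0 (.node 1306 (.node 936 (.node 460 (.node 295 (.node 561 .nil .nil) (.node 0 .nil .nil)) (.node 1249 (.node 376 .nil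 .nil) .nil)) (.node 0 (.node 0 (.node 1002 .nil .nil) (.node 447 .nil .nil)) (.node 41 (.node 1316 .nil .nil) .nil))) (.node 1112 (.node 205 (.node 84 (.node 641 .nil .nil) (.node 794 .nil .nil)) (.node 52 (.node 1347 .nil .nil) .nil)) (.node 170 (.node 0 (.node 354 .nil .nil) (.node 1025 .nil .nil)) (.node 0 (.node 0 .nil .nil) .nil)))) (.node 1240 (.node 930 (.node 0 (.node 406 (.node 57 .nil .nil) (.node 416 .nil .nil)) (.node 1003 (.node 168 .nil .nil) .nil)) (.node 1047 (.node 306 (.node 194 .nil .nil) (.node 755 .nil .nil)) (.node 0 (.node 73 .nil .nil) .nil))) (.node 16 (.node 764 (.node 0 (.node 1134 .nil .nil) (.node 1164 .nil .nil)) (.node 1073 (.node 6 .nil .nil) .nil)) (.node 95 (.node 0 (.node 0 .nil .nil) (.node 0 .nil .nil)) (.node 0 (.node 583 .nil .nil) .nil))))) (.node 180 (.node 0 (.node 1169 (.node 1221 (.node 616 (.node 1148 .nil .nil) (.node 0 .nil .nil)) (.node 563 (.node 863 .nil .nil) .nil)) (.node 58 (.node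 0 (.node 0 .nil .nil) (.node 436 .nil .nil)) (.node 229 (.node 1217 .nil .nil) .nil))) (.node 708 (.node 210 (.node 249 (.node 0 .nil .nil) (.node 326 .nil .nil)) (.node 798 (.node 1256 .nil .nil) .nil)) (.node 579 (.node 79 (.node 151 .nil .nil) (.node 1319 .nil .nil)) (.node 239 (.node 477 .nil .nil) .nil)))) (.node 0 (.node 1081 (.node 0 (.node 1332 (.node 0 .nil .nil) (.node 352 .nil .nil)) (.node 1252 (.node 717 .nil .nil) .nil)) (.node 0 (.node 491 (.node 0 .nil .nil) (.node 466 .nil .nil)) (.node 464 (.node 804 .nil .nil) .nil))) (.node 0 (.node 184 (.node 47 (.node 428 .nil .nil) (.node 0 .nil .nil)) (.node 462 (.node 1295 .nil .nil) .nil)) (.node 1093 (.node 0 (.node 823 .nil .nil) .nil) (.node 1321 (.node 70 .nil .nil) .nil))))))) (.node 1351 (.node 203 (.node 380 (.node 603 (.node 660 (.node 663 (.node 808 (.node 154 .nil .nil) (.node 547 .nil .nil)) (.node 496 (.node 256 .nil .nil) .nil)) (.node 0 (.node 1233 (.node 741 .nil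 .nil) (.node 0 .nil .nil)) (.node 763 (.node 1293 .nil .nil) .nil))) (.node 78 (.node 0 (.node 877 (.node 1349 .nil .nil) (.node 907 .nil .nil)) (.node 786 (.node 1008 .nil .nil) .nil)) (.node 59 (.node 1284 (.node 0 .nil .nil) (.node 0 .nil .nil)) (.node 450 (.node 520 .nil .nil) .nil)))) (.node 490 (.node 825 (.node 841 (.node 1302 (.node 263 .nil .nil) (.node 860 .nil .nil)) (.node 909 (.node 0 .nil .nil) .nil)) (.node 991 (.node 1247 (.node 748 .nil .nil) (.node 631 .nil .nil)) (.node 1343 (.node 1318 .nil .nil) .nil))) (.node 879 (.node 942 (.node 1056 (.node 467 .nil .nil) (.node 141 .nil .nil)) (.node 359 (.node 814 .nil .nil) .nil)) (.node 375 (.node 0 (.node 783 .nil .nil) (.node 840 .nil .nil)) (.node 521 (.node 161 .nil .nil) .nil))))) (.node 1231 (.node 1262 (.node 1220 (.node 609 (.node 200 (.node 0 .nil .nil) (.node 1082 .nil .nil)) (.node 0 (.node 488 .nil .nil) .nil)) (.node 960 (.node 196 (.node 928 .nil .nil) (.node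 884 .nil .nil)) (.node 729 (.node 1045 .nil .nil) .nil))) (.node 319 (.node 19 (.node 894 (.node 363 .nil .nil) (.node 0 .nil .nil)) (.node 72 (.node 0 .nil .nil) .nil)) (.node 0 (.node 615 (.node 0 .nil .nil) (.node 820 .nil .nil)) (.node 645 (.node 1228 .nil .nil) .nil)))) (.node 0 (.node 96 (.node 1364 (.node 690 (.node 576 .nil .nil) (.node 516 .nil .nil)) (.node 1151 (.node 1324 .nil .nil) .nil)) (.node 459 (.node 1254 (.node 732 .nil .nil) (.node 0 .nil .nil)) (.node 401 (.node 644 .nil .nil) .nil))) (.node 1196 (.node 98 (.node 872 (.node 0 .nil .nil) (.node 526 .nil .nil)) (.node 1339 (.node 902 .nil .nil) .nil)) (.node 1138 (.node 222 (.node 310 .nil .nil) (.node 372 .nil .nil)) (.node 0 (.node 0 .nil .nil) .nil)))))) (.node 1072 (.node 0 (.node 0 (.node 0 (.node 706 (.node 873 (.node 0 .nil .nil) (.node 604 .nil .nil)) (.node 1154 (.node 1257 .nil .nil) .nil)) (.node 0 (.node 1315 (.node 1060 .nil .nil) (.node 1127 .nil .nil))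 (.node 478 (.node 0 .nil .nil) .nil))) (.node 1173 (.node 0 (.node 127 (.node 122 .nil .nil) (.node 1353 .nil .nil)) (.node 0 (.node 1129 .nil .nil) .nil)) (.node 854 (.node 685 (.node 1078 .nil .nil) (.node 0 .nil .nil)) (.node 1276 (.node 45 .nil .nil) .nil)))) (.node 1303 (.node 54 (.node 424 (.node 471 (.node 197 .nil .nil) (.node 1261 .nil .nil)) (.node 1269 (.node 155 .nil .nil) .nil)) (.node 0 (.node 1079 (.node 32 .nil .nil) (.node 1063 .nil .nil)) (.node 893 (.node 97 .nil .nil) .nil))) (.node 0 (.node 0 (.node 856 (.node 1097 .nil .nil) (.node 551 .nil .nil)) (.node 275 (.node 1333 .nil .nil) .nil)) (.node 55 (.node 393 (.node 452 .nil .nil) (.node 147 .nil .nil)) (.node 949 (.node 139 .nil .nil) .nil))))) (.node 102 (.node 869 (.node 1044 (.node 0 (.node 42 (.node 49 .nil .nil) (.node 1190 .nil .nil)) (.node 768 (.node 761 .nil .nil) .nil)) (.node 1362 (.node 1131 (.node 0 .nil .nil) (.node 51 .nil .nil)) (.node 999 (.node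 0 .nil .nil) .nil))) (.node 1059 (.node 0 (.node 0 (.node 1358 .nil .nil) (.node 0 .nil .nil)) (.node 71 (.node 693 .nil .nil) .nil)) (.node 1098 (.node 269 (.node 258 .nil .nil) (.node 144 .nil .nil)) (.node 514 (.node 365 .nil .nil) .nil)))) (.node 1279 (.node 204 (.node 0 (.node 796 (.node 948 .nil .nil) (.node 367 .nil .nil)) (.node 1317 (.node 790 .nil .nil) .nil)) (.node 905 (.node 0 (.node 1107 .nil .nil) (.node 101 .nil .nil)) (.node 1090 (.node 785 .nil .nil) .nil))) (.node 519 (.node 418 (.node 1275 (.node 0 .nil .nil) (.node 1029 .nil .nil)) (.node 0 (.node 607 .nil .nil) .nil)) (.node 374 (.node 455 (.node 965 .nil .nil) .nil) (.node 914 (.node 344 .nil .nil) .nil)))))))))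

/-- Data. -/
noncomputable def pos1_1 : Arr (ℕ) := (.node 990 (.node 493 (.node 979 (.node 787 (.node 238 (.node 0 (.node 474 (.node 0 (.node 544 (.node 0 .nil .nil) (.node 0 .nil .nil)) (.node 501 (.node 215 .nil .nil) .nil)) (.node 934 (.node 0 (.node 0 .nil .nil) (.node 0 .nil .nil)) (.node 0 (.node 443 .nil .nil) .nil))) (.node 1330 (.node 427 (.node 913 (.node 993 .nil .nil) (.node 867 .nil .nil)) (.node 809 (.node 0 .nil .nil) .nil)) (.node 876 (.node 0 (.node 773 .nil .nil) (.node 1357 .nil .nil)) (.node 836 (.node 282 .nil .nil) .nil)))) (.node 938 (.node 126 (.node 22 (.node 0 (.node 179 .nil .nil) (.node 0 .nil .nil)) (.node 0 (.node 1359 .nil .nil) .nil)) (.node 0 (.node 0 (.node 1216 .nil .nil) (.node 1020 .nil .nil)) (.node 1320 (.node 585 .nil .nil) .nil))) (.node 625 (.node 517 (.node 774 (.node 193 .nil .nil) (.node 657 .nil .nil)) (.node 414 (.node 0 .nil .nil) .nil)) (.node 0 (.node 0 (.node 379 .nil .nil) (.node 1128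 .nil .nil)) (.node 0 (.node 106 .nil .nil) .nil))))) (.node 686 (.node 827 (.node 231 (.node 749 (.node 0 (.node 389 .nil .nil) (.node 1172 .nil .nil)) (.node 476 (.node 0 .nil .nil) .nil)) (.node 166 (.node 1113 (.node 0 .nil .nil) (.node 143 .nil .nil)) (.node 935 (.node 218 .nil .nil) .nil))) (.node 0 (.node 387 (.node 1189 (.node 40 .nil .nil) (.node 174 .nil .nil)) (.node 1180 (.node 383 .nil .nil) .nil)) (.node 1198 (.node 1205 (.node 0 .nil .nil) (.node 1304 .nil .nil)) (.node 0 (.node 361 .nil .nil) .nil)))) (.node 937 (.node 912 (.node 5 (.node 594 (.node 640 .nil .nil) (.node 577 .nil .nil)) (.node 0 (.node 0 .nil .nil) .nil)) (.node 1186 (.node 1000 (.node 0 .nil .nil) (.node 0 .nil .nil)) (.node 0 (.node 243 .nil .nil) .nil))) (.node 1052 (.node 0 (.node 1270 (.node 715 .nil .nil) (.node 366 .nil .nil)) (.node 254 (.node 656 .nil .nil) .nil)) (.node 1066 (.node 0 (.node 721 .nil .nil) (.node 635 .nil .nil)) (.node 1188 (.node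 1171 .nil .nil) .nil)))))) (.node 926 (.node 0 (.node 0 (.node 817 (.node 111 (.node 0 (.node 60 .nil .nil) (.node 933 .nil .nil)) (.node 737 (.node 0 .nil .nil) .nil)) (.node 855 (.node 1232 (.node 1263 .nil .nil) (.node 241 .nil .nil)) (.node 824 (.node 499 .nil .nil) .nil))) (.node 0 (.node 0 (.node 453 (.node 1114 .nil .nil) (.node 837 .nil .nil)) (.node 910 (.node 1040 .nil .nil) .nil)) (.node 253 (.node 0 (.node 297 .nil .nil) (.node 1292 .nil .nil)) (.node 0 (.node 318 .nil .nil) .nil)))) (.node 176 (.node 628 (.node 173 (.node 0 (.node 0 .nil .nil) (.node 847 .nil .nil)) (.node 1334 (.node 806 .nil .nil) .nil)) (.node 260 (.node 1241 (.node 0 .nil .nil) (.node 747 .nil .nil)) (.node 162 (.node 0 .nil .nil) .nil))) (.node 0 (.node 0 (.node 682 (.node 0 .nil .nil) (.node 888 .nil .nil)) (.node 596 (.node 726 .nil .nil) .nil)) (.node 711 (.node 1176 (.node 0 .nil .nil) (.node 30 .nil .nil)) (.node 331 (.node 140 .nil .nil) .nil)))))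 (.node 244 (.node 882 (.node 586 (.node 0 (.node 0 (.node 349 .nil .nil) (.node 388 .nil .nil)) (.node 304 (.node 1345 .nil .nil) .nil)) (.node 75 (.node 810 (.node 974 .nil .nil) (.node 470 .nil .nil)) (.node 362 (.node 287 .nil .nil) .nil))) (.node 1356 (.node 0 (.node 66 (.node 610 .nil .nil) (.node 303 .nil .nil)) (.node 1080 (.node 358 .nil .nil) .nil)) (.node 0 (.node 1106 (.node 1140 .nil .nil) (.node 0 .nil .nil)) (.node 892 (.node 536 .nil .nil) .nil)))) (.node 0 (.node 955 (.node 1062 (.node 972 (.node 995 .nil .nil) (.node 94 .nil .nil)) (.node 1115 (.node 163 .nil .nil) .nil)) (.node 1048 (.node 1061 (.node 605 .nil .nil) (.node 165 .nil .nil)) (.node 1267 (.node 699 .nil .nil) .nil))) (.node 386 (.node 819 (.node 1143 (.node 816 .nil .nil) (.node 646 .nil .nil)) (.node 562 (.node 392 .nil .nil) .nil)) (.node 757 (.node 0 (.node 0 .nil .nil) .nil) (.node 600 (.node 216 .nil .nil) .nil))))))) (.node 0 (.node 1301 (.node 0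 (.node 0 (.node 0 (.node 0 (.node 527 (.node 0 .nil .nil) (.node 18 .nil .nil)) (.node 0 (.node 745 .nil .nil) .nil)) (.node 34 (.node 1111 (.node 1296 .nil .nil) (.node 1244 .nil .nil)) (.node 1104 (.node 573 .nil .nil) .nil))) (.node 570 (.node 0 (.node 0 (.node 767 .nil .nil) (.node 908 .nil .nil)) (.node 0 (.node 731 .nil .nil) .nil)) (.node 456 (.node 601 (.node 381 .nil .nil) (.node 1035 .nil .nil)) (.node 807 (.node 0 .nil .nil) .nil)))) (.node 742 (.node 694 (.node 0 (.node 861 (.node 558 .nil .nil) (.node 85 .nil .nil)) (.node 1064 (.node 0 .nil .nil) .nil)) (.node 531 (.node 0 (.node 661 .nil .nil) (.node 129 .nil .nil)) (.node 777 (.node 404 .nil .nil) .nil))) (.node 811 (.node 1311 (.node 368 (.node 952 .nil .nil) (.node 775 .nil .nil)) (.node 595 (.node 864 .nil .nil) .nil)) (.node 565 (.node 232 (.node 1230 .nil .nil) (.node 0 .nil .nil)) (.node 771 (.node 1105 .nil .nil) .nil))))) (.node 1137 (.node 0 (.node 510 (.node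 0 (.node 1242 (.node 497 .nil .nil) (.node 0 .nil .nil)) (.node 898 (.node 296 .nil .nil) .nil)) (.node 629 (.node 1118 (.node 0 .nil .nil) (.node 733 .nil .nil)) (.node 815 (.node 1083 .nil .nil) .nil))) (.node 1360 (.node 534 (.node 0 (.node 992 .nil .nil) (.node 818 .nil .nil)) (.node 44 (.node 160 .nil .nil) .nil)) (.node 851 (.node 525 (.node 0 .nil .nil) (.node 1121 .nil .nil)) (.node 1050 (.node 292 .nil .nil) .nil)))) (.node 0 (.node 973 (.node 1124 (.node 486 (.node 630 .nil .nil) (.node 440 .nil .nil)) (.node 0 (.node 0 .nil .nil) .nil)) (.node 1185 (.node 0 (.node 1094 .nil .nil) (.node 1288 .nil .nil)) (.node 842 (.node 182 .nil .nil) .nil))) (.node 221 (.node 288 (.node 454 (.node 0 .nil .nil) (.node 1135 .nil .nil)) (.node 822 (.node 28 .nil .nil) .nil)) (.node 0 (.node 738 (.node 672 .nil .nil) (.node 364 .nil .nil)) (.node 0 (.node 0 .nil .nil) .nil)))))) (.node 642 (.node 279 (.node 619 (.node 0 (.node 537 (.node 920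 (.node 679 .nil .nil) (.node 0 .nil .nil)) (.node 9 (.node 465 .nil .nil) .nil)) (.node 1018 (.node 8 (.node 895 .nil .nil) (.node 540 .nil .nil)) (.node 1258 (.node 1352 .nil .nil) .nil))) (.node 0 (.node 653 (.node 157 (.node 1157 .nil .nil) (.node 347 .nil .nil)) (.node 177 (.node 1195 .nil .nil) .nil)) (.node 1197 (.node 528 (.node 29 .nil .nil) (.node 0 .nil .nil)) (.node 390 (.node 1006 .nil .nil) .nil)))) (.node 1294 (.node 1022 (.node 1338 (.node 1146 (.node 1051 .nil .nil) (.node 0 .nil .nil)) (.node 1259 (.node 896 .nil .nil) .nil)) (.node 1108 (.node 1246 (.node 0 .nil .nil) (.node 1313 .nil .nil)) (.node 0 (.node 0 .nil .nil) .nil))) (.node 919 (.node 0 (.node 74 (.node 87 .nil .nil) (.node 985 .nil .nil)) (.node 1300 (.node 0 .nil .nil) .nil)) (.node 273 (.node 802 (.node 0 .nil .nil) (.node 614 .nil .nil)) (.node 207 (.node 691 .nil .nil) .nil))))) (.node 1350 (.node 276 (.node 329 (.node 813 (.node 769 (.node 503 .nil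 .nil) (.node 0 .nil .nil)) (.node 959 (.node 266 .nil .nil) .nil)) (.node 0 (.node 92 (.node 655 .nil .nil) (.node 0 .nil .nil)) (.node 340 (.node 1211 .nil .nil) .nil))) (.node 1086 (.node 535 (.node 479 (.node 1043 .nil .nil) (.node 382 .nil .nil)) (.node 589 (.node 780 .nil .nil) .nil)) (.node 0 (.node 134 (.node 1123 .nil .nil) (.node 324 .nil .nil)) (.node 1340 (.node 0 .nil .nil) .nil)))) (.node 108 (.node 0 (.node 0 (.node 0 (.node 0 .nil .nil) (.node 209 .nil .nil)) (.node 915 (.node 1122 .nil .nil) .nil)) (.node 1344 (.node 0 (.node 900 .nil .nil) (.node 1095 .nil .nil)) (.node 53 (.node 709 .nil .nil) .nil))) (.node 0 (.node 0 (.node 0 (.node 91 .nil .nil) (.node 46 .nil .nil)) (.node 1277 (.node 704 .nil .nil) .nil)) (.node 801 (.node 0 (.node 0 .nil .nil) .nil) (.node 107 (.node 198 .nil .nil) .nil)))))))) (.node 0 (.node 0 (.node 36 (.node 951 (.node 156 (.node 202 (.node 420 (.node 639 (.node 1299 .nil .nil) (.node 137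 .nil .nil)) (.node 35 (.node 302 .nil .nil) .nil)) (.node 0 (.node 550 (.node 1156 .nil .nil) (.node 848 .nil .nil)) (.node 722 (.node 727 .nil .nil) .nil))) (.node 1224 (.node 0 (.node 0 (.node 398 .nil .nil) (.node 1236 .nil .nil)) (.node 0 (.node 1283 .nil .nil) .nil)) (.node 0 (.node 1076 (.node 285 .nil .nil) (.node 746 .nil .nil)) (.node 1184 (.node 125 .nil .nil) .nil)))) (.node 332 (.node 0 (.node 68 (.node 1046 (.node 434 .nil .nil) (.node 643 .nil .nil)) (.node 441 (.node 716 .nil .nil) .nil)) (.node 217 (.node 0 (.node 929 .nil .nil) (.node 76 .nil .nil)) (.node 751 (.node 849 .nil .nil) .nil))) (.node 67 (.node 977 (.node 482 (.node 0 .nil .nil) (.node 870 .nil .nil)) (.node 265 (.node 1329 .nil .nil) .nil)) (.node 1207 (.node 1004 (.node 17 .nil .nil) (.node 132 .nil .nil)) (.node 0 (.node 419 .nil .nil) .nil))))) (.node 1162 (.node 0 (.node 945 (.node 0 (.node 402 (.node 463 .nil .nil) (.node 539 .nil .nil)) (.node 0 (.node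 494 .nil .nil) .nil)) (.node 0 (.node 712 (.node 0 .nil .nil) (.node 0 .nil .nil)) (.node 0 (.node 20 .nil .nil) .nil))) (.node 421 (.node 11 (.node 435 (.node 921 .nil .nil) (.node 397 .nil .nil)) (.node 0 (.node 963 .nil .nil) .nil)) (.node 422 (.node 407 (.node 518 .nil .nil) (.node 871 .nil .nil)) (.node 431 (.node 0 .nil .nil) .nil)))) (.node 1222 (.node 647 (.node 333 (.node 322 (.node 0 .nil .nil) (.node 611 .nil .nil)) (.node 50 (.node 627 .nil .nil) .nil)) (.node 1307 (.node 0 (.node 723 .nil .nil) (.node 115 .nil .nil)) (.node 651 (.node 308 .nil .nil) .nil))) (.node 153 (.node 1273 (.node 943 (.node 1041 .nil .nil) (.node 0 .nil .nil)) (.node 415 (.node 0 .nil .nil) .nil)) (.node 0 (.node 805 (.node 280 .nil .nil) (.node 1077 .nil .nil)) (.node 1354 (.node 980 .nil .nil) .nil)))))) (.node 0 (.node 744 (.node 0 (.node 370 (.node 348 (.node 843 (.node 0 .nil .nil) (.node 0 .nil .nil)) (.node 149 (.node 0 .nil .nil) .nil)) (.node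 1290 (.node 0 (.node 957 .nil .nil) (.node 736 .nil .nil)) (.node 648 (.node 0 .nil .nil) .nil))) (.node 294 (.node 1159 (.node 1116 (.node 185 .nil .nil) (.node 189 .nil .nil)) (.node 524 (.node 274 .nil .nil) .nil)) (.node 0 (.node 409 (.node 730 .nil .nil) (.node 0 .nil .nil)) (.node 970 (.node 0 .nil .nil) .nil)))) (.node 1145 (.node 83 (.node 792 (.node 0 (.node 384 .nil .nil) (.node 261 .nil .nil)) (.node 0 (.node 485 .nil .nil) .nil)) (.node 853 (.node 145 (.node 86 .nil .nil) (.node 0 .nil .nil)) (.node 1310 (.node 1057 .nil .nil) .nil))) (.node 281 (.node 0 (.node 549 (.node 833 .nil .nil) (.node 1208 .nil .nil)) (.node 320 (.node 1132 .nil .nil) .nil)) (.node 356 (.node 543 (.node 0 .nil .nil) (.node 674 .nil .nil)) (.node 1245 (.node 828 .nil .nil) .nil))))) (.node 411 (.node 886 (.node 0 (.node 789 (.node 475 (.node 890 .nil .nil) (.node 987 .nil .nil)) (.node 887 (.node 923 .nil .nil) .nil)) (.node 0 (.node 130 (.node 183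 .nil .nil) (.node 278 .nil .nil)) (.node 3 (.node 1177 .nil .nil) .nil))) (.node 1202 (.node 1238 (.node 1298 (.node 958 .nil .nil) (.node 925 .nil .nil)) (.node 950 (.node 1053 .nil .nil) .nil)) (.node 1239 (.node 1102 (.node 1016 .nil .nil) (.node 1141 .nil .nil)) (.node 0 (.node 0 .nil .nil) .nil)))) (.node 939 (.node 0 (.node 0 (.node 750 (.node 0 .nil .nil) (.node 1175 .nil .nil)) (.node 0 (.node 770 .nil .nil) .nil)) (.node 507 (.node 164 (.node 0 .nil .nil) (.node 702 .nil .nil)) (.node 0 (.node 697 .nil .nil) .nil))) (.node 0 (.node 357 (.node 508 (.node 158 .nil .nil) (.node 0 .nil .nil)) (.node 1282 (.node 512 .nil .nil) .nil)) (.node 0 (.node 235 (.node 291 .nil .nil) .nil) (.node 0 (.node 1075 .nil .nil) .nil))))))) (.node 0 (.node 413 (.node 0 (.node 0 (.node 1158 (.node 710 (.node 0 (.node 225 .nil .nil) (.node 666 .nil .nil)) (.node 0 (.node 236 .nil .nil) .nil)) (.node 0 (.node 1009 (.node 350 .nil .nil) (.node 862 .nil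 .nil)) (.node 1363 (.node 0 .nil .nil) .nil))) (.node 0 (.node 968 (.node 299 (.node 901 .nil .nil) (.node 252 .nil .nil)) (.node 14 (.node 337 .nil .nil) .nil)) (.node 0 (.node 0 (.node 0 .nil .nil) (.node 634 .nil .nil)) (.node 1194 (.node 784 .nil .nil) .nil)))) (.node 0 (.node 0 (.node 0 (.node 230 (.node 584 .nil .nil) (.node 336 .nil .nil)) (.node 109 (.node 88 .nil .nil) .nil)) (.node 1314 (.node 227 (.node 248 .nil .nil) (.node 224 .nil .nil)) (.node 927 (.node 480 .nil .nil) .nil))) (.node 795 (.node 637 (.node 257 (.node 0 .nil .nil) (.node 223 .nil .nil)) (.node 522 (.node 1125 .nil .nil) .nil)) (.node 1001 (.node 941 (.node 0 .nil .nil) (.node 0 .nil .nil)) (.node 0 (.node 305 .nil .nil) .nil))))) (.node 369 (.node 1219 (.node 484 (.node 259 (.node 0 (.node 1234 .nil .nil) (.node 206 .nil .nil)) (.node 734 (.node 623 .nil .nil) .nil)) (.node 1346 (.node 81 (.node 0 .nil .nil) (.node 1193 .nil .nil)) (.node 1153 (.node 899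 .nil .nil) .nil))) (.node 448 (.node 172 (.node 986 (.node 1243 .nil .nil) (.node 371 .nil .nil)) (.node 0 (.node 12 .nil .nil) .nil)) (.node 1027 (.node 90 (.node 0 .nil .nil) (.node 1235 .nil .nil)) (.node 0 (.node 1070 .nil .nil) .nil)))) (.node 865 (.node 845 (.node 636 (.node 946 (.node 0 .nil .nil) (.node 1227 .nil .nil)) (.node 0 (.node 608 .nil .nil) .nil)) (.node 0 (.node 1213 (.node 1084 .nil .nil) (.node 461 .nil .nil)) (.node 0 (.node 982 .nil .nil) .nil))) (.node 574 (.node 0 (.node 766 (.node 0 .nil .nil) (.node 0 .nil .nil)) (.node 917 (.node 632 .nil .nil) .nil)) (.node 506 (.node 765 (.node 1337 .nil .nil) .nil) (.node 1285 (.node 1089 .nil .nil) .nil)))))) (.node 0 (.node 838 (.node 0 (.node 587 (.node 509 (.node 532 (.node 312 .nil .nil) (.node 104 .nil .nil)) (.node 0 (.node 1069 .nil .nil) .nil)) (.node 0 (.node 779 (.node 1096 .nil .nil) (.node 0 .nil .nil)) (.node 0 (.node 678 .nil .nil) .nil))) (.node 1165 (.node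 0 (.node 105 (.node 989 .nil .nil) (.node 136 .nil .nil)) (.node 502 (.node 31 .nil .nil) .nil)) (.node 675 (.node 0 (.node 62 .nil .nil) (.node 931 .nil .nil)) (.node 0 (.node 850 .nil .nil) .nil)))) (.node 944 (.node 0 (.node 567 (.node 190 (.node 1325 .nil .nil) (.node 373 .nil .nil)) (.node 681 (.node 659 .nil .nil) .nil)) (.node 859 (.node 1348 (.node 590 .nil .nil) (.node 39 .nil .nil)) (.node 904 (.node 791 .nil .nil) .nil))) (.node 120 (.node 1147 (.node 334 (.node 0 .nil .nil) (.node 967 .nil .nil)) (.node 0 (.node 1015 .nil .nil) .nil)) (.node 408 (.node 112 (.node 1355 .nil .nil) (.node 212 .nil .nil)) (.node 719 (.node 1289 .nil .nil) .nil))))) (.node 0 (.node 339 (.node 835 (.node 1215 (.node 756 (.node 740 .nil .nil) (.node 953 .nil .nil)) (.node 560 (.node 1120 .nil .nil) .nil)) (.node 878 (.node 290 (.node 1260 .nil .nil) (.node 664 .nil .nil)) (.node 626 (.node 37 .nil .nil) .nil))) (.node 940 (.node 272 (.node 592 (.node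 529 .nil .nil) (.node 289 .nil .nil)) (.node 1214 (.node 0 .nil .nil) .nil)) (.node 1155 (.node 1174 (.node 852 .nil .nil) (.node 0 .nil .nil)) (.node 1088 (.node 0 .nil .nil) .nil)))) (.node 1014 (.node 270 (.node 1119 (.node 670 (.node 1308 .nil .nil) (.node 15 .nil .nil)) (.node 688 (.node 1030 .nil .nil) .nil)) (.node 602 (.node 0 (.node 48 .nil .nil) (.node 976 .nil .nil)) (.node 997 (.node 1024 .nil .nil) .nil))) (.node 0 (.node 969 (.node 1331 (.node 175 .nil .nil) (.node 0 .nil .nil)) (.node 0 (.node 513 .nil .nil) .nil)) (.node 0 (.node 0 (.node 391 .nil .nil) .nil) (.node 620 (.node 1010 .nil .nil) .nil)))))))))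

/-- Data. -/
noncomputable def pos1 : Arr (ℕ) := (.node 857 pos1_0 pos1_1)

/-- Data. -/
noncomputable def words2_0 : Arr (List ℕ) := (.node [15] (.node [17] (.node [18,15] (.node [18,16] (.node [16,18] (.node [24,18,15] (.node [16,20,16] (.node [18,22,18] (.node [19,16,22,15] (.node [15,22,16,17,16] .nil .nil) .nil) (.node [21,17,20,17] .nil .nil)) (.node [16,20,18,15] (.node [20,17,20,16] .nil .nil) (.node [17,17,22,18] .nil .nil))) (.node [15,22,17] (.node [16,17,17,15] (.node [19,16,17,16] .nil .nil) (.node [16,20,15,18] .nil .nil)) (.node [19,15,20,15] (.node [18,22,15,17] .nil .nil) (.node [22,23,19,17,15] .nil .nil)))) (.node [16,23,15] (.node [22,16,17] (.node [16,19,15,15] (.node [22,18,23,15] .nil .nil) (.node [15,17,22,17] .nil .nil)) (.node [22,15,19,15] (.node [20,17,24,16] .nil .nil) (.node [15,20,18,15,15] .nil .nil))) (.node [21,16,18] (.node [22,23,17,15] (.node [22,20,18,16] .nil .nil) (.node [20,21,18,18] .nil .nil))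 (.node [21,16,21,15] (.node [15,22,17,17] .nil .nil) (.node [16,17,16,18,15] .nil .nil))))) (.node [16,17,15] (.node [15,21,15] (.node [18,24,16] (.node [15,17,15,15] (.node [17,24,22,15] .nil .nil) (.node [24,17,21,17] .nil .nil)) (.node [23,22,18,15] (.node [17,20,21,16] .nil .nil) (.node [15,18,24,18] .nil .nil))) (.node [18,24,17] (.node [18,21,17,15] (.node [19,15,18,16] .nil .nil) (.node [17,21,16,18] .nil .nil)) (.node [17,21,20,15] (.node [18,22,16,17] .nil .nil) (.node [23,23,20,17,15] .nil .nil)))) (.node [20,17,16] (.node [24,19,17] (.node [15,23,15,15] (.node [24,17,24,15] .nil .nil) (.node [20,16,24,17] .nil .nil)) (.node [17,21,19,15] (.node [16,18,15,17] .nil .nil) (.node [19,18,21,15,15] .nil .nil))) (.node [22,19,18] (.node [23,16,18,15] (.node [20,24,18,16] .nil .nil) (.node [16,21,19,18] .nil .nil)) (.node [18,19,21,15] (.node [17,17,19,17] .nil .nil) (.node [23,20,21,18,15] .nil .nil)))))) (.node [17,17] (.node [17,15,15]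 (.node [24,19,15] (.node [20,21,16] (.node [15,24,18] (.node [18,18,22,15] .nil .nil) (.node [16,23,20,17] .nil .nil)) (.node [20,21,18,15] (.node [24,17,21,16] .nil .nil) (.node [19,17,23,18] .nil .nil))) (.node [24,22,17] (.node [16,20,17,15] (.node [22,20,17,16] .nil .nil) (.node [15,23,15,18] .nil .nil)) (.node [21,17,20,15] (.node [24,18,16,17] .nil .nil) (.node [22,17,20,17,15] .nil .nil)))) (.node [17,24,15] (.node [24,17,17] (.node [15,21,15,15] (.node [23,16,24,15] .nil .nil) (.node [23,15,23,17] .nil .nil)) (.node [22,17,19,15] (.node [15,20,24,16] .nil .nil) (.node [20,16,19,15,15] .nil .nil))) (.node [21,18,18] (.node [21,15,18,15] (.node [20,22,18,16] .nil .nil) (.node [19,16,19,18] .nil .nil)) (.node [20,17,21,15] (.node [21,23,17,17] .nil .nil) (.node [24,16,19,18,15] .nil .nil))))) (.node [15,18,15] (.node [15,22,15] (.node [20,15,17] (.node [16,18,15,15] (.node [22,16,23,15] .nil .nil) (.node [16,23,21,17] .nil .nil))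 (.node [16,24,18,15] (.node [18,15,24,16] .nil .nil) (.node [24,17,17,15,15] .nil .nil))) (.node [20,15,18] (.node [19,22,17,15] (.node [22,18,18,16] .nil .nil) (.node [22,24,16,18] .nil .nil)) (.node [21,15,21,15] (.node [15,17,17,17] .nil .nil) (.node [16,17,23,17,15] .nil .nil)))) (.node [22,18,16] (.node [16,21,17] (.node [19,15,17,15] (.node [16,20,24,15] .nil .nil) (.node [17,24,24,17] .nil .nil)) (.node [17,23,19,15] (.node [18,20,15,17] .nil .nil) (.node [18,20,16,17,15] .nil .nil))) (.node [23,20,18] (.node [15,19,18,15] (.node [15,24,19,16] .nil .nil) (.node [20,17,20,18] .nil .nil)) (.node [17,24,21,15] (.node [21,23,19,17] .nil .nil) (.node [21,16,24,19,15] .nil .nil))))))) (.node [22,15] (.node [23,16] (.node [21,18] (.node [18,19,15] (.node [16,21,16] (.node [17,23,18] (.node [19,17,22,15] .nil .nil) (.node [22,18,20,17] .nil .nil)) (.node [24,20,18,15] (.node [17,24,20,16] .nil .nil) (.node [17,22,22,18] .nil .nil))) (.node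 [19,22,17] (.node [22,19,17,15] (.node [17,19,17,16] .nil .nil) (.node [16,22,15,18] .nil .nil)) (.node [18,16,20,15] (.node [18,18,16,17] .nil .nil) (.node [18,15,20,17,15] .nil .nil)))) (.node [20,23,15] (.node [19,17,17] (.node [24,19,15,15] (.node [18,20,23,15] .nil .nil) (.node [24,18,22,17] .nil .nil)) (.node [16,17,19,15] (.node [19,18,24,16] .nil .nil) (.node [23,23,18,15,15] .nil .nil))) (.node [15,18,18] (.node [24,24,17,15] (.node [19,21,18,16] .nil .nil) (.node [23,23,18,18] .nil .nil)) (.node [15,17,21,15] (.node [20,22,17,17] .nil .nil) (.node [17,16,18,18,15] .nil .nil))))) (.node [21,17,15] (.node [19,21,15] (.node [15,15,17] (.node [22,17,15,15] (.node [20,15,23,15] .nil .nil) (.node [16,20,21,17] .nil .nil)) (.node [20,23,18,15] (.node [23,17,23,16] .nil .nil) (.node [15,15,17,15,15] .nil .nil))) (.node [15,15,18] (.node [23,21,17,15] (.node [16,18,18,16] .nil .nil) (.node [19,22,16,18] .nil .nil)) (.node [17,15,21,15]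 (.node [17,23,16,17] .nil .nil) (.node [18,16,22,17,15] .nil .nil)))) (.node [18,18,16] (.node [21,20,17] (.node [22,23,15,15] (.node [22,18,24,15] .nil .nil) (.node [23,18,24,17] .nil .nil)) (.node [18,22,19,15] (.node [15,19,15,17] .nil .nil) (.node [24,16,23,15,15] .nil .nil))) (.node [16,20,18] (.node [21,18,18,15] (.node [15,18,19,16] .nil .nil) (.node [15,15,20,18] .nil .nil)) (.node [17,23,21,15] (.node [23,18,19,17] .nil .nil) (.node [17,17,24,18,15] .nil .nil)))))) (.node [22,17] (.node [21,15,15] (.node [18,20,15] (.node [22,23,16] (.node [19,24,18] (.node [17,22,22,15] .nil .nil) (.node [18,16,21,17] .nil .nil)) (.node [16,22,18,15] (.node [24,18,21,16] .nil .nil) (.node [20,16,24,18] .nil .nil))) (.node [23,23,17] (.node [22,20,17,15] (.node [18,22,17,16] .nil .nil) (.node [22,18,16,18] .nil .nil)) (.node [16,18,20,15] (.node [16,20,16,17] .nil .nil) (.node [23,21,20,17,15] .nil .nil)))) (.node [15,17,16] (.node [18,19,17]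 (.node [19,21,15,15] (.node [19,17,24,15] .nil .nil) (.node [20,17,23,17] .nil .nil)) (.node [19,18,19,15] (.node [19,15,15,17] .nil .nil) (.node [19,17,20,15,15] .nil .nil))) (.node [16,19,18] (.node [19,16,18,15] (.node [21,23,18,16] .nil .nil) (.node [16,18,19,18] .nil .nil)) (.node [20,18,21,15] (.node [18,15,19,17] .nil .nil) (.node [17,23,19,18,15] .nil .nil))))) (.node [20,18,15] (.node [20,22,15] (.node [17,16,17] (.node [22,18,15,15] (.node [21,17,23,15] .nil .nil) (.node [24,15,22,17] .nil .nil)) (.node [22,24,18,15] (.node [22,16,24,16] .nil .nil) (.node [22,15,18,15,15] .nil .nil))) (.node [24,15,18] (.node [15,23,17,15] (.node [18,19,18,16] .nil .nil) (.node [17,20,18,18] .nil .nil)) (.node [17,16,21,15] (.node [23,19,17,17] .nil .nil) (.node [17,15,15,18,15] .nil .nil)))) (.node [18,19,16] (.node [20,21,17] (.node [22,16,17,15] (.node [20,15,17,16] .nil .nil) (.node [24,15,15,18] .nil .nil)) (.node [17,24,19,15] (.node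 [15,21,15,17] .nil .nil) (.node [18,18,19,17,15] .nil .nil))) (.node [20,21,18] (.node [21,19,18,15] (.node [18,16,20,16] .nil .nil) (.node [18,23,20,18] .nil .nil)) (.node [20,15,22,15] (.node [19,16,20,17] .nil .nil) (.node [24,17,15,21,15] .nil .nil)))))))) (.node [15,15] (.node [20,15] (.node [20,16] (.node [19,18] (.node [16,19,15] (.node [24,20,16] (.node [24,22,18] (.node [22,16,22,15] .nil .nil) (.node [20,18,20,17] .nil .nil)) (.node [18,20,18,15] (.node [24,17,20,16] .nil .nil) (.node [21,18,22,18] .nil .nil))) (.node [17,22,17] (.node [18,19,17,15] (.node [22,16,17,16] .nil .nil) (.node [19,21,15,18] .nil .nil)) (.node [24,15,20,15] (.node [24,22,15,17] .nil .nil) (.node [15,15,20,17,15] .nil .nil)))) (.node [18,23,15] (.node [24,16,17] (.node [21,19,15,15] (.node [18,19,23,15] .nil .nil) (.node [16,18,22,17] .nil .nil)) (.node [18,16,19,15] (.node [22,17,24,16] .nil .nil) (.node [22,22,18,15,15] .nil .nil))) (.node [23,16,18]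 (.node [16,24,17,15] (.node [16,21,18,16] .nil .nil) (.node [17,23,18,18] .nil .nil)) (.node [23,16,21,15] (.node [17,22,17,17] .nil .nil) (.node [15,20,16,18,15] .nil .nil))))) (.node [19,17,15] (.node [17,21,15] (.node [20,24,16] (.node [17,17,15,15] (.node [15,15,23,15] .nil .nil) (.node [21,18,21,17] .nil .nil)) (.node [18,23,18,15] (.node [19,17,23,16] .nil .nil) (.node [17,22,24,18] .nil .nil))) (.node [21,24,17] (.node [20,21,17,15] (.node [21,15,18,16] .nil .nil) (.node [19,21,16,18] .nil .nil)) (.node [24,21,20,15] (.node [24,22,16,17] .nil .nil) (.node [16,18,21,17,15] .nil .nil)))) (.node [23,17,16] (.node [17,20,17] (.node [17,23,15,15] (.node [18,18,24,15] .nil .nil) (.node [15,18,24,17] .nil .nil)) (.node [23,21,19,15] (.node [23,18,15,17] .nil .nil) (.node [19,15,22,15,15] .nil .nil))) (.node [24,19,18] (.node [19,18,18,15] (.node [16,17,19,16] .nil .nil) (.node [15,22,19,18] .nil .nil)) (.node [18,21,21,15] (.node [24,17,19,17]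 .nil .nil) (.node [18,22,23,18,15] .nil .nil)))))) (.node [20,17] (.node [19,15,15] (.node [16,20,15] (.node [17,23,16] (.node [17,24,18] (.node [18,20,22,15] .nil .nil) (.node [18,23,20,17] .nil .nil)) (.node [23,21,18,15] (.node [18,18,21,16] .nil .nil) (.node [18,16,24,18] .nil .nil))) (.node [17,23,17] (.node [18,20,17,15] (.node [15,22,17,16] .nil .nil) (.node [18,24,15,18] .nil .nil)) (.node [24,17,20,15] (.node [17,19,16,17] .nil .nil) (.node [17,21,20,17,15] .nil .nil)))) (.node [19,24,15] (.node [16,19,17] (.node [17,21,15,15] (.node [15,17,24,15] .nil .nil) (.node [15,17,23,17] .nil .nil)) (.node [24,17,19,15] (.node [17,20,24,16] .nil .nil) (.node [18,21,19,15,15] .nil .nil))) (.node [24,18,18] (.node [23,15,18,15] (.node [15,23,18,16] .nil .nil) (.node [23,16,19,18] .nil .nil)) (.node [16,18,21,15] (.node [15,24,17,17] .nil .nil) (.node [24,18,19,18,15] .nil .nil))))) (.node [18,18,15] (.node [17,22,15] (.node [22,15,17]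 (.node [20,18,15,15] (.node [16,17,23,15] .nil .nil) (.node [20,15,22,17] .nil .nil)) (.node [18,24,18,15] (.node [19,16,24,16] .nil .nil) (.node [20,23,17,15,15] .nil .nil))) (.node [22,15,18] (.node [22,22,17,15] (.node [16,19,18,16] .nil .nil) (.node [18,18,18,18] .nil .nil)) (.node [23,15,21,15] (.node [21,19,17,17] .nil .nil) (.node [24,16,24,17,15] .nil .nil)))) (.node [24,18,16] (.node [18,21,17] (.node [20,16,17,15] (.node [18,15,17,16] .nil .nil) (.node [22,15,15,18] .nil .nil)) (.node [15,24,19,15] (.node [23,20,15,17] .nil .nil) (.node [17,15,17,17,15] .nil .nil))) (.node [15,21,18] (.node [17,19,18,15] (.node [18,24,19,16] .nil .nil) (.node [20,18,20,18] .nil .nil)) (.node [17,15,22,15] (.node [18,24,19,17] .nil .nil) (.node [24,15,18,20,15] .nil .nil))))))) (.node [24,15] (.node [15,17] (.node [23,18] (.node [22,19,15] (.node [18,21,16] (.node [21,23,18] (.node [22,17,22,15] .nil .nil) (.node [17,21,20,17] .nil .nil)) (.node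 [17,21,18,15] (.node [24,16,21,16] .nil .nil) (.node [20,15,23,18] .nil .nil))) (.node [22,22,17] (.node [24,19,17,15] (.node [16,20,17,16] .nil .nil) (.node [19,22,15,18] .nil .nil)) (.node [17,17,20,15] (.node [20,18,16,17] .nil .nil) (.node [24,15,20,17,15] .nil .nil)))) (.node [15,24,15] (.node [22,17,17] (.node [18,20,15,15] (.node [19,16,24,15] .nil .nil) (.node [16,20,22,17] .nil .nil)) (.node [19,17,19,15] (.node [22,18,24,16] .nil .nil) (.node [15,15,19,15,15] .nil .nil))) (.node [18,18,18] (.node [18,15,18,15] (.node [24,21,18,16] .nil .nil) (.node [19,15,19,18] .nil .nil)) (.node [17,17,21,15] (.node [24,22,17,17] .nil .nil) (.node [23,20,18,18,15] .nil .nil))))) (.node [23,17,15] (.node [23,21,15] (.node [18,15,17] (.node [24,17,15,15] (.node [23,15,23,15] .nil .nil) (.node [17,21,21,17] .nil .nil)) (.node [23,23,18,15] (.node [16,20,23,16] .nil .nil) (.node [22,17,17,15,15] .nil .nil))) (.node [18,15,18] (.node [16,22,17,15]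 (.node [20,18,18,16] .nil .nil) (.node [18,23,16,18] .nil .nil)) (.node [19,15,21,15] (.node [16,24,16,17] .nil .nil) (.node [15,22,22,17,15] .nil .nil)))) (.node [20,18,16] (.node [23,20,17] (.node [17,15,17,15] (.node [18,19,24,15] .nil .nil) (.node [15,24,24,17] .nil .nil)) (.node [24,22,19,15] (.node [21,19,15,17] .nil .nil) (.node [20,17,15,17,15] .nil .nil))) (.node [18,20,18] (.node [23,18,18,15] (.node [15,23,19,16] .nil .nil) (.node [17,16,20,18] .nil .nil)) (.node [15,24,21,15] (.node [16,22,19,17] .nil .nil) (.node [17,22,17,19,15] .nil .nil)))))) (.node [24,17] (.node [23,15,15] (.node [22,20,15] (.node [16,24,16] (.node [22,24,18] (.node [15,24,22,15] .nil .nil) (.node [21,17,21,17] .nil .nil)) (.node [20,22,18,15] (.node [16,19,21,16] .nil .nil) (.node [17,17,24,18] .nil .nil))) (.node [16,24,17] (.node [24,20,17,15] (.node [17,23,17,16] .nil .nil) (.node [21,19,16,18] .nil .nil)) (.node [24,18,20,15] (.node [15,22,16,17]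 .nil .nil) (.node [18,22,20,17,15] .nil .nil)))) (.node [17,17,16] (.node [22,19,17] (.node [17,22,15,15] (.node [21,17,24,15] .nil .nil) (.node [17,20,23,17] .nil .nil)) (.node [22,18,19,15] (.node [17,17,15,17] .nil .nil) (.node [18,15,21,15,15] .nil .nil))) (.node [18,19,18] (.node [21,16,18,15] (.node [18,24,18,16] .nil .nil) (.node [22,18,19,18] .nil .nil)) (.node [22,18,21,15] (.node [23,16,19,17] .nil .nil) (.node [18,21,20,18,15] .nil .nil))))) (.node [22,18,15] (.node [24,22,15] (.node [19,16,17] (.node [24,18,15,15] (.node [18,18,23,15] .nil .nil) (.node [19,16,22,17] .nil .nil)) (.node [18,15,19,15] (.node [24,16,24,16] .nil .nil) (.node [17,16,18,15,15] .nil .nil))) (.node [18,16,18] (.node [20,23,17,15] (.node [16,20,18,16] .nil .nil) (.node [15,21,18,18] .nil .nil)) (.node [19,16,21,15] (.node [17,20,17,17] .nil .nil) (.node [20,21,15,18,15] .nil .nil)))) (.node [24,19,16] (.node [23,21,17] (.node [24,16,17,15] (.node [23,15,17,16]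 .nil .nil) (.node [20,17,15,18] .nil .nil)) (.node [17,15,20,15] (.node [18,21,15,17] .nil .nil) (.node [20,21,19,17,15] .nil .nil))) (.node [15,22,18] (.node [24,19,18,15] (.node [23,16,20,16] .nil .nil) (.node [15,20,21,18] .nil .nil)) (.node [23,15,22,15] (.node [24,16,20,17] .nil .nil) (.node [16,24,17,24,15] .nil .nil)))))))))

/-- Data. -/
noncomputable def words2_1 : Arr (List ℕ) := (.node [16] (.node [18] (.node [19,15] (.node [19,16] (.node [18,18] (.node [15,19,15] (.node [17,20,16] (.node [22,22,18] (.node [20,16,22,15] .nil .nil) (.node [23,17,20,17] .nil .nil)) (.node [17,20,18,15] (.node [22,17,20,16] .nil .nil) (.node [16,18,22,18] .nil .nil))) (.node [16,22,17] (.node [19,17,17,15] (.node [21,16,17,16] .nil .nil) (.node [23,20,15,18] .nil .nil)) (.node [21,15,20,15] (.node [20,22,15,17] .nil .nil) (.node [23,23,19,17,15] .nil .nil)))) (.node [17,23,15] (.node [23,16,17] (.node [18,19,15,15] (.node [15,19,23,15] .nil .nil)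 (.node [23,17,22,17] .nil .nil)) (.node [17,16,19,15] (.node [21,17,24,16] .nil .nil) (.node [16,21,18,15,15] .nil .nil))) (.node [22,16,18] (.node [23,23,17,15] (.node [15,21,18,16] .nil .nil) (.node [15,23,18,18] .nil .nil)) (.node [22,16,21,15] (.node [16,22,17,17] .nil .nil) (.node [23,17,16,18,15] .nil .nil))))) (.node [17,17,15] (.node [16,21,15] (.node [19,24,16] (.node [16,17,15,15] (.node [18,24,22,15] .nil .nil) (.node [18,18,21,17] .nil .nil)) (.node [17,23,18,15] (.node [16,24,21,16] .nil .nil) (.node [16,18,24,18] .nil .nil))) (.node [20,24,17] (.node [19,21,17,15] (.node [20,15,18,16] .nil .nil) (.node [18,21,16,18] .nil .nil)) (.node [18,21,20,15] (.node [20,22,16,17] .nil .nil) (.node [18,24,20,17,15] .nil .nil)))) (.node [22,17,16] (.node [16,20,17] (.node [16,23,15,15] (.node [15,18,24,15] .nil .nil) (.node [23,17,24,17] .nil .nil)) (.node [18,21,19,15] (.node [21,18,15,17] .nil .nil) (.node [17,19,21,15,15] .nil .nil)))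 (.node [23,19,18] (.node [16,18,18,15] (.node [15,17,19,16] .nil .nil) (.node [18,21,19,18] .nil .nil)) (.node [17,21,21,15] (.node [19,17,19,17] .nil .nil) (.node [21,18,23,18,15] .nil .nil)))))) (.node [19,17] (.node [18,15,15] (.node [15,20,15] (.node [24,21,16] (.node [16,24,18] (.node [24,18,22,15] .nil .nil) (.node [17,23,20,17] .nil .nil)) (.node [21,21,18,15] (.node [15,18,21,16] .nil .nil) (.node [16,22,23,18] .nil .nil))) (.node [15,23,17] (.node [17,20,17,15] (.node [23,20,17,16] .nil .nil) (.node [16,24,15,18] .nil .nil)) (.node [23,17,20,15] (.node [15,19,16,17] .nil .nil) (.node [24,17,20,17,15] .nil .nil)))) (.node [18,24,15] (.node [15,19,17] (.node [16,21,15,15] (.node [24,16,24,15] .nil .nil) (.node [24,15,23,17] .nil .nil)) (.node [23,17,19,15] (.node [16,20,24,16] .nil .nil) (.node [21,16,19,15,15] .nil .nil))) (.node [23,18,18] (.node [22,15,18,15] (.node [24,22,18,16] .nil .nil) (.node [22,16,19,18] .nil .nil))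 (.node [23,17,21,15] (.node [22,23,17,17] .nil .nil) (.node [22,18,19,18,15] .nil .nil))))) (.node [16,18,15] (.node [16,22,15] (.node [21,15,17] (.node [19,18,15,15] (.node [23,16,23,15] .nil .nil) (.node [19,15,22,17] .nil .nil)) (.node [17,24,18,15] (.node [22,15,24,16] .nil .nil) (.node [24,20,17,15,15] .nil .nil))) (.node [21,15,18] (.node [20,22,17,15] (.node [24,18,18,16] .nil .nil) (.node [15,15,18,18] .nil .nil)) (.node [22,15,21,15] (.node [15,19,17,17] .nil .nil) (.node [20,22,23,17,15] .nil .nil)))) (.node [23,18,16] (.node [17,21,17] (.node [18,16,17,15] (.node [17,20,24,15] .nil .nil) (.node [17,15,15,18] .nil .nil)) (.node [18,23,19,15] (.node [21,20,15,17] .nil .nil) (.node [21,20,16,17,15] .nil .nil))) (.node [24,20,18] (.node [16,19,18,15] (.node [16,24,19,16] .nil .nil) (.node [24,17,20,18] .nil .nil)) (.node [19,24,21,15] (.node [15,24,19,17] .nil .nil) (.node [23,16,24,19,15] .nil .nil))))))) (.node [23,15] (.node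 [24,16] (.node [22,18] (.node [21,19,15] (.node [17,21,16] (.node [18,23,18] (.node [20,17,22,15] .nil .nil) (.node [23,18,20,17] .nil .nil)) (.node [16,21,18,15] (.node [20,16,21,16] .nil .nil) (.node [19,15,23,18] .nil .nil))) (.node [20,22,17] (.node [23,19,17,15] (.node [15,20,17,16] .nil .nil) (.node [17,22,15,18] .nil .nil)) (.node [15,17,20,15] (.node [19,18,16,17] .nil .nil) (.node [20,15,20,17,15] .nil .nil)))) (.node [21,23,15] (.node [20,17,17] (.node [17,20,15,15] (.node [18,21,23,15] .nil .nil) (.node [15,20,22,17] .nil .nil)) (.node [17,17,19,15] (.node [20,18,24,16] .nil .nil) (.node [24,24,18,15,15] .nil .nil))) (.node [16,18,18] (.node [15,15,18,15] (.node [20,21,18,16] .nil .nil) (.node [18,24,18,18] .nil .nil)) (.node [16,17,21,15] (.node [22,22,17,17] .nil .nil) (.node [24,19,18,18,15] .nil .nil))))) (.node [22,17,15] (.node [21,21,15] (.node [17,15,17] (.node [23,17,15,15] (.node [21,15,23,15] .nil .nil) (.node [15,21,21,17]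 .nil .nil)) (.node [22,23,18,15] (.node [15,20,23,16] .nil .nil) (.node [17,17,17,15,15] .nil .nil))) (.node [17,15,18] (.node [15,22,17,15] (.node [19,18,18,16] .nil .nil) (.node [22,22,16,18] .nil .nil)) (.node [18,15,21,15] (.node [23,23,16,17] .nil .nil) (.node [22,16,22,17,15] .nil .nil)))) (.node [19,18,16] (.node [22,20,17] (.node [15,15,17,15] (.node [17,19,24,15] .nil .nil) (.node [18,20,24,17] .nil .nil)) (.node [19,22,19,15] (.node [16,19,15,17] .nil .nil) (.node [19,17,23,15,15] .nil .nil))) (.node [17,20,18] (.node [22,18,18,15] (.node [22,18,19,16] .nil .nil) (.node [21,15,20,18] .nil .nil)) (.node [18,23,21,15] (.node [18,21,19,17] .nil .nil) (.node [18,22,15,19,15] .nil .nil)))))) (.node [23,17] (.node [22,15,15] (.node [21,20,15] (.node [15,24,16] (.node [21,24,18] (.node [18,22,22,15] .nil .nil) (.node [15,17,21,17] .nil .nil)) (.node [17,22,18,15] (.node [15,19,21,16] .nil .nil) (.node [16,17,24,18] .nil .nil))) (.node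 [15,24,17] (.node [23,20,17,15] (.node [19,22,17,16] .nil .nil) (.node [23,18,16,18] .nil .nil)) (.node [18,18,20,15] (.node [24,20,16,17] .nil .nil) (.node [24,21,20,17,15] .nil .nil)))) (.node [16,17,16] (.node [21,19,17] (.node [15,22,15,15] (.node [20,17,24,15] .nil .nil) (.node [21,17,23,17] .nil .nil)) (.node [21,18,19,15] (.node [21,15,15,17] .nil .nil) (.node [24,17,20,15,15] .nil .nil))) (.node [17,19,18] (.node [20,16,18,15] (.node [17,24,18,16] .nil .nil) (.node [21,18,19,18] .nil .nil)) (.node [21,18,21,15] (.node [23,15,19,17] .nil .nil) (.node [22,16,20,18,15] .nil .nil))))) (.node [21,18,15] (.node [22,22,15] (.node [18,16,17] (.node [23,18,15,15] (.node [22,17,23,15] .nil .nil) (.node [17,16,22,17] .nil .nil)) (.node [15,15,19,15] (.node [23,16,24,16] .nil .nil) (.node [24,15,18,15,15] .nil .nil))) (.node [17,16,18] (.node [17,23,17,15] (.node [15,20,18,16] .nil .nil) (.node [24,20,18,18] .nil .nil)) (.node [18,16,21,15]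 (.node [24,19,17,17] .nil .nil) (.node [18,15,15,18,15] .nil .nil)))) (.node [23,19,16] (.node [21,21,17] (.node [23,16,17,15] (.node [21,15,17,16] .nil .nil) (.node [17,17,15,18] .nil .nil)) (.node [15,15,20,15] (.node [16,21,15,17] .nil .nil) (.node [20,18,19,17,15] .nil .nil))) (.node [24,21,18] (.node [23,19,18,15] (.node [22,16,20,16] .nil .nil) (.node [17,24,20,18] .nil .nil)) (.node [21,15,22,15] (.node [22,16,20,17] .nil .nil) (.node [15,15,17,21,15] .nil .nil)))))))) (.node [17,15] (.node [21,15] (.node [21,16] (.node [20,18] (.node [17,19,15] (.node [15,21,16] (.node [15,23,18] (.node [15,17,22,15] .nil .nil) (.node [21,18,20,17] .nil .nil)) (.node [21,20,18,15] (.node [16,24,20,16] .nil .nil) (.node [15,22,22,18] .nil .nil))) (.node [18,22,17] (.node [21,19,17,15] (.node [16,17,17,16] .nil .nil) (.node [21,21,15,18] .nil .nil)) (.node [17,16,20,15] (.node [15,18,16,17] .nil .nil) (.node [17,15,20,17,15] .nil .nil)))) (.node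 [19,23,15] (.node [17,17,17] (.node [22,19,15,15] (.node [16,20,23,15] .nil .nil) (.node [22,18,22,17] .nil .nil)) (.node [15,17,19,15] (.node [16,18,24,16] .nil .nil) (.node [22,23,18,15,15] .nil .nil))) (.node [24,16,18] (.node [19,24,17,15] (.node [18,21,18,16] .nil .nil) (.node [22,23,18,18] .nil .nil)) (.node [24,16,21,15] (.node [18,22,17,17] .nil .nil) (.node [18,23,16,18,15] .nil .nil))))) (.node [20,17,15] (.node [18,21,15] (.node [22,24,16] (.node [20,17,15,15] (.node [19,15,23,15] .nil .nil) (.node [22,18,21,17] .nil .nil)) (.node [19,23,18,15] (.node [20,17,23,16] .nil .nil) (.node [15,24,24,18] .nil .nil))) (.node [24,24,17] (.node [21,21,17,15] (.node [23,15,18,16] .nil .nil) (.node [20,21,16,18] .nil .nil)) (.node [15,15,21,15] (.node [15,23,16,17] .nil .nil) (.node [17,21,21,17,15] .nil .nil)))) (.node [15,18,16] (.node [18,20,17] (.node [18,23,15,15] (.node [21,18,24,15] .nil .nil) (.node [21,18,24,17] .nil .nil)) (.node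 [16,22,19,15] (.node [24,18,15,17] .nil .nil) (.node [19,17,22,15,15] .nil .nil))) (.node [15,20,18] (.node [20,18,18,15] (.node [21,17,19,16] .nil .nil) (.node [19,22,19,18] .nil .nil)) (.node [15,23,21,15] (.node [21,18,19,17] .nil .nil) (.node [18,15,24,18,15] .nil .nil)))))) (.node [21,17] (.node [20,15,15] (.node [17,20,15] (.node [20,23,16] (.node [18,24,18] (.node [23,20,22,15] .nil .nil) (.node [17,24,20,17] .nil .nil)) (.node [15,22,18,15] (.node [19,18,21,16] .nil .nil) (.node [19,16,24,18] .nil .nil))) (.node [20,23,17] (.node [21,20,17,15] (.node [16,22,17,16] .nil .nil) (.node [24,24,15,18] .nil .nil)) (.node [15,18,20,15] (.node [23,19,16,17] .nil .nil) (.node [21,21,20,17,15] .nil .nil)))) (.node [20,24,15] (.node [17,19,17] (.node [18,21,15,15] (.node [16,17,24,15] .nil .nil) (.node [16,17,23,17] .nil .nil)) (.node [16,18,19,15] (.node [16,22,24,16] .nil .nil) (.node [15,24,19,15,15] .nil .nil))) (.node [15,19,18] (.node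 [17,16,18,15] (.node [17,23,18,16] .nil .nil) (.node [24,17,19,18] .nil .nil)) (.node [19,18,21,15] (.node [17,15,19,17] .nil .nil) (.node [15,21,19,18,15] .nil .nil))))) (.node [19,18,15] (.node [18,22,15] (.node [23,15,17] (.node [21,18,15,15] (.node [17,17,23,15] .nil .nil) (.node [22,15,22,17] .nil .nil)) (.node [19,24,18,15] (.node [21,16,24,16] .nil .nil) (.node [20,15,18,15,15] .nil .nil))) (.node [23,15,18] (.node [24,22,17,15] (.node [17,19,18,16] .nil .nil) (.node [23,18,18,18] .nil .nil)) (.node [24,15,21,15] (.node [22,19,17,17] .nil .nil) (.node [15,24,24,17,15] .nil .nil)))) (.node [17,19,16] (.node [19,21,17] (.node [21,16,17,15] (.node [19,15,17,16] .nil .nil) (.node [23,15,15,18] .nil .nil)) (.node [16,24,19,15] (.node [24,20,15,17] .nil .nil) (.node [19,16,17,17,15] .nil .nil))) (.node [16,21,18] (.node [18,19,18,15] (.node [17,16,20,16] .nil .nil) (.node [16,22,20,18] .nil .nil)) (.node [19,15,22,15] (.node [18,16,20,17]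 .nil .nil) (.node [15,24,18,20,15] .nil .nil))))))) (.node [17,16] (.node [16,17] (.node [24,18] (.node [23,19,15] (.node [19,21,16] (.node [22,23,18] (.node [23,17,22,15] .nil .nil) (.node [17,22,20,17] .nil .nil)) (.node [18,21,18,15] (.node [19,17,21,16] .nil .nil) (.node [15,17,23,18] .nil .nil))) (.node [23,22,17] (.node [15,20,17,15] (.node [17,20,17,16] .nil .nil) (.node [23,22,15,18] .nil .nil)) (.node [20,17,20,15] (.node [22,18,16,17] .nil .nil) (.node [23,16,20,17,15] .nil .nil)))) (.node [16,24,15] (.node [23,17,17] (.node [22,20,15,15] (.node [20,16,24,15] .nil .nil) (.node [20,15,23,17] .nil .nil)) (.node [20,17,19,15] (.node [24,18,24,16] .nil .nil) (.node [19,15,19,15,15] .nil .nil))) (.node [20,18,18] (.node [20,15,18,15] (.node [19,22,18,16] .nil .nil) (.node [21,15,19,18] .nil .nil)) (.node [19,17,21,15] (.node [16,23,17,17] .nil .nil) (.node [22,23,18,18,15] .nil .nil))))) (.node [24,17,15] (.node [24,21,15] (.node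 [19,15,17] (.node [15,18,15,15] (.node [17,16,23,15] .nil .nil) (.node [18,21,21,17] .nil .nil)) (.node [15,24,18,15] (.node [18,20,23,16] .nil .nil) (.node [23,17,17,15,15] .nil .nil))) (.node [19,15,18] (.node [18,22,17,15] (.node [21,18,18,16] .nil .nil) (.node [20,24,16,18] .nil .nil)) (.node [20,15,21,15] (.node [17,24,16,17] .nil .nil) (.node [24,15,23,17,15] .nil .nil)))) (.node [21,18,16] (.node [24,20,17] (.node [18,15,17,15] (.node [15,20,24,15] .nil .nil) (.node [16,24,24,17] .nil .nil)) (.node [16,23,19,15] (.node [17,20,15,17] .nil .nil) (.node [23,18,15,17,15] .nil .nil))) (.node [22,20,18] (.node [24,18,18,15] (.node [17,23,19,16] .nil .nil) (.node [19,17,20,18] .nil .nil)) (.node [16,24,21,15] (.node [20,23,19,17] .nil .nil) (.node [19,22,17,19,15] .nil .nil)))))) (.node [15,18] (.node [15,17,15] (.node [23,20,15] (.node [17,24,16] (.node [24,24,18] (.node [16,24,22,15] .nil .nil) (.node [23,17,21,17] .nil .nil)) (.node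 [22,22,18,15] (.node [17,19,21,16] .nil .nil) (.node [23,17,24,18] .nil .nil))) (.node [17,24,17] (.node [17,21,17,15] (.node [18,15,18,16] .nil .nil) (.node [22,19,16,18] .nil .nil)) (.node [16,21,20,15] (.node [17,22,16,17] .nil .nil) (.node [19,22,20,17,15] .nil .nil)))) (.node [19,17,16] (.node [23,19,17] (.node [19,22,15,15] (.node [23,17,24,15] .nil .nil) (.node [22,15,24,17] .nil .nil)) (.node [23,18,19,15] (.node [24,17,15,17] .nil .nil) (.node [20,16,21,15,15] .nil .nil))) (.node [21,19,18] (.node [22,16,18,15] (.node [19,24,18,16] .nil .nil) (.node [15,21,19,18] .nil .nil)) (.node [15,19,21,15] (.node [15,17,19,17] .nil .nil) (.node [24,17,21,18,15] .nil .nil))))) (.node [23,18,15] (.node [15,23,15] (.node [20,16,17] (.node [15,19,15,15] (.node [20,18,23,15] .nil .nil) (.node [22,16,22,17] .nil .nil)) (.node [20,15,19,15] (.node [17,17,24,16] .nil .nil) (.node [23,19,18,15,15] .nil .nil))) (.node [19,16,18] (.node [21,23,17,15]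 (.node [21,20,18,16] .nil .nil) (.node [16,21,18,18] .nil .nil)) (.node [20,16,21,15] (.node [23,20,17,17] .nil .nil) (.node [15,17,16,18,15] .nil .nil)))) (.node [15,20,16] (.node [24,21,17] (.node [15,17,17,15] (.node [17,16,17,16] .nil .nil) (.node [21,19,15,18] .nil .nil)) (.node [18,15,20,15] (.node [24,21,15,17] .nil .nil) (.node [18,22,19,17,15] .nil .nil))) (.node [17,22,18] (.node [15,20,18,15] (.node [17,17,20,16] .nil .nil) (.node [23,20,21,18] .nil .nil)) (.node [24,15,22,15] (.node [17,17,20,17] .nil .nil) (.node [24,17,20,24,15] .nil .nil)))))))))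

/-- Data. -/
noncomputable def words2 : Arr (List ℕ) := (.node [] words2_0 words2_1)

/-- Data. -/
noncomputable def pos2_0 : Arr (ℕ) := (.node 0 (.node 0 (.node 338 (.node 0 (.node 121 (.node 0 (.node 838 (.node 0 (.node 0 (.node 211 .nil .nil) (.node 159 .nil .nil)) (.node 0 (.node 35 .nil .nil) .nil)) (.node 271 (.node 646 (.node 0 .nil .nil) (.node 0 .nil .nil)) (.node 994 (.node 415 .nil .nil) .nil))) (.node 743 (.node 899 (.node 0 (.node 0 .nil .nil) (.node 164 .nil .nil)) (.node 1 (.node 80 .nil .nil) .nil)) (.node 0 (.node 561 (.node 73 .nil .nil) (.node 0 .nil .nil)) (.node 558 (.node 0 .nil .nil) .nil)))) (.node 0 (.node 362 (.node 696 (.node 719 (.node 960 .nil .nil) (.node 858 .nil .nil)) (.node 0 (.node 419 .nil .nil) .nil)) (.node 0 (.node 547 (.node 0 .nil .nil) (.node 0 .nil .nil)) (.node 522 (.node 0 .nil .nil) .nil))) (.node 855 (.node 851 (.node 111 (.node 894 .nil .nil) (.node 0 .nil .nil)) (.node 0 (.node 948 .nil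 .nil) .nil)) (.node 0 (.node 0 (.node 191 .nil .nil) (.node 382 .nil .nil)) (.node 0 (.node 836 .nil .nil) .nil))))) (.node 321 (.node 0 (.node 156 (.node 0 (.node 0 (.node 334 .nil .nil) (.node 660 .nil .nil)) (.node 115 (.node 426 .nil .nil) .nil)) (.node 0 (.node 795 (.node 674 .nil .nil) (.node 468 .nil .nil)) (.node 0 (.node 911 .nil .nil) .nil))) (.node 0 (.node 175 (.node 120 (.node 0 .nil .nil) (.node 914 .nil .nil)) (.node 18 (.node 877 .nil .nil) .nil)) (.node 0 (.node 721 (.node 0 .nil .nil) (.node 905 .nil .nil)) (.node 922 (.node 0 .nil .nil) .nil)))) (.node 0 (.node 494 (.node 390 (.node 114 (.node 184 .nil .nil) (.node 0 .nil .nil)) (.node 0 (.node 578 .nil .nil) .nil)) (.node 0 (.node 583 (.node 810 .nil .nil) (.node 0 .nil .nil)) (.node 207 (.node 0 .nil .nil) .nil))) (.node 384 (.node 212 (.node 0 (.node 539 .nil .nil) (.node 140 .nil .nil)) (.node 771 (.node 625 .nil .nil) .nil)) (.node 0 (.node 777 (.node 0 .nil .nil)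 (.node 402 .nil .nil)) (.node 357 (.node 0 .nil .nil) .nil)))))) (.node 0 (.node 0 (.node 1010 (.node 0 (.node 49 (.node 0 (.node 0 .nil .nil) (.node 0 .nil .nil)) (.node 52 (.node 0 .nil .nil) .nil)) (.node 1019 (.node 0 (.node 996 .nil .nil) (.node 265 .nil .nil)) (.node 0 (.node 316 .nil .nil) .nil))) (.node 532 (.node 100 (.node 556 (.node 0 .nil .nil) (.node 0 .nil .nil)) (.node 0 (.node 88 .nil .nil) .nil)) (.node 501 (.node 0 (.node 738 .nil .nil) (.node 665 .nil .nil)) (.node 0 (.node 756 .nil .nil) .nil)))) (.node 315 (.node 23 (.node 0 (.node 233 (.node 356 .nil .nil) (.node 0 .nil .nil)) (.node 520 (.node 44 .nil .nil) .nil)) (.node 747 (.node 246 (.node 31 .nil .nil) (.node 0 .nil .nil)) (.node 0 (.node 0 .nil .nil) .nil))) (.node 0 (.node 32 (.node 978 (.node 0 .nil .nil) (.node 662 .nil .nil)) (.node 606 (.node 636 .nil .nil) .nil)) (.node 785 (.node 0 (.node 0 .nil .nil) (.node 0 .nil .nil)) (.node 693 (.node 200 .nil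 .nil) .nil))))) (.node 0 (.node 9 (.node 921 (.node 0 (.node 124 (.node 259 .nil .nil) (.node 0 .nil .nil)) (.node 889 (.node 628 .nil .nil) .nil)) (.node 0 (.node 0 (.node 0 .nil .nil) (.node 193 .nil .nil)) (.node 0 (.node 0 .nil .nil) .nil))) (.node 0 (.node 0 (.node 0 (.node 448 .nil .nil) (.node 596 .nil .nil)) (.node 927 (.node 41 .nil .nil) .nil)) (.node 130 (.node 0 (.node 895 .nil .nil) (.node 720 .nil .nil)) (.node 645 (.node 533 .nil .nil) .nil)))) (.node 824 (.node 206 (.node 0 (.node 0 (.node 145 .nil .nil) (.node 0 .nil .nil)) (.node 844 (.node 0 .nil .nil) .nil)) (.node 700 (.node 0 (.node 0 .nil .nil) (.node 0 .nil .nil)) (.node 669 (.node 435 .nil .nil) .nil))) (.node 798 (.node 0 (.node 0 (.node 0 .nil .nil) (.node 0 .nil .nil)) (.node 623 (.node 848 .nil .nil) .nil)) (.node 764 (.node 0 (.node 109 .nil .nil) .nil) (.node 0 (.node 0 .nil .nil) .nil))))))) (.node 849 (.node 408 (.node 63 (.node 0 (.node 368 (.node 242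 (.node 0 (.node 0 .nil .nil) (.node 989 .nil .nil)) (.node 0 (.node 136 .nil .nil) .nil)) (.node 147 (.node 232 (.node 0 .nil .nil) (.node 304 .nil .nil)) (.node 0 (.node 412 .nil .nil) .nil))) (.node 221 (.node 0 (.node 269 (.node 699 .nil .nil) (.node 0 .nil .nil)) (.node 13 (.node 82 .nil .nil) .nil)) (.node 0 (.node 0 (.node 332 .nil .nil) (.node 915 .nil .nil)) (.node 228 (.node 0 .nil .nil) .nil)))) (.node 0 (.node 398 (.node 0 (.node 243 (.node 0 .nil .nil) (.node 0 .nil .nil)) (.node 0 (.node 710 .nil .nil) .nil)) (.node 0 (.node 736 (.node 0 .nil .nil) (.node 0 .nil .nil)) (.node 99 (.node 0 .nil .nil) .nil))) (.node 0 (.node 270 (.node 0 (.node 0 .nil .nil) (.node 50 .nil .nil)) (.node 0 (.node 0 .nil .nil) .nil)) (.node 0 (.node 313 (.node 776 .nil .nil) (.node 229 .nil .nil)) (.node 0 (.node 226 .nil .nil) .nil))))) (.node 480 (.node 199 (.node 196 (.node 331 (.node 0 (.node 701 .nil .nil) (.node 0 .nil .nil)) (.node 549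 (.node 933 .nil .nil) .nil)) (.node 276 (.node 0 (.node 553 .nil .nil) (.node 0 .nil .nil)) (.node 255 (.node 75 .nil .nil) .nil))) (.node 0 (.node 413 (.node 320 (.node 0 .nil .nil) (.node 0 .nil .nil)) (.node 550 (.node 786 .nil .nil) .nil)) (.node 865 (.node 0 (.node 0 .nil .nil) (.node 0 .nil .nil)) (.node 86 (.node 0 .nil .nil) .nil)))) (.node 730 (.node 993 (.node 355 (.node 0 (.node 185 .nil .nil) (.node 812 .nil .nil)) (.node 496 (.node 0 .nil .nil) .nil)) (.node 884 (.node 0 (.node 0 .nil .nil) (.node 0 .nil .nil)) (.node 639 (.node 291 .nil .nil) .nil))) (.node 828 (.node 0 (.node 951 (.node 684 .nil .nil) (.node 0 .nil .nil)) (.node 0 (.node 39 .nil .nil) .nil)) (.node 803 (.node 20 (.node 806 .nil .nil) (.node 94 .nil .nil)) (.node 638 (.node 0 .nil .nil) .nil)))))) (.node 592 (.node 65 (.node 0 (.node 247 (.node 0 (.node 0 (.node 0 .nil .nil) (.node 274 .nil .nil)) (.node 0 (.node 0 .nil .nil) .nil)) (.node 62 (.node 0 (.node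 275 .nil .nil) (.node 0 .nil .nil)) (.node 312 (.node 980 .nil .nil) .nil))) (.node 616 (.node 0 (.node 0 (.node 0 .nil .nil) (.node 0 .nil .nil)) (.node 712 (.node 0 .nil .nil) .nil)) (.node 258 (.node 427 (.node 0 .nil .nil) (.node 649 .nil .nil)) (.node 572 (.node 1007 .nil .nil) .nil)))) (.node 0 (.node 379 (.node 817 (.node 281 (.node 410 .nil .nil) (.node 0 .nil .nil)) (.node 863 (.node 58 .nil .nil) .nil)) (.node 762 (.node 822 (.node 594 .nil .nil) (.node 447 .nil .nil)) (.node 0 (.node 400 .nil .nil) .nil))) (.node 0 (.node 16 (.node 397 (.node 134 .nil .nil) (.node 0 .nil .nil)) (.node 146 (.node 0 .nil .nil) .nil)) (.node 0 (.node 0 (.node 0 .nil .nil) (.node 418 .nil .nil)) (.node 617 (.node 292 .nil .nil) .nil))))) (.node 685 (.node 138 (.node 0 (.node 965 (.node 0 (.node 487 .nil .nil) (.node 442 .nil .nil)) (.node 0 (.node 479 .nil .nil) .nil)) (.node 632 (.node 0 (.node 0 .nil .nil) (.node 0 .nil .nil)) (.node 294 (.node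 0 .nil .nil) .nil))) (.node 0 (.node 652 (.node 0 (.node 0 .nil .nil) (.node 888 .nil .nil)) (.node 0 (.node 0 .nil .nil) .nil)) (.node 438 (.node 0 (.node 0 .nil .nil) (.node 562 .nil .nil)) (.node 452 (.node 0 .nil .nil) .nil)))) (.node 0 (.node 171 (.node 0 (.node 1022 (.node 0 .nil .nil) (.node 670 .nil .nil)) (.node 932 (.node 264 .nil .nil) .nil)) (.node 0 (.node 968 (.node 754 .nil .nil) (.node 0 .nil .nil)) (.node 77 (.node 694 .nil .nil) .nil))) (.node 624 (.node 392 (.node 0 (.node 982 .nil .nil) (.node 0 .nil .nil)) (.node 759 (.node 107 .nil .nil) .nil)) (.node 139 (.node 393 (.node 283 .nil .nil) .nil) (.node 204 (.node 740 .nil .nil) .nil)))))))) (.node 891 (.node 928 (.node 634 (.node 461 (.node 883 (.node 0 (.node 704 (.node 0 (.node 622 .nil .nil) (.node 0 .nil .nil)) (.node 748 (.node 174 .nil .nil) .nil)) (.node 423 (.node 0 (.node 513 .nil .nil) (.node 707 .nil .nil)) (.node 96 (.node 89 .nil .nil) .nil))) (.node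 0 (.node 0 (.node 254 (.node 0 .nil .nil) (.node 979 .nil .nil)) (.node 688 (.node 135 .nil .nil) .nil)) (.node 0 (.node 458 (.node 0 .nil .nil) (.node 6 .nil .nil)) (.node 809 (.node 900 .nil .nil) .nil)))) (.node 0 (.node 38 (.node 755 (.node 0 (.node 0 .nil .nil) (.node 0 .nil .nil)) (.node 587 (.node 538 .nil .nil) .nil)) (.node 608 (.node 0 (.node 768 .nil .nil) (.node 0 .nil .nil)) (.node 219 (.node 952 .nil .nil) .nil))) (.node 0 (.node 709 (.node 0 (.node 0 .nil .nil) (.node 953 .nil .nil)) (.node 163 (.node 387 .nil .nil) .nil)) (.node 0 (.node 0 (.node 582 .nil .nil) (.node 0 .nil .nil)) (.node 852 (.node 792 .nil .nil) .nil))))) (.node 0 (.node 0 (.node 0 (.node 285 (.node 0 (.node 303 .nil .nil) (.node 421 .nil .nil)) (.node 907 (.node 1008 .nil .nil) .nil)) (.node 857 (.node 926 (.node 152 .nil .nil) (.node 0 .nil .nil)) (.node 101 (.node 0 .nil .nil) .nil))) (.node 0 (.node 885 (.node 0 (.node 0 .nil .nil) (.node 0 .nil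 .nil)) (.node 53 (.node 902 .nil .nil) .nil)) (.node 411 (.node 988 (.node 0 .nil .nil) (.node 0 .nil .nil)) (.node 238 (.node 306 .nil .nil) .nil)))) (.node 0 (.node 433 (.node 162 (.node 181 (.node 789 .nil .nil) (.node 222 .nil .nil)) (.node 890 (.node 381 .nil .nil) .nil)) (.node 51 (.node 0 (.node 482 .nil .nil) (.node 11 .nil .nil)) (.node 0 (.node 0 .nil .nil) .nil))) (.node 0 (.node 783 (.node 925 (.node 0 .nil .nil) (.node 589 .nil .nil)) (.node 990 (.node 611 .nil .nil) .nil)) (.node 697 (.node 0 (.node 0 .nil .nil) (.node 0 .nil .nil)) (.node 0 (.node 322 .nil .nil) .nil)))))) (.node 0 (.node 0 (.node 0 (.node 0 (.node 257 (.node 273 (.node 602 .nil .nil) (.node 0 .nil .nil)) (.node 0 (.node 172 .nil .nil) .nil)) (.node 0 (.node 0 (.node 0 .nil .nil) (.node 1018 .nil .nil)) (.node 463 (.node 0 .nil .nil) .nil))) (.node 432 (.node 407 (.node 552 (.node 0 .nil .nil) (.node 0 .nil .nil)) (.node 1003 (.node 0 .nil .nil) .nil))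 (.node 841 (.node 0 (.node 516 .nil .nil) (.node 0 .nil .nil)) (.node 0 (.node 0 .nil .nil) .nil)))) (.node 0 (.node 0 (.node 0 (.node 0 (.node 422 .nil .nil) (.node 794 .nil .nil)) (.node 0 (.node 633 .nil .nil) .nil)) (.node 0 (.node 906 (.node 530 .nil .nil) (.node 366 .nil .nil)) (.node 0 (.node 168 .nil .nil) .nil))) (.node 335 (.node 975 (.node 0 (.node 81 .nil .nil) (.node 642 .nil .nil)) (.node 0 (.node 293 .nil .nil) .nil)) (.node 537 (.node 0 (.node 0 .nil .nil) (.node 0 .nil .nil)) (.node 0 (.node 692 .nil .nil) .nil))))) (.node 689 (.node 0 (.node 182 (.node 178 (.node 236 (.node 475 .nil .nil) (.node 0 .nil .nil)) (.node 445 (.node 205 .nil .nil) .nil)) (.node 0 (.node 0 (.node 0 .nil .nil) (.node 0 .nil .nil)) (.node 955 (.node 0 .nil .nil) .nil))) (.node 896 (.node 464 (.node 224 (.node 0 .nil .nil) (.node 773 .nil .nil)) (.node 250 (.node 0 .nil .nil) .nil)) (.node 800 (.node 133 (.node 581 .nil .nil) (.node 0 .nil .nil))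 (.node 564 (.node 148 .nil .nil) .nil)))) (.node 0 (.node 971 (.node 0 (.node 0 (.node 0 .nil .nil) (.node 0 .nil .nil)) (.node 0 (.node 15 .nil .nil) .nil)) (.node 0 (.node 166 (.node 0 .nil .nil) (.node 404 .nil .nil)) (.node 437 (.node 640 .nil .nil) .nil))) (.node 0 (.node 0 (.node 203 (.node 507 .nil .nil) (.node 0 .nil .nil)) (.node 761 (.node 0 .nil .nil) .nil)) (.node 818 (.node 0 (.node 127 .nil .nil) .nil) (.node 0 (.node 575 .nil .nil) .nil))))))) (.node 0 (.node 739 (.node 0 (.node 201 (.node 197 (.node 241 (.node 1009 (.node 924 .nil .nil) (.node 698 .nil .nil)) (.node 946 (.node 213 .nil .nil) .nil)) (.node 0 (.node 0 (.node 391 .nil .nil) (.node 0 .nil .nil)) (.node 27 (.node 0 .nil .nil) .nil))) (.node 813 (.node 0 (.node 0 (.node 0 .nil .nil) (.node 576 .nil .nil)) (.node 85 (.node 702 .nil .nil) .nil)) (.node 467 (.node 179 (.node 0 .nil .nil) (.node 0 .nil .nil)) (.node 481 (.node 563 .nil .nil) .nil)))) (.node 939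 (.node 1006 (.node 0 (.node 0 (.node 0 .nil .nil) (.node 716 .nil .nil)) (.node 621 (.node 0 .nil .nil) .nil)) (.node 0 (.node 887 (.node 396 .nil .nil) (.node 409 .nil .nil)) (.node 772 (.node 329 .nil .nil) .nil))) (.node 0 (.node 577 (.node 0 (.node 782 .nil .nil) (.node 0 .nil .nil)) (.node 850 (.node 567 .nil .nil) .nil)) (.node 202 (.node 0 (.node 0 .nil .nil) (.node 546 .nil .nil)) (.node 619 (.node 0 .nil .nil) .nil))))) (.node 0 (.node 0 (.node 886 (.node 626 (.node 974 (.node 0 .nil .nil) (.node 944 .nil .nil)) (.node 0 (.node 248 .nil .nil) .nil)) (.node 0 (.node 0 (.node 0 .nil .nil) (.node 0 .nil .nil)) (.node 0 (.node 0 .nil .nil) .nil))) (.node 495 (.node 821 (.node 769 (.node 119 .nil .nil) (.node 0 .nil .nil)) (.node 169 (.node 0 .nil .nil) .nil)) (.node 0 (.node 375 (.node 0 .nil .nil) (.node 319 .nil .nil)) (.node 492 (.node 0 .nil .nil) .nil)))) (.node 0 (.node 79 (.node 0 (.node 598 (.node 497 .nil .nil) (.node 941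 .nil .nil)) (.node 289 (.node 523 .nil .nil) .nil)) (.node 256 (.node 3 (.node 703 .nil .nil) (.node 0 .nil .nil)) (.node 588 (.node 942 .nil .nil) .nil))) (.node 614 (.node 559 (.node 0 (.node 0 .nil .nil) (.node 388 .nil .nil)) (.node 0 (.node 737 .nil .nil) .nil)) (.node 1011 (.node 735 (.node 609 .nil .nil) (.node 26 .nil .nil)) (.node 0 (.node 0 .nil .nil) .nil)))))) (.node 0 (.node 0 (.node 0 (.node 0 (.node 711 (.node 0 (.node 0 .nil .nil) (.node 802 .nil .nil)) (.node 898 (.node 2 .nil .nil) .nil)) (.node 0 (.node 0 (.node 1000 .nil .nil) (.node 597 .nil .nil)) (.node 180 (.node 0 .nil .nil) .nil))) (.node 565 (.node 0 (.node 586 (.node 950 .nil .nil) (.node 0 .nil .nil)) (.node 0 (.node 0 .nil .nil) .nil)) (.node 0 (.node 0 (.node 0 .nil .nil) (.node 0 .nil .nil)) (.node 0 (.node 829 .nil .nil) .nil)))) (.node 0 (.node 935 (.node 1012 (.node 686 (.node 484 .nil .nil) (.node 0 .nil .nil)) (.node 555 (.node 706 .nil .nil) .nil))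 (.node 0 (.node 0 (.node 515 .nil .nil) (.node 500 .nil .nil)) (.node 485 (.node 0 .nil .nil) .nil))) (.node 0 (.node 0 (.node 0 (.node 0 .nil .nil) (.node 450 .nil .nil)) (.node 0 (.node 0 .nil .nil) .nil)) (.node 151 (.node 854 (.node 478 .nil .nil) (.node 675 .nil .nil)) (.node 132 (.node 361 .nil .nil) .nil))))) (.node 875 (.node 892 (.node 0 (.node 0 (.node 528 (.node 733 .nil .nil) (.node 0 .nil .nil)) (.node 560 (.node 459 .nil .nil) .nil)) (.node 0 (.node 0 (.node 0 .nil .nil) (.node 472 .nil .nil)) (.node 0 (.node 0 .nil .nil) .nil))) (.node 0 (.node 0 (.node 0 (.node 0 .nil .nil) (.node 0 .nil .nil)) (.node 262 (.node 807 .nil .nil) .nil)) (.node 0 (.node 401 (.node 215 .nil .nil) (.node 862 .nil .nil)) (.node 317 (.node 745 .nil .nil) .nil)))) (.node 1013 (.node 867 (.node 0 (.node 517 (.node 548 .nil .nil) (.node 1017 .nil .nil)) (.node 160 (.node 0 .nil .nil) .nil)) (.node 542 (.node 0 (.node 19 .nil .nil) (.node 945 .nil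 .nil)) (.node 934 (.node 10 .nil .nil) .nil))) (.node 814 (.node 477 (.node 0 (.node 0 .nil .nil) (.node 816 .nil .nil)) (.node 0 (.node 0 .nil .nil) .nil)) (.node 48 (.node 253 (.node 0 .nil .nil) .nil) (.node 763 (.node 251 .nil .nil) .nil)))))))))

/-- Data. -/
noncomputable def pos2_1 : Arr (ℕ) := (.node 429 (.node 0 (.node 940 (.node 723 (.node 143 (.node 0 (.node 573 (.node 0 (.node 21 (.node 0 .nil .nil) (.node 0 .nil .nil)) (.node 340 (.node 129 .nil .nil) .nil)) (.node 0 (.node 0 (.node 0 .nil .nil) (.node 0 .nil .nil)) (.node 0 (.node 620 .nil .nil) .nil))) (.node 0 (.node 341 (.node 123 (.node 227 .nil .nil) (.node 183 .nil .nil)) (.node 190 (.node 0 .nil .nil) .nil)) (.node 0 (.node 0 (.node 284 .nil .nil) (.node 424 .nil .nil)) (.node 345 (.node 150 .nil .nil) .nil)))) (.node 584 (.node 471 (.node 30 (.node 0 (.node 732 .nil .nil) (.node 0 .nil .nil)) (.node 0 (.node 0 .nil .nil) .nil)) (.node 0 (.node 0 (.node 0 .nil .nil)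 (.node 0 .nil .nil)) (.node 46 (.node 493 .nil .nil) .nil))) (.node 823 (.node 380 (.node 629 (.node 0 .nil .nil) (.node 595 .nil .nil)) (.node 878 (.node 0 .nil .nil) .nil)) (.node 0 (.node 0 (.node 937 .nil .nil) (.node 668 .nil .nil)) (.node 0 (.node 220 .nil .nil) .nil))))) (.node 12 (.node 543 (.node 805 (.node 837 (.node 0 (.node 149 .nil .nil) (.node 260 .nil .nil)) (.node 157 (.node 0 .nil .nil) .nil)) (.node 333 (.node 0 (.node 0 .nil .nil) (.node 861 .nil .nil)) (.node 0 (.node 661 .nil .nil) .nil))) (.node 0 (.node 0 (.node 67 (.node 912 .nil .nil) (.node 995 .nil .nil)) (.node 0 (.node 570 .nil .nil) .nil)) (.node 34 (.node 529 (.node 0 .nil .nil) (.node 613 .nil .nil)) (.node 0 (.node 505 .nil .nil) .nil)))) (.node 420 (.node 95 (.node 569 (.node 376 (.node 261 .nil .nil) (.node 947 .nil .nil)) (.node 0 (.node 0 .nil .nil) .nil)) (.node 870 (.node 0 (.node 0 .nil .nil) (.node 0 .nil .nil)) (.node 0 (.node 972 .nil .nil)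 .nil))) (.node 869 (.node 0 (.node 0 (.node 604 .nil .nil) (.node 378 .nil .nil)) (.node 909 (.node 749 .nil .nil) .nil)) (.node 0 (.node 0 (.node 297 .nil .nil) (.node 808 .nil .nil)) (.node 0 (.node 92 .nil .nil) .nil)))))) (.node 930 (.node 0 (.node 0 (.node 83 (.node 469 (.node 0 (.node 348 .nil .nil) (.node 0 .nil .nil)) (.node 832 (.node 0 .nil .nil) .nil)) (.node 0 (.node 0 (.node 0 .nil .nil) (.node 644 .nil .nil)) (.node 158 (.node 601 .nil .nil) .nil))) (.node 0 (.node 0 (.node 195 (.node 286 .nil .nil) (.node 519 .nil .nil)) (.node 0 (.node 0 .nil .nil) .nil)) (.node 790 (.node 0 (.node 170 .nil .nil) (.node 959 .nil .nil)) (.node 0 (.node 245 .nil .nil) .nil)))) (.node 209 (.node 56 (.node 0 (.node 0 (.node 0 .nil .nil) (.node 325 .nil .nil)) (.node 0 (.node 300 .nil .nil) .nil)) (.node 217 (.node 0 (.node 0 .nil .nil) (.node 337 .nil .nil)) (.node 0 (.node 0 .nil .nil) .nil))) (.node 0 (.node 0 (.node 551 (.node 0 .nil .nil)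 (.node 296 .nil .nil)) (.node 663 (.node 102 .nil .nil) .nil)) (.node 377 (.node 489 (.node 0 .nil .nil) (.node 827 .nil .nil)) (.node 0 (.node 0 .nil .nil) .nil))))) (.node 4 (.node 0 (.node 37 (.node 0 (.node 0 (.node 314 .nil .nil) (.node 68 .nil .nil)) (.node 125 (.node 0 .nil .nil) .nil)) (.node 919 (.node 873 (.node 87 .nil .nil) (.node 499 .nil .nil)) (.node 118 (.node 781 .nil .nil) .nil))) (.node 0 (.node 0 (.node 342 (.node 647 .nil .nil) (.node 568 .nil .nil)) (.node 0 (.node 970 .nil .nil) .nil)) (.node 0 (.node 0 (.node 657 .nil .nil) (.node 0 .nil .nil)) (.node 918 (.node 386 .nil .nil) .nil)))) (.node 0 (.node 509 (.node 1014 (.node 0 (.node 0 .nil .nil) (.node 760 .nil .nil)) (.node 0 (.node 177 .nil .nil) .nil)) (.node 0 (.node 406 (.node 992 .nil .nil) (.node 323 .nil .nil)) (.node 0 (.node 651 .nil .nil) .nil))) (.node 580 (.node 327 (.node 969 (.node 0 .nil .nil) (.node 116 .nil .nil)) (.node 305 (.node 351 .nil .nil)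 .nil)) (.node 618 (.node 0 (.node 0 .nil .nil) .nil) (.node 641 (.node 465 .nil .nil) .nil))))))) (.node 0 (.node 0 (.node 0 (.node 0 (.node 0 (.node 0 (.node 0 (.node 0 .nil .nil) (.node 76 .nil .nil)) (.node 0 (.node 540 .nil .nil) .nil)) (.node 187 (.node 339 (.node 599 .nil .nil) (.node 0 .nil .nil)) (.node 0 (.node 536 .nil .nil) .nil))) (.node 0 (.node 0 (.node 0 (.node 734 .nil .nil) (.node 0 .nil .nil)) (.node 0 (.node 503 .nil .nil) .nil)) (.node 54 (.node 344 (.node 72 .nil .nil) (.node 91 .nil .nil)) (.node 0 (.node 0 .nil .nil) .nil)))) (.node 372 (.node 648 (.node 0 (.node 691 (.node 66 .nil .nil) (.node 457 .nil .nil)) (.node 350 (.node 0 .nil .nil) .nil)) (.node 544 (.node 0 (.node 439 .nil .nil) (.node 0 .nil .nil)) (.node 708 (.node 690 .nil .nil) .nil))) (.node 534 (.node 189 (.node 775 (.node 78 .nil .nil) (.node 797 .nil .nil)) (.node 819 (.node 0 .nil .nil) .nil)) (.node 0 (.node 963 (.node 0 .nil .nil) (.node 0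 .nil .nil)) (.node 353 (.node 0 .nil .nil) .nil))))) (.node 486 (.node 0 (.node 0 (.node 0 (.node 385 (.node 880 .nil .nil) (.node 0 .nil .nil)) (.node 585 (.node 5 .nil .nil) .nil)) (.node 363 (.node 0 (.node 0 .nil .nil) (.node 128 .nil .nil)) (.node 511 (.node 957 .nil .nil) .nil))) (.node 0 (.node 287 (.node 0 (.node 637 .nil .nil) (.node 188 .nil .nil)) (.node 36 (.node 987 .nil .nil) .nil)) (.node 208 (.node 22 (.node 0 .nil .nil) (.node 0 .nil .nil)) (.node 25 (.node 249 .nil .nil) .nil)))) (.node 0 (.node 0 (.node 0 (.node 0 (.node 908 .nil .nil) (.node 554 .nil .nil)) (.node 0 (.node 0 .nil .nil) .nil)) (.node 69 (.node 0 (.node 731 .nil .nil) (.node 0 .nil .nil)) (.node 104 (.node 0 .nil .nil) .nil))) (.node 210 (.node 650 (.node 71 (.node 0 .nil .nil) (.node 750 .nil .nil)) (.node 964 (.node 825 .nil .nil) .nil)) (.node 0 (.node 801 (.node 610 .nil .nil) (.node 842 .nil .nil)) (.node 0 (.node 0 .nil .nil) .nil)))))) (.node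 165 (.node 295 (.node 506 (.node 0 (.node 47 (.node 0 (.node 0 .nil .nil) (.node 0 .nil .nil)) (.node 470 (.node 901 .nil .nil) .nil)) (.node 349 (.node 1021 (.node 667 .nil .nil) (.node 0 .nil .nil)) (.node 45 (.node 0 .nil .nil) .nil))) (.node 0 (.node 0 (.node 811 (.node 871 .nil .nil) (.node 425 .nil .nil)) (.node 780 (.node 288 .nil .nil) .nil)) (.node 328 (.node 7 (.node 826 .nil .nil) (.node 0 .nil .nil)) (.node 846 (.node 0 .nil .nil) .nil)))) (.node 0 (.node 0 (.node 0 (.node 137 (.node 767 .nil .nil) (.node 0 .nil .nil)) (.node 0 (.node 874 .nil .nil) .nil)) (.node 144 (.node 0 (.node 0 .nil .nil) (.node 318 .nil .nil)) (.node 0 (.node 0 .nil .nil) .nil))) (.node 0 (.node 0 (.node 42 (.node 60 .nil .nil) (.node 881 .nil .nil)) (.node 0 (.node 0 .nil .nil) .nil)) (.node 0 (.node 1004 (.node 0 .nil .nil) (.node 752 .nil .nil)) (.node 929 (.node 383 .nil .nil) .nil))))) (.node 0 (.node 872 (.node 793 (.node 833 (.node 417 (.node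 680 .nil .nil) (.node 0 .nil .nil)) (.node 0 (.node 830 .nil .nil) .nil)) (.node 0 (.node 860 (.node 473 .nil .nil) (.node 0 .nil .nil)) (.node 973 (.node 724 .nil .nil) .nil))) (.node 110 (.node 374 (.node 324 (.node 0 .nil .nil) (.node 153 .nil .nil)) (.node 443 (.node 431 .nil .nil) .nil)) (.node 0 (.node 371 (.node 0 .nil .nil) (.node 839 .nil .nil)) (.node 414 (.node 0 .nil .nil) .nil)))) (.node 981 (.node 0 (.node 0 (.node 0 (.node 0 .nil .nil) (.node 462 .nil .nil)) (.node 526 (.node 0 .nil .nil) .nil)) (.node 0 (.node 0 (.node 986 .nil .nil) (.node 240 .nil .nil)) (.node 161 (.node 0 .nil .nil) .nil))) (.node 0 (.node 0 (.node 0 (.node 678 .nil .nil) (.node 714 .nil .nil)) (.node 0 (.node 155 .nil .nil) .nil)) (.node 508 (.node 0 (.node 0 .nil .nil) .nil) (.node 0 (.node 483 .nil .nil) .nil)))))))) (.node 0 (.node 0 (.node 687 (.node 449 (.node 643 (.node 729 (.node 24 (.node 774 (.node 0 .nil .nil) (.node 977 .nil .nil)) (.node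 446 (.node 428 .nil .nil) .nil)) (.node 0 (.node 444 (.node 999 .nil .nil) (.node 672 .nil .nil)) (.node 57 (.node 131 .nil .nil) .nil))) (.node 122 (.node 0 (.node 0 (.node 33 .nil .nil) (.node 235 .nil .nil)) (.node 0 (.node 962 .nil .nil) .nil)) (.node 0 (.node 0 (.node 913 .nil .nil) (.node 779 .nil .nil)) (.node 0 (.node 627 .nil .nil) .nil)))) (.node 0 (.node 0 (.node 230 (.node 0 (.node 679 .nil .nil) (.node 998 .nil .nil)) (.node 967 (.node 600 .nil .nil) .nil)) (.node 55 (.node 0 (.node 0 .nil .nil) (.node 656 .nil .nil)) (.node 681 (.node 0 .nil .nil) .nil))) (.node 364 (.node 0 (.node 758 (.node 0 .nil .nil) (.node 290 .nil .nil)) (.node 770 (.node 510 .nil .nil) .nil)) (.node 521 (.node 0 (.node 1020 .nil .nil) (.node 108 .nil .nil)) (.node 0 (.node 263 .nil .nil) .nil))))) (.node 84 (.node 0 (.node 61 (.node 0 (.node 367 (.node 0 .nil .nil) (.node 676 .nil .nil)) (.node 0 (.node 796 .nil .nil) .nil)) (.node 0 (.node 59 (.node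 0 .nil .nil) (.node 0 .nil .nil)) (.node 0 (.node 677 .nil .nil) .nil))) (.node 268 (.node 717 (.node 856 (.node 112 .nil .nil) (.node 244 .nil .nil)) (.node 0 (.node 0 .nil .nil) .nil)) (.node 346 (.node 0 (.node 399 .nil .nil) (.node 0 .nil .nil)) (.node 727 (.node 0 .nil .nil) .nil)))) (.node 0 (.node 897 (.node 451 (.node 280 (.node 0 .nil .nil) (.node 931 .nil .nil)) (.node 997 (.node 64 .nil .nil) .nil)) (.node 0 (.node 0 (.node 252 .nil .nil) (.node 593 .nil .nil)) (.node 239 (.node 778 .nil .nil) .nil))) (.node 664 (.node 307 (.node 991 (.node 0 .nil .nil) (.node 0 .nil .nil)) (.node 961 (.node 0 .nil .nil) .nil)) (.node 0 (.node 868 (.node 859 .nil .nil) (.node 0 .nil .nil)) (.node 0 (.node 671 .nil .nil) .nil)))))) (.node 0 (.node 853 (.node 0 (.node 126 (.node 266 (.node 715 (.node 0 .nil .nil) (.node 0 .nil .nil)) (.node 683 (.node 0 .nil .nil) .nil)) (.node 0 (.node 0 (.node 298 .nil .nil) (.node 0 .nil .nil)) (.node 512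 (.node 0 .nil .nil) .nil))) (.node 272 (.node 106 (.node 440 (.node 98 .nil .nil) (.node 365 .nil .nil)) (.node 726 (.node 394 .nil .nil) .nil)) (.node 0 (.node 192 (.node 658 .nil .nil) (.node 0 .nil .nil)) (.node 0 (.node 0 .nil .nil) .nil)))) (.node 0 (.node 117 (.node 0 (.node 0 (.node 936 .nil .nil) (.node 218 .nil .nil)) (.node 0 (.node 28 .nil .nil) .nil)) (.node 722 (.node 455 (.node 1005 .nil .nil) (.node 0 .nil .nil)) (.node 0 (.node 603 .nil .nil) .nil))) (.node 90 (.node 0 (.node 311 (.node 0 .nil .nil) (.node 741 .nil .nil)) (.node 0 (.node 0 .nil .nil) .nil)) (.node 904 (.node 695 (.node 0 .nil .nil) (.node 490 .nil .nil)) (.node 0 (.node 360 .nil .nil) .nil))))) (.node 615 (.node 514 (.node 0 (.node 0 (.node 705 (.node 343 .nil .nil) (.node 524 .nil .nil)) (.node 518 (.node 788 .nil .nil) .nil)) (.node 0 (.node 0 (.node 279 .nil .nil) (.node 373 .nil .nil)) (.node 787 (.node 173 .nil .nil) .nil))) (.node 43 (.node 0 (.node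 234 (.node 943 .nil .nil) (.node 753 .nil .nil)) (.node 97 (.node 1002 .nil .nil) .nil)) (.node 0 (.node 0 (.node 557 .nil .nil) (.node 299 .nil .nil)) (.node 0 (.node 0 .nil .nil) .nil)))) (.node 566 (.node 0 (.node 0 (.node 198 (.node 0 .nil .nil) (.node 728 .nil .nil)) (.node 0 (.node 453 .nil .nil) .nil)) (.node 976 (.node 591 (.node 0 .nil .nil) (.node 347 .nil .nil)) (.node 0 (.node 605 .nil .nil) .nil))) (.node 0 (.node 984 (.node 370 (.node 40 .nil .nil) (.node 0 .nil .nil)) (.node 0 (.node 369 .nil .nil) .nil)) (.node 0 (.node 983 (.node 0 .nil .nil) .nil) (.node 0 (.node 0 .nil .nil) .nil))))))) (.node 0 (.node 879 (.node 0 (.node 0 (.node 70 (.node 0 (.node 0 (.node 535 .nil .nil) (.node 531 .nil .nil)) (.node 0 (.node 430 .nil .nil) .nil)) (.node 0 (.node 866 (.node 876 .nil .nil) (.node 504 .nil .nil)) (.node 0 (.node 0 .nil .nil) .nil))) (.node 0 (.node 0 (.node 277 (.node 882 .nil .nil) (.node 330 .nil .nil)) (.node 958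 (.node 840 .nil .nil) .nil)) (.node 0 (.node 0 (.node 0 .nil .nil) (.node 167 .nil .nil)) (.node 105 (.node 466 .nil .nil) .nil)))) (.node 0 (.node 0 (.node 0 (.node 282 (.node 923 .nil .nil) (.node 725 .nil .nil)) (.node 454 (.node 225 .nil .nil) .nil)) (.node 0 (.node 278 (.node 223 .nil .nil) (.node 653 .nil .nil)) (.node 0 (.node 799 .nil .nil) .nil))) (.node 659 (.node 0 (.node 214 (.node 0 .nil .nil) (.node 1001 .nil .nil)) (.node 301 (.node 491 .nil .nil) .nil)) (.node 0 (.node 0 (.node 0 .nil .nil) (.node 0 .nil .nil)) (.node 0 (.node 237 .nil .nil) .nil))))) (.node 574 (.node 488 (.node 113 (.node 216 (.node 0 (.node 0 .nil .nil) (.node 612 .nil .nil)) (.node 74 (.node 0 .nil .nil) .nil)) (.node 0 (.node 476 (.node 0 .nil .nil) (.node 751 .nil .nil)) (.node 784 (.node 938 .nil .nil) .nil))) (.node 352 (.node 0 (.node 910 (.node 0 .nil .nil) (.node 141 .nil .nil)) (.node 0 (.node 231 .nil .nil) .nil)) (.node 766 (.node 527 (.node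 0 .nil .nil) (.node 309 .nil .nil)) (.node 0 (.node 0 .nil .nil) .nil)))) (.node 267 (.node 757 (.node 1016 (.node 0 (.node 0 .nil .nil) (.node 194 .nil .nil)) (.node 0 (.node 0 .nil .nil) .nil)) (.node 0 (.node 831 (.node 655 .nil .nil) (.node 405 .nil .nil)) (.node 0 (.node 985 .nil .nil) .nil))) (.node 545 (.node 0 (.node 903 (.node 0 .nil .nil) (.node 0 .nil .nil)) (.node 0 (.node 474 .nil .nil) .nil)) (.node 804 (.node 359 (.node 0 .nil .nil) .nil) (.node 0 (.node 956 .nil .nil) .nil)))))) (.node 0 (.node 742 (.node 0 (.node 579 (.node 326 (.node 436 (.node 103 .nil .nil) (.node 954 .nil .nil)) (.node 0 (.node 0 .nil .nil) .nil)) (.node 0 (.node 302 (.node 0 .nil .nil) (.node 0 .nil .nil)) (.node 0 (.node 154 .nil .nil) .nil))) (.node 17 (.node 0 (.node 635 (.node 0 .nil .nil) (.node 460 .nil .nil)) (.node 0 (.node 416 .nil .nil) .nil)) (.node 843 (.node 0 (.node 682 .nil .nil) (.node 0 .nil .nil)) (.node 0 (.node 0 .nil .nil) .nil))))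 (.node 308 (.node 0 (.node 0 (.node 916 (.node 791 .nil .nil) (.node 186 .nil .nil)) (.node 845 (.node 746 .nil .nil) .nil)) (.node 0 (.node 0 (.node 14 .nil .nil) (.node 917 .nil .nil)) (.node 310 (.node 0 .nil .nil) .nil))) (.node 502 (.node 666 (.node 949 (.node 0 .nil .nil) (.node 0 .nil .nil)) (.node 0 (.node 456 .nil .nil) .nil)) (.node 590 (.node 358 (.node 0 .nil .nil) (.node 93 .nil .nil)) (.node 607 (.node 0 .nil .nil) .nil))))) (.node 0 (.node 1023 (.node 1015 (.node 0 (.node 525 (.node 389 .nil .nil) (.node 820 .nil .nil)) (.node 176 (.node 0 .nil .nil) .nil)) (.node 0 (.node 920 (.node 0 .nil .nil) (.node 631 .nil .nil)) (.node 498 (.node 864 .nil .nil) .nil))) (.node 441 (.node 654 (.node 571 (.node 395 .nil .nil) (.node 713 .nil .nil)) (.node 834 (.node 0 .nil .nil) .nil)) (.node 8 (.node 815 (.node 29 .nil .nil) (.node 0 .nil .nil)) (.node 0 (.node 0 .nil .nil) .nil)))) (.node 835 (.node 541 (.node 765 (.node 0 (.node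 0 .nil .nil) (.node 718 .nil .nil)) (.node 336 (.node 0 .nil .nil) .nil)) (.node 354 (.node 0 (.node 744 .nil .nil) (.node 434 .nil .nil)) (.node 847 (.node 0 .nil .nil) .nil))) (.node 0 (.node 0 (.node 0 (.node 142 .nil .nil) (.node 0 .nil .nil)) (.node 0 (.node 893 .nil .nil) .nil)) (.node 0 (.node 0 (.node 403 .nil .nil) .nil) (.node 630 (.node 966 .nil .nil) .nil)))))))))

/-- Data. -/
noncomputable def pos2 : Arr (ℕ) := (.node 673 pos2_0 pos2_1)

/-- Data. -/
noncomputable def words3 : Arr (List ℕ) := (.node [] (.node [19] (.node [21] (.node [21,19] (.node [19,21] (.node [20,24] (.node [23,22,20] (.node [22,20,21,19] .nil .nil) .nil) (.node [24,20,22] (.node [24,20,22,20] .nil .nil) .nil)) (.node [21,23,19] (.node [23,20,21] (.node [24,20,23,19] .nil .nil) .nil) (.node [24,21,23] (.node [22,24,19,21,19] .nil .nil) .nil))) (.node [23,22] (.node [24,21,19] (.node [20,24,20] (.node [23,20,22,19] .nil .nil) .nil) (.node [24,24,22] (.node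 [22,24,19,21] .nil .nil) .nil)) (.node [19,21,20] (.node [22,23,21] (.node [23,19,21,20] .nil .nil) .nil) (.node [23,20,24] .nil .nil)))) (.node [21,20] (.node [24,21] (.node [19,21,19] (.node [21,23,20] (.node [22,23,21,19] .nil .nil) .nil) (.node [20,23,22] (.node [19,21,24,20] .nil .nil) .nil)) (.node [20,24,19] (.node [24,21,21] (.node [23,21,24,19] .nil .nil) .nil) (.node [20,23,23] (.node [23,22,20,21,20] .nil .nil) .nil))) (.node [21,23] (.node [23,22,19] (.node [22,19,21] (.node [23,19,23,19] .nil .nil) .nil) (.node [22,20,23] (.node [24,21,23,21] .nil .nil) .nil)) (.node [24,21,20] (.node [24,24,21] (.node [22,23,21,20] .nil .nil) .nil) (.node [23,22,24] .nil .nil))))) (.node [23] (.node [23,19] (.node [21,21] (.node [22,24] (.node [19,23,20] (.node [24,20,21,19] .nil .nil) .nil) (.node [24,22,22] (.node [23,19,24,20] .nil .nil) .nil)) (.node [23,23,19] (.node [21,21,21] (.node [23,20,24,19] .nil .nil) .nil) (.node [23,22,23]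 (.node [24,22,20,21,19] .nil .nil) .nil))) (.node [19,23] (.node [20,22,19] (.node [22,24,20] (.node [23,22,22,19] .nil .nil) .nil) (.node [24,19,23] (.node [24,22,20,21] .nil .nil) .nil)) (.node [21,21,20] (.node [21,24,21] (.node [22,20,21,20] .nil .nil) .nil) (.node [23,21,24] .nil .nil)))) (.node [23,20] (.node [20,22] (.node [21,21,19] (.node [23,23,20] (.node [23,19,22,19] .nil .nil) .nil) (.node [19,24,22] (.node [23,23,19,21] .nil .nil) .nil)) (.node [22,24,19] (.node [20,23,21] (.node [23,22,24,19] .nil .nil) .nil) (.node [22,19,24] .nil .nil))) (.node [23,23] (.node [19,23,19] (.node [24,19,21] (.node [21,20,23,19] .nil .nil) .nil) (.node [20,21,23] (.node [24,22,23,21] .nil .nil) .nil)) (.node [20,22,20] (.node [24,19,22] (.node [23,19,22,20] .nil .nil) .nil) (.node [23,19,21,19] .nil .nil)))))) (.node [20] (.node [22] (.node [22,19] (.node [20,21] (.node [21,24] (.node [24,22,20] (.node [23,20,21,19] .nil .nil) .nil) (.node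 [23,22,22] (.node [22,24,22,20] .nil .nil) .nil)) (.node [22,23,19] (.node [24,20,21] (.node [23,19,24,19] .nil .nil) .nil) (.node [20,22,23] (.node [23,22,20,21,19] .nil .nil) .nil))) (.node [24,22] (.node [19,22,19] (.node [21,24,20] (.node [24,20,22,19] .nil .nil) .nil) (.node [23,19,23] (.node [23,22,20,21] .nil .nil) .nil)) (.node [20,21,20] (.node [19,24,21] (.node [24,19,21,20] .nil .nil) .nil) (.node [19,21,24] .nil .nil)))) (.node [22,20] (.node [19,22] (.node [20,21,19] (.node [22,23,20] (.node [21,24,21,19] .nil .nil) .nil) (.node [22,23,22] (.node [19,22,24,20] .nil .nil) .nil)) (.node [21,24,19] (.node [19,23,21] (.node [19,22,24,19] .nil .nil) .nil) (.node [21,19,24] .nil .nil))) (.node [22,23] (.node [24,22,19] (.node [23,19,21] (.node [24,19,23,19] .nil .nil) .nil) (.node [24,20,23] (.node [23,22,23,21] .nil .nil) .nil)) (.node [19,22,20] (.node [23,19,22] (.node [21,24,21,20] .nil .nil) .nil) (.node [19,24,24] .nil .nil)))))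 (.node [24] (.node [24,19] (.node [23,21] (.node [24,24] (.node [20,23,20] (.node [23,21,21,19] .nil .nil) .nil) (.node [19,23,22] (.node [23,20,24,20] .nil .nil) .nil)) (.node [19,24,19] (.node [23,21,21] (.node [19,21,24,19] .nil .nil) .nil) (.node [24,22,23] (.node [19,24,20,21,19] .nil .nil) .nil))) (.node [20,23] (.node [22,22,19] (.node [24,24,20] (.node [22,24,22,19] .nil .nil) .nil) (.node [21,20,23] (.node [19,24,20,21] .nil .nil) .nil)) (.node [23,21,20] (.node [22,24,21] (.node [24,20,21,20] .nil .nil) .nil) (.node [19,22,24] .nil .nil)))) (.node [24,20] (.node [22,22] (.node [23,21,19] (.node [19,24,20] (.node [24,19,22,19] .nil .nil) .nil) (.node [22,24,22] (.node [21,24,19,21] .nil .nil) .nil)) (.node [24,24,19] (.node [21,23,21] (.node [19,24,24,19] .nil .nil) .nil) (.node [23,19,24] .nil .nil))) (.node [19,24] (.node [20,23,19] (.node [22,20,21] (.node [22,20,23,19] .nil .nil) .nil) (.node [23,21,23] (.node [21,24,19,21,19]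 .nil .nil) .nil)) (.node [22,22,20] (.node [23,20,22] (.node [24,19,22,20] .nil .nil) .nil) (.node [24,19,21,19] .nil .nil)))))))

/-- Data. -/
noncomputable def pos3_0 : Arr (ℕ) := (.node 0 (.node 0 (.node 0 (.node 0 (.node 13 (.node 0 (.node 0 (.node 0 (.node 0 (.node 0 .nil .nil) (.node 96 .nil .nil)) (.node 0 (.node 0 .nil .nil) .nil)) (.node 0 (.node 0 (.node 0 .nil .nil) (.node 0 .nil .nil)) (.node 0 (.node 0 .nil .nil) .nil))) (.node 0 (.node 0 (.node 0 (.node 0 .nil .nil) (.node 0 .nil .nil)) (.node 0 (.node 0 .nil .nil) .nil)) (.node 0 (.node 0 (.node 0 .nil .nil) (.node 0 .nil .nil)) (.node 0 (.node 0 .nil .nil) .nil)))) (.node 0 (.node 0 (.node 125 (.node 0 (.node 0 .nil .nil) (.node 0 .nil .nil)) (.node 0 (.node 0 .nil .nil) .nil)) (.node 0 (.node 0 (.node 0 .nil .nil) (.node 0 .nil .nil)) (.node 0 (.node 0 .nil .nil) .nil))) (.node 0 (.node 0 (.node 0 (.node 0 .nil .nil) (.node 0 .nil .nil)) (.node 0 (.node 0 .nil .nil)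 .nil)) (.node 0 (.node 0 (.node 0 .nil .nil) (.node 0 .nil .nil)) (.node 0 (.node 0 .nil .nil) .nil))))) (.node 0 (.node 0 (.node 0 (.node 0 (.node 0 (.node 0 .nil .nil) (.node 0 .nil .nil)) (.node 0 (.node 0 .nil .nil) .nil)) (.node 0 (.node 0 (.node 0 .nil .nil) (.node 0 .nil .nil)) (.node 0 (.node 0 .nil .nil) .nil))) (.node 0 (.node 0 (.node 74 (.node 0 .nil .nil) (.node 0 .nil .nil)) (.node 0 (.node 0 .nil .nil) .nil)) (.node 0 (.node 22 (.node 0 .nil .nil) (.node 0 .nil .nil)) (.node 0 (.node 0 .nil .nil) .nil)))) (.node 0 (.node 0 (.node 0 (.node 143 (.node 158 .nil .nil) (.node 0 .nil .nil)) (.node 0 (.node 0 .nil .nil) .nil)) (.node 0 (.node 0 (.node 0 .nil .nil) (.node 0 .nil .nil)) (.node 0 (.node 0 .nil .nil) .nil))) (.node 0 (.node 7 (.node 0 (.node 0 .nil .nil) (.node 9 .nil .nil)) (.node 0 (.node 0 .nil .nil) .nil)) (.node 0 (.node 0 (.node 0 .nil .nil) (.node 4 .nil .nil)) (.node 0 (.node 0 .nil .nil) .nil)))))) (.node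 0 (.node 0 (.node 0 (.node 0 (.node 0 (.node 0 (.node 0 .nil .nil) (.node 0 .nil .nil)) (.node 0 (.node 0 .nil .nil) .nil)) (.node 0 (.node 0 (.node 153 .nil .nil) (.node 0 .nil .nil)) (.node 0 (.node 0 .nil .nil) .nil))) (.node 0 (.node 0 (.node 0 (.node 0 .nil .nil) (.node 0 .nil .nil)) (.node 0 (.node 0 .nil .nil) .nil)) (.node 0 (.node 0 (.node 0 .nil .nil) (.node 0 .nil .nil)) (.node 0 (.node 0 .nil .nil) .nil)))) (.node 0 (.node 0 (.node 0 (.node 0 (.node 0 .nil .nil) (.node 0 .nil .nil)) (.node 144 (.node 0 .nil .nil) .nil)) (.node 0 (.node 0 (.node 0 .nil .nil) (.node 0 .nil .nil)) (.node 0 (.node 0 .nil .nil) .nil))) (.node 0 (.node 0 (.node 0 (.node 0 .nil .nil) (.node 0 .nil .nil)) (.node 160 (.node 0 .nil .nil) .nil)) (.node 0 (.node 0 (.node 0 .nil .nil) (.node 0 .nil .nil)) (.node 97 (.node 0 .nil .nil) .nil))))) (.node 0 (.node 0 (.node 0 (.node 0 (.node 0 (.node 0 .nil .nil) (.node 0 .nil .nil)) (.node 0 (.node 0 .nil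 .nil) .nil)) (.node 0 (.node 0 (.node 0 .nil .nil) (.node 0 .nil .nil)) (.node 0 (.node 0 .nil .nil) .nil))) (.node 0 (.node 0 (.node 0 (.node 27 .nil .nil) (.node 0 .nil .nil)) (.node 0 (.node 0 .nil .nil) .nil)) (.node 0 (.node 0 (.node 0 .nil .nil) (.node 38 .nil .nil)) (.node 0 (.node 0 .nil .nil) .nil)))) (.node 0 (.node 0 (.node 0 (.node 0 (.node 0 .nil .nil) (.node 0 .nil .nil)) (.node 0 (.node 0 .nil .nil) .nil)) (.node 0 (.node 0 (.node 0 .nil .nil) (.node 0 .nil .nil)) (.node 0 (.node 0 .nil .nil) .nil))) (.node 0 (.node 0 (.node 0 (.node 0 .nil .nil) (.node 0 .nil .nil)) (.node 66 (.node 0 .nil .nil) .nil)) (.node 0 (.node 0 (.node 0 .nil .nil) .nil) (.node 0 (.node 0 .nil .nil) .nil))))))) (.node 0 (.node 0 (.node 164 (.node 0 (.node 0 (.node 0 (.node 0 (.node 0 .nil .nil) (.node 169 .nil .nil)) (.node 0 (.node 0 .nil .nil) .nil)) (.node 0 (.node 0 (.node 0 .nil .nil) (.node 0 .nil .nil)) (.node 0 (.node 0 .nil .nil) .nil)))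 (.node 0 (.node 0 (.node 0 (.node 0 .nil .nil) (.node 0 .nil .nil)) (.node 0 (.node 0 .nil .nil) .nil)) (.node 0 (.node 0 (.node 0 .nil .nil) (.node 0 .nil .nil)) (.node 0 (.node 0 .nil .nil) .nil)))) (.node 0 (.node 119 (.node 0 (.node 0 (.node 0 .nil .nil) (.node 0 .nil .nil)) (.node 0 (.node 0 .nil .nil) .nil)) (.node 0 (.node 0 (.node 0 .nil .nil) (.node 0 .nil .nil)) (.node 0 (.node 0 .nil .nil) .nil))) (.node 0 (.node 0 (.node 0 (.node 0 .nil .nil) (.node 0 .nil .nil)) (.node 0 (.node 0 .nil .nil) .nil)) (.node 0 (.node 0 (.node 0 .nil .nil) (.node 0 .nil .nil)) (.node 0 (.node 0 .nil .nil) .nil))))) (.node 0 (.node 0 (.node 0 (.node 0 (.node 0 (.node 0 .nil .nil) (.node 0 .nil .nil)) (.node 0 (.node 0 .nil .nil) .nil)) (.node 0 (.node 0 (.node 0 .nil .nil) (.node 0 .nil .nil)) (.node 3 (.node 47 .nil .nil) .nil))) (.node 0 (.node 0 (.node 0 (.node 0 .nil .nil) (.node 0 .nil .nil)) (.node 0 (.node 0 .nil .nil) .nil)) (.node 0 (.node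 0 (.node 0 .nil .nil) (.node 0 .nil .nil)) (.node 0 (.node 0 .nil .nil) .nil)))) (.node 0 (.node 0 (.node 0 (.node 0 (.node 0 .nil .nil) (.node 0 .nil .nil)) (.node 0 (.node 0 .nil .nil) .nil)) (.node 0 (.node 0 (.node 0 .nil .nil) (.node 0 .nil .nil)) (.node 0 (.node 0 .nil .nil) .nil))) (.node 0 (.node 0 (.node 0 (.node 0 .nil .nil) (.node 0 .nil .nil)) (.node 0 (.node 0 .nil .nil) .nil)) (.node 0 (.node 0 (.node 0 .nil .nil) (.node 0 .nil .nil)) (.node 0 (.node 0 .nil .nil) .nil)))))) (.node 75 (.node 0 (.node 0 (.node 0 (.node 0 (.node 0 (.node 0 .nil .nil) (.node 0 .nil .nil)) (.node 0 (.node 0 .nil .nil) .nil)) (.node 21 (.node 0 (.node 0 .nil .nil) (.node 0 .nil .nil)) (.node 0 (.node 0 .nil .nil) .nil))) (.node 148 (.node 0 (.node 0 (.node 0 .nil .nil) (.node 0 .nil .nil)) (.node 0 (.node 0 .nil .nil) .nil)) (.node 0 (.node 0 (.node 0 .nil .nil) (.node 24 .nil .nil)) (.node 72 (.node 81 .nil .nil) .nil)))) (.node 0 (.node 172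 (.node 0 (.node 0 (.node 83 .nil .nil) (.node 0 .nil .nil)) (.node 0 (.node 166 .nil .nil) .nil)) (.node 0 (.node 0 (.node 46 .nil .nil) (.node 25 .nil .nil)) (.node 0 (.node 0 .nil .nil) .nil))) (.node 0 (.node 0 (.node 19 (.node 0 .nil .nil) (.node 0 .nil .nil)) (.node 0 (.node 0 .nil .nil) .nil)) (.node 0 (.node 0 (.node 0 .nil .nil) (.node 0 .nil .nil)) (.node 126 (.node 0 .nil .nil) .nil))))) (.node 0 (.node 0 (.node 0 (.node 0 (.node 0 (.node 0 .nil .nil) (.node 0 .nil .nil)) (.node 0 (.node 0 .nil .nil) .nil)) (.node 0 (.node 0 (.node 0 .nil .nil) (.node 0 .nil .nil)) (.node 0 (.node 0 .nil .nil) .nil))) (.node 0 (.node 0 (.node 0 (.node 0 .nil .nil) (.node 0 .nil .nil)) (.node 0 (.node 0 .nil .nil) .nil)) (.node 0 (.node 0 (.node 0 .nil .nil) (.node 129 .nil .nil)) (.node 0 (.node 0 .nil .nil) .nil)))) (.node 0 (.node 0 (.node 0 (.node 0 (.node 0 .nil .nil) (.node 0 .nil .nil)) (.node 0 (.node 0 .nil .nil) .nil)) (.node 0 (.node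 0 (.node 0 .nil .nil) (.node 0 .nil .nil)) (.node 0 (.node 0 .nil .nil) .nil))) (.node 0 (.node 80 (.node 0 (.node 0 .nil .nil) (.node 0 .nil .nil)) (.node 0 (.node 14 .nil .nil) .nil)) (.node 0 (.node 34 (.node 0 .nil .nil) .nil) (.node 132 (.node 0 .nil .nil) .nil)))))))) (.node 152 (.node 0 (.node 0 (.node 109 (.node 0 (.node 0 (.node 117 (.node 0 (.node 65 .nil .nil) (.node 0 .nil .nil)) (.node 0 (.node 0 .nil .nil) .nil)) (.node 0 (.node 0 (.node 0 .nil .nil) (.node 0 .nil .nil)) (.node 0 (.node 0 .nil .nil) .nil))) (.node 0 (.node 0 (.node 0 (.node 0 .nil .nil) (.node 0 .nil .nil)) (.node 0 (.node 0 .nil .nil) .nil)) (.node 0 (.node 0 (.node 0 .nil .nil) (.node 0 .nil .nil)) (.node 0 (.node 0 .nil .nil) .nil)))) (.node 0 (.node 0 (.node 0 (.node 0 (.node 0 .nil .nil) (.node 0 .nil .nil)) (.node 0 (.node 0 .nil .nil) .nil)) (.node 0 (.node 0 (.node 0 .nil .nil) (.node 0 .nil .nil)) (.node 0 (.node 0 .nil .nil) .nil))) (.node 0 (.node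 0 (.node 0 (.node 0 .nil .nil) (.node 0 .nil .nil)) (.node 0 (.node 33 .nil .nil) .nil)) (.node 0 (.node 0 (.node 0 .nil .nil) (.node 0 .nil .nil)) (.node 0 (.node 0 .nil .nil) .nil))))) (.node 0 (.node 0 (.node 0 (.node 0 (.node 0 (.node 0 .nil .nil) (.node 0 .nil .nil)) (.node 0 (.node 0 .nil .nil) .nil)) (.node 0 (.node 0 (.node 52 .nil .nil) (.node 0 .nil .nil)) (.node 0 (.node 0 .nil .nil) .nil))) (.node 0 (.node 0 (.node 0 (.node 0 .nil .nil) (.node 0 .nil .nil)) (.node 0 (.node 0 .nil .nil) .nil)) (.node 76 (.node 0 (.node 0 .nil .nil) (.node 0 .nil .nil)) (.node 0 (.node 0 .nil .nil) .nil)))) (.node 0 (.node 0 (.node 0 (.node 0 (.node 0 .nil .nil) (.node 0 .nil .nil)) (.node 0 (.node 133 .nil .nil) .nil)) (.node 0 (.node 0 (.node 0 .nil .nil) (.node 0 .nil .nil)) (.node 0 (.node 0 .nil .nil) .nil))) (.node 0 (.node 142 (.node 0 (.node 0 .nil .nil) (.node 0 .nil .nil)) (.node 0 (.node 165 .nil .nil) .nil)) (.node 145 (.node 0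 (.node 0 .nil .nil) (.node 0 .nil .nil)) (.node 0 (.node 0 .nil .nil) .nil)))))) (.node 0 (.node 0 (.node 0 (.node 0 (.node 0 (.node 0 (.node 0 .nil .nil) (.node 0 .nil .nil)) (.node 0 (.node 0 .nil .nil) .nil)) (.node 0 (.node 0 (.node 0 .nil .nil) (.node 0 .nil .nil)) (.node 0 (.node 0 .nil .nil) .nil))) (.node 0 (.node 0 (.node 0 (.node 0 .nil .nil) (.node 0 .nil .nil)) (.node 111 (.node 0 .nil .nil) .nil)) (.node 0 (.node 0 (.node 0 .nil .nil) (.node 0 .nil .nil)) (.node 0 (.node 0 .nil .nil) .nil)))) (.node 0 (.node 0 (.node 0 (.node 0 (.node 0 .nil .nil) (.node 0 .nil .nil)) (.node 0 (.node 0 .nil .nil) .nil)) (.node 0 (.node 0 (.node 0 .nil .nil) (.node 0 .nil .nil)) (.node 0 (.node 0 .nil .nil) .nil))) (.node 0 (.node 0 (.node 0 (.node 0 .nil .nil) (.node 0 .nil .nil)) (.node 0 (.node 0 .nil .nil) .nil)) (.node 0 (.node 0 (.node 0 .nil .nil) (.node 0 .nil .nil)) (.node 0 (.node 0 .nil .nil) .nil))))) (.node 0 (.node 0 (.node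 0 (.node 0 (.node 0 (.node 0 .nil .nil) (.node 0 .nil .nil)) (.node 57 (.node 162 .nil .nil) .nil)) (.node 0 (.node 0 (.node 0 .nil .nil) (.node 0 .nil .nil)) (.node 0 (.node 0 .nil .nil) .nil))) (.node 0 (.node 0 (.node 0 (.node 0 .nil .nil) (.node 0 .nil .nil)) (.node 0 (.node 0 .nil .nil) .nil)) (.node 0 (.node 0 (.node 0 .nil .nil) (.node 0 .nil .nil)) (.node 0 (.node 0 .nil .nil) .nil)))) (.node 0 (.node 0 (.node 0 (.node 0 (.node 0 .nil .nil) (.node 0 .nil .nil)) (.node 0 (.node 69 .nil .nil) .nil)) (.node 0 (.node 0 (.node 0 .nil .nil) (.node 35 .nil .nil)) (.node 0 (.node 0 .nil .nil) .nil))) (.node 0 (.node 0 (.node 0 (.node 0 .nil .nil) (.node 0 .nil .nil)) (.node 0 (.node 0 .nil .nil) .nil)) (.node 0 (.node 0 (.node 0 .nil .nil) .nil) (.node 0 (.node 82 .nil .nil) .nil))))))) (.node 0 (.node 0 (.node 0 (.node 0 (.node 0 (.node 0 (.node 0 (.node 0 .nil .nil) (.node 139 .nil .nil)) (.node 0 (.node 0 .nil .nil) .nil)) (.node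 0 (.node 0 (.node 115 .nil .nil) (.node 0 .nil .nil)) (.node 0 (.node 0 .nil .nil) .nil))) (.node 0 (.node 0 (.node 0 (.node 0 .nil .nil) (.node 131 .nil .nil)) (.node 0 (.node 58 .nil .nil) .nil)) (.node 0 (.node 0 (.node 0 .nil .nil) (.node 0 .nil .nil)) (.node 0 (.node 136 .nil .nil) .nil)))) (.node 0 (.node 0 (.node 0 (.node 0 (.node 0 .nil .nil) (.node 98 .nil .nil)) (.node 0 (.node 0 .nil .nil) .nil)) (.node 0 (.node 0 (.node 0 .nil .nil) (.node 0 .nil .nil)) (.node 0 (.node 151 .nil .nil) .nil))) (.node 0 (.node 106 (.node 0 (.node 60 .nil .nil) (.node 0 .nil .nil)) (.node 0 (.node 0 .nil .nil) .nil)) (.node 0 (.node 0 (.node 0 .nil .nil) (.node 0 .nil .nil)) (.node 137 (.node 0 .nil .nil) .nil))))) (.node 0 (.node 0 (.node 0 (.node 0 (.node 0 (.node 0 .nil .nil) (.node 0 .nil .nil)) (.node 0 (.node 0 .nil .nil) .nil)) (.node 0 (.node 0 (.node 0 .nil .nil) (.node 0 .nil .nil)) (.node 0 (.node 0 .nil .nil) .nil))) (.node 0 (.node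 0 (.node 0 (.node 159 .nil .nil) (.node 0 .nil .nil)) (.node 77 (.node 0 .nil .nil) .nil)) (.node 0 (.node 0 (.node 0 .nil .nil) (.node 0 .nil .nil)) (.node 0 (.node 0 .nil .nil) .nil)))) (.node 0 (.node 85 (.node 0 (.node 0 (.node 0 .nil .nil) (.node 0 .nil .nil)) (.node 0 (.node 0 .nil .nil) .nil)) (.node 0 (.node 0 (.node 0 .nil .nil) (.node 0 .nil .nil)) (.node 0 (.node 0 .nil .nil) .nil))) (.node 171 (.node 0 (.node 0 (.node 0 .nil .nil) (.node 130 .nil .nil)) (.node 0 (.node 0 .nil .nil) .nil)) (.node 0 (.node 59 (.node 0 .nil .nil) (.node 0 .nil .nil)) (.node 0 (.node 0 .nil .nil) .nil)))))) (.node 0 (.node 0 (.node 0 (.node 0 (.node 0 (.node 0 (.node 0 .nil .nil) (.node 0 .nil .nil)) (.node 0 (.node 0 .nil .nil) .nil)) (.node 0 (.node 0 (.node 0 .nil .nil) (.node 0 .nil .nil)) (.node 0 (.node 0 .nil .nil) .nil))) (.node 0 (.node 0 (.node 90 (.node 174 .nil .nil) (.node 0 .nil .nil)) (.node 0 (.node 0 .nil .nil) .nil)) (.node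 0 (.node 0 (.node 0 .nil .nil) (.node 0 .nil .nil)) (.node 0 (.node 36 .nil .nil) .nil)))) (.node 0 (.node 140 (.node 0 (.node 0 (.node 0 .nil .nil) (.node 0 .nil .nil)) (.node 0 (.node 0 .nil .nil) .nil)) (.node 0 (.node 0 (.node 0 .nil .nil) (.node 105 .nil .nil)) (.node 0 (.node 0 .nil .nil) .nil))) (.node 0 (.node 0 (.node 0 (.node 0 .nil .nil) (.node 0 .nil .nil)) (.node 0 (.node 0 .nil .nil) .nil)) (.node 51 (.node 0 (.node 0 .nil .nil) (.node 0 .nil .nil)) (.node 0 (.node 8 .nil .nil) .nil))))) (.node 0 (.node 11 (.node 0 (.node 0 (.node 0 (.node 0 .nil .nil) (.node 0 .nil .nil)) (.node 0 (.node 0 .nil .nil) .nil)) (.node 0 (.node 0 (.node 0 .nil .nil) (.node 161 .nil .nil)) (.node 0 (.node 0 .nil .nil) .nil))) (.node 0 (.node 0 (.node 0 (.node 0 .nil .nil) (.node 0 .nil .nil)) (.node 0 (.node 0 .nil .nil) .nil)) (.node 0 (.node 0 (.node 0 .nil .nil) (.node 0 .nil .nil)) (.node 0 (.node 0 .nil .nil) .nil)))) (.node 0 (.node 0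 (.node 0 (.node 0 (.node 0 .nil .nil) (.node 0 .nil .nil)) (.node 113 (.node 0 .nil .nil) .nil)) (.node 30 (.node 0 (.node 0 .nil .nil) (.node 0 .nil .nil)) (.node 0 (.node 0 .nil .nil) .nil))) (.node 39 (.node 0 (.node 0 (.node 0 .nil .nil) (.node 0 .nil .nil)) (.node 0 (.node 0 .nil .nil) .nil)) (.node 0 (.node 0 (.node 0 .nil .nil) .nil) (.node 0 (.node 0 .nil .nil) .nil)))))))))

/-- Data. -/
noncomputable def pos3_1 : Arr (ℕ) := (.node 0 (.node 0 (.node 0 (.node 0 (.node 0 (.node 0 (.node 2 (.node 0 (.node 10 (.node 0 .nil .nil) (.node 0 .nil .nil)) (.node 0 (.node 0 .nil .nil) .nil)) (.node 0 (.node 0 (.node 0 .nil .nil) (.node 0 .nil .nil)) (.node 0 (.node 0 .nil .nil) .nil))) (.node 0 (.node 0 (.node 0 (.node 0 .nil .nil) (.node 116 .nil .nil)) (.node 0 (.node 0 .nil .nil) .nil)) (.node 0 (.node 0 (.node 0 .nil .nil) (.node 0 .nil .nil)) (.node 0 (.node 50 .nil .nil) .nil)))) (.node 0 (.node 149 (.node 0 (.node 0 (.node 0 .nil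 .nil) (.node 0 .nil .nil)) (.node 0 (.node 0 .nil .nil) .nil)) (.node 0 (.node 0 (.node 0 .nil .nil) (.node 0 .nil .nil)) (.node 0 (.node 0 .nil .nil) .nil))) (.node 0 (.node 107 (.node 0 (.node 0 .nil .nil) (.node 100 .nil .nil)) (.node 0 (.node 0 .nil .nil) .nil)) (.node 0 (.node 0 (.node 89 .nil .nil) (.node 0 .nil .nil)) (.node 0 (.node 163 .nil .nil) .nil))))) (.node 0 (.node 92 (.node 0 (.node 0 (.node 0 (.node 0 .nil .nil) (.node 0 .nil .nil)) (.node 64 (.node 0 .nil .nil) .nil)) (.node 0 (.node 0 (.node 0 .nil .nil) (.node 101 .nil .nil)) (.node 0 (.node 0 .nil .nil) .nil))) (.node 0 (.node 0 (.node 0 (.node 0 .nil .nil) (.node 0 .nil .nil)) (.node 0 (.node 70 .nil .nil) .nil)) (.node 0 (.node 0 (.node 0 .nil .nil) (.node 146 .nil .nil)) (.node 0 (.node 0 .nil .nil) .nil)))) (.node 0 (.node 0 (.node 0 (.node 73 (.node 0 .nil .nil) (.node 0 .nil .nil)) (.node 0 (.node 0 .nil .nil) .nil)) (.node 0 (.node 0 (.node 0 .nil .nil) (.node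 0 .nil .nil)) (.node 0 (.node 0 .nil .nil) .nil))) (.node 0 (.node 0 (.node 0 (.node 0 .nil .nil) (.node 0 .nil .nil)) (.node 0 (.node 15 .nil .nil) .nil)) (.node 0 (.node 0 (.node 0 .nil .nil) (.node 0 .nil .nil)) (.node 0 (.node 0 .nil .nil) .nil)))))) (.node 0 (.node 0 (.node 0 (.node 0 (.node 18 (.node 0 (.node 0 .nil .nil) (.node 0 .nil .nil)) (.node 0 (.node 0 .nil .nil) .nil)) (.node 0 (.node 0 (.node 0 .nil .nil) (.node 0 .nil .nil)) (.node 112 (.node 0 .nil .nil) .nil))) (.node 0 (.node 0 (.node 0 (.node 0 .nil .nil) (.node 86 .nil .nil)) (.node 0 (.node 0 .nil .nil) .nil)) (.node 0 (.node 0 (.node 0 .nil .nil) (.node 0 .nil .nil)) (.node 0 (.node 0 .nil .nil) .nil)))) (.node 0 (.node 0 (.node 0 (.node 0 (.node 0 .nil .nil) (.node 0 .nil .nil)) (.node 0 (.node 0 .nil .nil) .nil)) (.node 0 (.node 0 (.node 0 .nil .nil) (.node 0 .nil .nil)) (.node 0 (.node 0 .nil .nil) .nil))) (.node 0 (.node 0 (.node 0 (.node 0 .nil .nil) (.node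 0 .nil .nil)) (.node 0 (.node 0 .nil .nil) .nil)) (.node 0 (.node 0 (.node 0 .nil .nil) (.node 0 .nil .nil)) (.node 0 (.node 0 .nil .nil) .nil))))) (.node 0 (.node 0 (.node 0 (.node 0 (.node 0 (.node 0 .nil .nil) (.node 0 .nil .nil)) (.node 0 (.node 0 .nil .nil) .nil)) (.node 0 (.node 0 (.node 0 .nil .nil) (.node 0 .nil .nil)) (.node 154 (.node 173 .nil .nil) .nil))) (.node 0 (.node 0 (.node 0 (.node 0 .nil .nil) (.node 0 .nil .nil)) (.node 0 (.node 0 .nil .nil) .nil)) (.node 0 (.node 0 (.node 0 .nil .nil) (.node 0 .nil .nil)) (.node 0 (.node 45 .nil .nil) .nil)))) (.node 0 (.node 0 (.node 0 (.node 0 (.node 0 .nil .nil) (.node 0 .nil .nil)) (.node 0 (.node 0 .nil .nil) .nil)) (.node 0 (.node 0 (.node 0 .nil .nil) (.node 0 .nil .nil)) (.node 0 (.node 0 .nil .nil) .nil))) (.node 55 (.node 0 (.node 0 (.node 0 .nil .nil) (.node 54 .nil .nil)) (.node 0 (.node 0 .nil .nil) .nil)) (.node 0 (.node 0 (.node 0 .nil .nil) .nil) (.node 0 (.node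 0 .nil .nil) .nil))))))) (.node 0 (.node 0 (.node 0 (.node 0 (.node 0 (.node 0 (.node 0 (.node 0 .nil .nil) (.node 0 .nil .nil)) (.node 0 (.node 0 .nil .nil) .nil)) (.node 0 (.node 0 (.node 0 .nil .nil) (.node 0 .nil .nil)) (.node 0 (.node 0 .nil .nil) .nil))) (.node 0 (.node 0 (.node 0 (.node 0 .nil .nil) (.node 0 .nil .nil)) (.node 0 (.node 0 .nil .nil) .nil)) (.node 0 (.node 0 (.node 5 .nil .nil) (.node 0 .nil .nil)) (.node 0 (.node 0 .nil .nil) .nil)))) (.node 122 (.node 0 (.node 0 (.node 0 (.node 0 .nil .nil) (.node 0 .nil .nil)) (.node 0 (.node 0 .nil .nil) .nil)) (.node 0 (.node 0 (.node 0 .nil .nil) (.node 0 .nil .nil)) (.node 0 (.node 0 .nil .nil) .nil))) (.node 0 (.node 0 (.node 0 (.node 0 .nil .nil) (.node 0 .nil .nil)) (.node 0 (.node 0 .nil .nil) .nil)) (.node 0 (.node 0 (.node 0 .nil .nil) (.node 0 .nil .nil)) (.node 0 (.node 0 .nil .nil) .nil))))) (.node 0 (.node 0 (.node 0 (.node 0 (.node 26 (.node 0 .nil .nil) (.node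 0 .nil .nil)) (.node 0 (.node 0 .nil .nil) .nil)) (.node 0 (.node 0 (.node 0 .nil .nil) (.node 0 .nil .nil)) (.node 0 (.node 0 .nil .nil) .nil))) (.node 0 (.node 108 (.node 0 (.node 0 .nil .nil) (.node 0 .nil .nil)) (.node 0 (.node 0 .nil .nil) .nil)) (.node 0 (.node 28 (.node 0 .nil .nil) (.node 0 .nil .nil)) (.node 0 (.node 0 .nil .nil) .nil)))) (.node 0 (.node 0 (.node 0 (.node 0 (.node 0 .nil .nil) (.node 0 .nil .nil)) (.node 0 (.node 0 .nil .nil) .nil)) (.node 0 (.node 0 (.node 0 .nil .nil) (.node 0 .nil .nil)) (.node 49 (.node 0 .nil .nil) .nil))) (.node 0 (.node 0 (.node 0 (.node 0 .nil .nil) (.node 0 .nil .nil)) (.node 0 (.node 0 .nil .nil) .nil)) (.node 0 (.node 0 (.node 0 .nil .nil) (.node 0 .nil .nil)) (.node 0 (.node 0 .nil .nil) .nil)))))) (.node 0 (.node 128 (.node 0 (.node 0 (.node 0 (.node 0 (.node 0 .nil .nil) (.node 0 .nil .nil)) (.node 84 (.node 0 .nil .nil) .nil)) (.node 0 (.node 0 (.node 0 .nil .nil) (.node 0 .nil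 .nil)) (.node 0 (.node 0 .nil .nil) .nil))) (.node 0 (.node 0 (.node 0 (.node 0 .nil .nil) (.node 0 .nil .nil)) (.node 0 (.node 0 .nil .nil) .nil)) (.node 0 (.node 95 (.node 0 .nil .nil) (.node 0 .nil .nil)) (.node 0 (.node 0 .nil .nil) .nil)))) (.node 0 (.node 0 (.node 0 (.node 0 (.node 0 .nil .nil) (.node 0 .nil .nil)) (.node 0 (.node 0 .nil .nil) .nil)) (.node 0 (.node 0 (.node 0 .nil .nil) (.node 16 .nil .nil)) (.node 0 (.node 0 .nil .nil) .nil))) (.node 0 (.node 0 (.node 0 (.node 29 .nil .nil) (.node 0 .nil .nil)) (.node 0 (.node 0 .nil .nil) .nil)) (.node 0 (.node 0 (.node 0 .nil .nil) (.node 0 .nil .nil)) (.node 0 (.node 0 .nil .nil) .nil))))) (.node 0 (.node 0 (.node 0 (.node 0 (.node 0 (.node 0 .nil .nil) (.node 0 .nil .nil)) (.node 0 (.node 0 .nil .nil) .nil)) (.node 0 (.node 0 (.node 102 .nil .nil) (.node 0 .nil .nil)) (.node 0 (.node 37 .nil .nil) .nil))) (.node 0 (.node 78 (.node 0 (.node 0 .nil .nil) (.node 53 .nil .nil))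 (.node 0 (.node 0 .nil .nil) .nil)) (.node 0 (.node 120 (.node 0 .nil .nil) (.node 0 .nil .nil)) (.node 0 (.node 0 .nil .nil) .nil)))) (.node 0 (.node 0 (.node 0 (.node 0 (.node 0 .nil .nil) (.node 99 .nil .nil)) (.node 178 (.node 0 .nil .nil) .nil)) (.node 0 (.node 0 (.node 0 .nil .nil) (.node 0 .nil .nil)) (.node 114 (.node 0 .nil .nil) .nil))) (.node 0 (.node 0 (.node 0 (.node 0 .nil .nil) (.node 12 .nil .nil)) (.node 0 (.node 0 .nil .nil) .nil)) (.node 0 (.node 0 (.node 0 .nil .nil) .nil) (.node 0 (.node 0 .nil .nil) .nil)))))))) (.node 0 (.node 0 (.node 0 (.node 0 (.node 0 (.node 0 (.node 0 (.node 0 (.node 0 .nil .nil) (.node 121 .nil .nil)) (.node 110 (.node 0 .nil .nil) .nil)) (.node 0 (.node 87 (.node 23 .nil .nil) (.node 0 .nil .nil)) (.node 168 (.node 0 .nil .nil) .nil))) (.node 0 (.node 0 (.node 0 (.node 0 .nil .nil) (.node 0 .nil .nil)) (.node 0 (.node 0 .nil .nil) .nil)) (.node 0 (.node 0 (.node 0 .nil .nil) (.node 0 .nil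 .nil)) (.node 0 (.node 147 .nil .nil) .nil)))) (.node 0 (.node 0 (.node 0 (.node 0 (.node 0 .nil .nil) (.node 93 .nil .nil)) (.node 0 (.node 0 .nil .nil) .nil)) (.node 44 (.node 0 (.node 0 .nil .nil) (.node 0 .nil .nil)) (.node 0 (.node 0 .nil .nil) .nil))) (.node 0 (.node 0 (.node 0 (.node 0 .nil .nil) (.node 0 .nil .nil)) (.node 0 (.node 0 .nil .nil) .nil)) (.node 0 (.node 0 (.node 0 .nil .nil) (.node 43 .nil .nil)) (.node 0 (.node 0 .nil .nil) .nil))))) (.node 0 (.node 0 (.node 88 (.node 0 (.node 0 (.node 0 .nil .nil) (.node 0 .nil .nil)) (.node 0 (.node 0 .nil .nil) .nil)) (.node 0 (.node 123 (.node 0 .nil .nil) (.node 0 .nil .nil)) (.node 0 (.node 0 .nil .nil) .nil))) (.node 0 (.node 32 (.node 0 (.node 0 .nil .nil) (.node 0 .nil .nil)) (.node 0 (.node 0 .nil .nil) .nil)) (.node 0 (.node 0 (.node 67 .nil .nil) (.node 0 .nil .nil)) (.node 0 (.node 0 .nil .nil) .nil)))) (.node 0 (.node 17 (.node 0 (.node 0 (.node 0 .nil .nil) (.node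 0 .nil .nil)) (.node 175 (.node 0 .nil .nil) .nil)) (.node 0 (.node 0 (.node 0 .nil .nil) (.node 62 .nil .nil)) (.node 0 (.node 0 .nil .nil) .nil))) (.node 48 (.node 0 (.node 0 (.node 0 .nil .nil) (.node 0 .nil .nil)) (.node 0 (.node 0 .nil .nil) .nil)) (.node 0 (.node 0 (.node 135 .nil .nil) (.node 0 .nil .nil)) (.node 0 (.node 0 .nil .nil) .nil)))))) (.node 0 (.node 0 (.node 0 (.node 0 (.node 0 (.node 0 (.node 0 .nil .nil) (.node 0 .nil .nil)) (.node 0 (.node 0 .nil .nil) .nil)) (.node 0 (.node 0 (.node 40 .nil .nil) (.node 0 .nil .nil)) (.node 0 (.node 0 .nil .nil) .nil))) (.node 0 (.node 0 (.node 0 (.node 0 .nil .nil) (.node 0 .nil .nil)) (.node 0 (.node 61 .nil .nil) .nil)) (.node 0 (.node 0 (.node 0 .nil .nil) (.node 0 .nil .nil)) (.node 0 (.node 0 .nil .nil) .nil)))) (.node 0 (.node 150 (.node 0 (.node 0 (.node 42 .nil .nil) (.node 0 .nil .nil)) (.node 0 (.node 0 .nil .nil) .nil)) (.node 0 (.node 0 (.node 0 .nil .nil) (.node 0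 .nil .nil)) (.node 0 (.node 0 .nil .nil) .nil))) (.node 124 (.node 0 (.node 0 (.node 0 .nil .nil) (.node 0 .nil .nil)) (.node 0 (.node 0 .nil .nil) .nil)) (.node 0 (.node 0 (.node 0 .nil .nil) (.node 0 .nil .nil)) (.node 0 (.node 138 .nil .nil) .nil))))) (.node 103 (.node 0 (.node 0 (.node 0 (.node 63 (.node 0 .nil .nil) (.node 0 .nil .nil)) (.node 0 (.node 0 .nil .nil) .nil)) (.node 0 (.node 0 (.node 141 .nil .nil) (.node 167 .nil .nil)) (.node 0 (.node 0 .nil .nil) .nil))) (.node 0 (.node 0 (.node 0 (.node 41 .nil .nil) (.node 0 .nil .nil)) (.node 31 (.node 177 .nil .nil) .nil)) (.node 0 (.node 0 (.node 0 .nil .nil) (.node 0 .nil .nil)) (.node 0 (.node 0 .nil .nil) .nil)))) (.node 0 (.node 0 (.node 0 (.node 0 (.node 0 .nil .nil) (.node 0 .nil .nil)) (.node 0 (.node 0 .nil .nil) .nil)) (.node 155 (.node 127 (.node 0 .nil .nil) (.node 0 .nil .nil)) (.node 0 (.node 0 .nil .nil) .nil))) (.node 0 (.node 0 (.node 176 (.node 0 .nil .nil)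 (.node 0 .nil .nil)) (.node 0 (.node 179 .nil .nil) .nil)) (.node 0 (.node 0 (.node 0 .nil .nil) .nil) (.node 0 (.node 0 .nil .nil) .nil))))))) (.node 0 (.node 0 (.node 0 (.node 0 (.node 0 (.node 0 (.node 0 (.node 0 .nil .nil) (.node 0 .nil .nil)) (.node 0 (.node 0 .nil .nil) .nil)) (.node 0 (.node 0 (.node 0 .nil .nil) (.node 0 .nil .nil)) (.node 0 (.node 0 .nil .nil) .nil))) (.node 0 (.node 0 (.node 0 (.node 0 .nil .nil) (.node 0 .nil .nil)) (.node 0 (.node 0 .nil .nil) .nil)) (.node 0 (.node 0 (.node 0 .nil .nil) (.node 0 .nil .nil)) (.node 0 (.node 0 .nil .nil) .nil)))) (.node 0 (.node 0 (.node 0 (.node 0 (.node 0 .nil .nil) (.node 0 .nil .nil)) (.node 0 (.node 0 .nil .nil) .nil)) (.node 0 (.node 0 (.node 0 .nil .nil) (.node 0 .nil .nil)) (.node 0 (.node 0 .nil .nil) .nil))) (.node 0 (.node 0 (.node 0 (.node 0 .nil .nil) (.node 0 .nil .nil)) (.node 0 (.node 0 .nil .nil) .nil)) (.node 0 (.node 0 (.node 0 .nil .nil) (.node 0 .nil .nil))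 (.node 0 (.node 0 .nil .nil) .nil))))) (.node 0 (.node 0 (.node 0 (.node 0 (.node 0 (.node 0 .nil .nil) (.node 91 .nil .nil)) (.node 0 (.node 0 .nil .nil) .nil)) (.node 0 (.node 0 (.node 0 .nil .nil) (.node 0 .nil .nil)) (.node 0 (.node 0 .nil .nil) .nil))) (.node 0 (.node 0 (.node 0 (.node 0 .nil .nil) (.node 0 .nil .nil)) (.node 0 (.node 0 .nil .nil) .nil)) (.node 0 (.node 0 (.node 0 .nil .nil) (.node 0 .nil .nil)) (.node 0 (.node 0 .nil .nil) .nil)))) (.node 0 (.node 0 (.node 0 (.node 0 (.node 0 .nil .nil) (.node 0 .nil .nil)) (.node 0 (.node 0 .nil .nil) .nil)) (.node 0 (.node 0 (.node 0 .nil .nil) (.node 94 .nil .nil)) (.node 0 (.node 0 .nil .nil) .nil))) (.node 0 (.node 0 (.node 0 (.node 0 .nil .nil) (.node 0 .nil .nil)) (.node 0 (.node 56 .nil .nil) .nil)) (.node 134 (.node 104 (.node 0 .nil .nil) .nil) (.node 0 (.node 0 .nil .nil) .nil)))))) (.node 0 (.node 0 (.node 0 (.node 0 (.node 0 (.node 0 (.node 0 .nil .nil) (.node 0 .nil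 .nil)) (.node 0 (.node 0 .nil .nil) .nil)) (.node 0 (.node 0 (.node 0 .nil .nil) (.node 0 .nil .nil)) (.node 0 (.node 1 .nil .nil) .nil))) (.node 0 (.node 0 (.node 0 (.node 0 .nil .nil) (.node 6 .nil .nil)) (.node 0 (.node 0 .nil .nil) .nil)) (.node 0 (.node 0 (.node 0 .nil .nil) (.node 0 .nil .nil)) (.node 0 (.node 0 .nil .nil) .nil)))) (.node 79 (.node 0 (.node 0 (.node 0 (.node 0 .nil .nil) (.node 0 .nil .nil)) (.node 0 (.node 0 .nil .nil) .nil)) (.node 0 (.node 0 (.node 0 .nil .nil) (.node 0 .nil .nil)) (.node 157 (.node 0 .nil .nil) .nil))) (.node 0 (.node 0 (.node 0 (.node 0 .nil .nil) (.node 0 .nil .nil)) (.node 0 (.node 0 .nil .nil) .nil)) (.node 0 (.node 68 (.node 0 .nil .nil) (.node 0 .nil .nil)) (.node 156 (.node 0 .nil .nil) .nil))))) (.node 0 (.node 0 (.node 0 (.node 0 (.node 0 (.node 0 .nil .nil) (.node 170 .nil .nil)) (.node 0 (.node 0 .nil .nil) .nil)) (.node 0 (.node 0 (.node 0 .nil .nil) (.node 0 .nil .nil)) (.node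 0 (.node 0 .nil .nil) .nil))) (.node 0 (.node 0 (.node 71 (.node 0 .nil .nil) (.node 0 .nil .nil)) (.node 0 (.node 0 .nil .nil) .nil)) (.node 0 (.node 118 (.node 0 .nil .nil) (.node 0 .nil .nil)) (.node 0 (.node 0 .nil .nil) .nil)))) (.node 0 (.node 0 (.node 0 (.node 0 (.node 0 .nil .nil) (.node 0 .nil .nil)) (.node 0 (.node 0 .nil .nil) .nil)) (.node 0 (.node 0 (.node 0 .nil .nil) (.node 0 .nil .nil)) (.node 0 (.node 0 .nil .nil) .nil))) (.node 0 (.node 0 (.node 0 (.node 0 .nil .nil) (.node 0 .nil .nil)) (.node 0 (.node 0 .nil .nil) .nil)) (.node 0 (.node 0 (.node 20 .nil .nil) .nil) (.node 0 (.node 0 .nil .nil) .nil)))))))))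

/-- Data. -/
noncomputable def pos3 : Arr (ℕ) := (.node 0 pos3_0 pos3_1)

/-- Data. -/
noncomputable def levels : List Lv := [⟨1782, [7,8,9,10], words0, []⟩, ⟨1365, [11,12,13,14,15,16,17,18,19,20,21,22,23,24], words1, []⟩, ⟨1024, [15,16,17,18,19,20,21,22,23,24], words2, []⟩, ⟨180, [19,20,21,22,23,24], words3, []⟩]

/-- Data. -/
def masks : List ℕ := [0x3fffffffffffffffffffffffffffffffffffffffffffffffffffffffffffffffffffffffffffffffffffffffffffffffffffffffffffffffffffffffffffffffffffffffffffffffffffffffffffffffffffffffffffffffffffffffffffffffffffffffffffffffffffffffffffffffffffffffffffffffffffffffffffffffffffffffffffffffffffffffffffffffffffffffffffffffffffffffffffffffffffffffffffffffffffffffffffffffffffffffffffffffffffffffffffffffffffffffffffffffffffffffffffffffffffffffffffffffffffffffffffff,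
0x3dfd2dbef7cbdf7fd6fbfde7f3bfdeb9b3f7ffdfdfff77ffffe7feed6fe97cff47ffffabf379efffffee7f5f7fdbbffffbeff6b7dff7feff6effcffffef2ffeefde03ff784779df9f6eef7552afff6df0fbe31f5fd777f61bbfef5ffdfd36efb4ffdb2fbbebcfffbbce57fff7bbf7e9fffbff7ffbbdfebfbaefbfe7fdbb7a72c7cf55e7f7fbc3e8f63ffeaf5fff17cefff7df7d7edf7ebeffffafcf6bcf637bbeb77f46edffbb1f5bf5ffeebfb9d9bef3ecaffde7f9ec1c1fffda7fe6bf7ee29fddef7ff7ceebfebffbfbbf3fdcfeff4cd77b5fde91aa63f7fdc2fb97fabbd,
0x39fd2dbce189df77467b6465d1a3ce3133b7df5fd5d567fd7f4774cd67e87cfb473ecfa39329e72fed0e73555dc99fddfbc3e6b5dbd4fe8f26ffcebebeb27fcabd200fe784579df976eef2150abcf65e099a30c5b5355d20bbfed5ff9bc362e908f8b23bbe986bfabce03fdf5a3f268b9789f776ba9e6bf8ae68f667dbb5a72c7cf51872739c328f608ee8d146d05c875e5dd5d76df7cb2c27f8d8f6b446253bea67a44adf5bb064bb1d96091b189aad36cabbda3e8681c14fa8079a6b77ae29fdc655d6646eacebefadbbd3edcd6df4c941b17cc910a62f5ddc0f996f0bad,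
0x80040881080002443800240100001120800110004121100000244040002c820024010100282500000020110840000c430002040104200202080002000000400400010004001000000800140204a40000102004a0200000008c0000000002080048a00000080010104000010801040080008004200200300400800201100408604000501090000400000000040004040008004000a00000018000041000010042200000020000240000040000080008028021101400000000000080000102212404000000080000242c090004000100004010200100000400100e88000020]

end Cfsg.Agent.SuzInvol.Data
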