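import Cfsg.Agent.StemCert.Defs

/-! The centraliser of the involution of the second class. -/

set_option autoImplicit false
set_option maxRecDepth 100000
set_option maxHeartbeats 0
set_option linter.all false

namespace Cfsg.Agent.SuzInvol.Data

open Cfsg.Agent.StemCert

/-- Data. -/
def fxU : List ℕ := [25,40,157,188,252,285,304,334,443,534,575,584,603,605,613,614,629,653,676,718,753,759,785,833,835,850,868,942,965,1111,1174,1214,1290,1485,1521,1575,1585,1680,1702,1719,1745,1777]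

/-- Data. -/
def fxS : List ℕ := [38,46,48,67,99,100,128,134,151,179,307,334,387,422,443,575,585,590,613,676,736,755,762,764,772,785,812,842,856,875,885,894,942,1014,1047,1076,1117,1147,1174,1278,1286,1318,1354]

/-- Data. -/
noncomputable def redA : Arr (List ℕ) := (.node [] (.node [3,3,4] (.node [4] (.node [5,6,3] (.node [5,4,3,3] (.node [4,3] .nil .nil) .nil) (.node [6,5] (.node [4,5] .nil .nil) .nil)) (.node [3,4] (.node [5] (.node [6,3,6,3] .nil .nil) .nil) (.node [5,4] .nil .nil))) (.node [3,3] (.node [3] (.node [3,6,5] (.node [3,3,3,3] .nil .nil) .nil) (.node [3,6,3] (.node [4,3,3,3,3] .nil .nil) .nil)) (.node [5,4,5] (.node [6,3,6] (.node [6,5,6,3] .nil .nil) .nil) (.node [4,4,4,3] .nil .nil)))) (.node [4,3,4] (.node [6,3,4,3,3] (.node [5,6,5] (.node [4,5,6] (.node [5,4,3] .nil .nil) .nil) (.node [3,6] (.node [4,3,6] .nil .nil) .nil)) (.node [6] (.node [3,3,3] (.node [4,5,4,3]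 .nil .nil) .nil) (.node [3,4,3,3] .nil .nil))) (.node [6,3] (.node [4,4,3] (.node [4,3,3] (.node [5,5,6,3] .nil .nil) .nil) (.node [6,6] .nil .nil)) (.node [5,6] (.node [4,3,3,3] (.node [3,4,4,3] .nil .nil) .nil) (.node [6,6,3] .nil .nil)))))

/-- Data. -/
def starts : List ℕ := [285,157]

/-- Data. -/
noncomputable def secStart : Arr (ℕ) := (.node 1 (.node 0 (.node 1 (.node 1 (.node 0 .nil .nil) (.node 0 .nil .nil)) (.node 0 (.node 0 .nil .nil) .nil)) (.node 0 (.node 0 (.node 0 .nil .nil) .nil) (.node 0 (.node 0 .nil .nil) .nil))) (.node 0 (.node 0 (.node 1 (.node 0 .nil .nil) (.node 1 .nil .nil)) (.node 0 (.node 0 .nil .nil) .nil)) (.node 0 (.node 0 (.node 0 .nil .nil) .nil) (.node 0 (.node 0 .nil .nil) .nil))))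

/-- Data. -/
def second : List ℕ := [157,285,304,575,584,613,614,629,653,785,833,835,868,942,965,1111,1214,1485,1521,1575,1585,1680,1702,1719,1745]

/-- Data. -/
noncomputable def redB : Arr (List ℕ) := (.node [] (.node [] (.node [6,5,4,4] (.node [6,6,3,4] (.node [6,6,3,4] .nil .nil) (.node [5,5,4,4,3,3] .nil .nil)) (.node [4,5,5,4,3,4] (.node [3,3,4,5,4,4,3,3] .nil .nil) .nil)) (.node [3,3,4,3] (.node [4,3,4,4,4,4] (.node [5,6,3,4,5,4] .nil .nil) .nil) (.node [6,3,4,5,6,3] (.node [6,3,6,5,4,3] .nil .nil) .nil))) (.node [6,5,4,4] (.node [3,6,5,4,4,3] (.node [5,5,4,4,3,3] (.node [4,3,3,6,6,3] .nil .nil) (.node [4,3,3,6,6,3] .nil .nil)) (.node [4,4,3,4,3,4] (.node [3,3,6,3,4,5] .nil .nil) .nil)) (.node [6,3,3,3,3,4] (.node [4,3,4,4,3,4] (.node [4,5,5,4,4,4] .nil .nil) .nil) (.node [6,6,6,5,6,6] (.node [5,5,5,4,4,5] .nil .nil) .nil))))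

/-- Data. -/
noncomputable def cand_0 : Arr (ℕ) := (.node 0 (.node 0x2a400000001 (.node 1 (.node 0xf200000001 (.node 1 (.node 0x68c00000001 (.node 1 (.node 1 (.node 198 (.node 0x8280001 .nil .nil) (.node 0x8280001 .nil .nil)) (.node 0x13e00000001 (.node 0x49808280001 .nil .nil) .nil)) (.node 1 (.node 0x4600000001 (.node 0x8280001 .nil .nil) (.node 0x8280001 .nil .nil)) (.node 0x14c08280001 (.node 0x8280001 .nil .nil) .nil))) (.node 0x21e00000001 (.node 120 (.node 1 (.node 0x8280001 .nil .nil) (.node 0x78e08280001 .nil .nil)) (.node 1 (.node 0x8280001 .nil .nil) .nil)) (.node 0x7c400000001 (.node 284 (.node 0x8280001 .nil .nil) (.node 0x8280001 .nil .nil)) (.node 0x17208280001 (.node 0x4da08280001 .nil .nil) .nil)))) (.node 42 (.node 0x70600000001 (.node 1 (.node 1 (.node 0xc208280001 .nil .nil) (.node 0x36a08280001 .nil .nil)) (.node 0x14800000001 (.node 0x54e08280001 .nil .nil)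 .nil)) (.node 0x200000001 (.node 0xa000000001 (.node 0x1f608280001 .nil .nil) (.node 0x3a808280001 .nil .nil)) (.node 0x40e08280001 (.node 0x15008280001 .nil .nil) .nil))) (.node 1 (.node 0x46200000001 (.node 0x9200000001 (.node 0x60408280001 .nil .nil) (.node 0x8280001 .nil .nil)) (.node 1 (.node 0x8280001 .nil .nil) .nil)) (.node 0x45c00000001 (.node 1 (.node 0x8280001 .nil .nil) (.node 0x8280001 .nil .nil)) (.node 0x75408280001 (.node 0x3d008280001 .nil .nil) .nil))))) (.node 1 (.node 0x2d400000001 (.node 0x57000000001 (.node 0x59e00000001 (.node 0x78000000001 (.node 0x8280001 .nil .nil) (.node 0x8280001 .nil .nil)) (.node 0x6b400000001 (.node 0x49c08280001 .nil .nil) .nil)) (.node 1 (.node 0x34600000001 (.node 0x13808280001 .nil .nil) (.node 0x4f008280001 .nil .nil)) (.node 0x8280001 (.node 0x10008280001 .nil .nil) .nil))) (.node 1 (.node 0x44600000001 (.node 1 (.node 0x8280001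 .nil .nil) (.node 0x40608280001 .nil .nil)) (.node 1 (.node 0x8280001 .nil .nil) .nil)) (.node 0x41400000001 (.node 1 (.node 0x1de08280001 .nil .nil) (.node 0x29008280001 .nil .nil)) (.node 0x68208280001 (.node 0x47008280001 .nil .nil) .nil)))) (.node 0x6ae00000001 (.node 0x6a600000001 (.node 0xde00000001 (.node 0x6fc00000001 (.node 0x36408280001 .nil .nil) (.node 0x1fe08280001 .nil .nil)) (.node 1 (.node 0x1ee08280001 .nil .nil) .nil)) (.node 1 (.node 0x76800000001 (.node 0x8280001 .nil .nil) (.node 0x13a08280001 .nil .nil)) (.node 0xc408280001 (.node 0x1e608280001 .nil .nil) .nil))) (.node 1 (.node 1 (.node 256 (.node 0x53a08280001 .nil .nil) (.node 0x6d208280001 .nil .nil)) (.node 374 (.node 0x8280001 .nil .nil) .nil)) (.node 1 (.node 0x68800000001 (.node 0x8280001 .nil .nil) (.node 0x8280001 .nil .nil)) (.node 0x71a08280001 (.node 0x8280001 .nil .nil) .nil)))))) (.node 0x28200000001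 (.node 1 (.node 24 (.node 1 (.node 1 (.node 0x29c00000001 (.node 0x8280001 .nil .nil) (.node 0x5fa08280001 .nil .nil)) (.node 0x52800000001 (.node 0x4d808280001 .nil .nil) .nil)) (.node 154 (.node 0x35400000001 (.node 0x21408280001 .nil .nil) (.node 0x8280001 .nil .nil)) (.node 0x8280001 (.node 0x52e08280001 .nil .nil) .nil))) (.node 1 (.node 124 (.node 0x54400000001 (.node 0x8280001 .nil .nil) (.node 0x5d208280001 .nil .nil)) (.node 0x3a800000001 (.node 0x27c08280001 .nil .nil) .nil)) (.node 1 (.node 288 (.node 0x8280001 .nil .nil) (.node 0x34208280001 .nil .nil)) (.node 0x8280001 (.node 0x8280001 .nil .nil) .nil)))) (.node 1 (.node 0x15e00000001 (.node 104 (.node 1 (.node 0x41a08280001 .nil .nil) (.node 0x50008280001 .nil .nil)) (.node 0x72400000001 (.node 0x2e08280001 .nil .nil) .nil)) (.node 0x2400000001 (.node 0x6da00000001 (.node 0x2c608280001 .nil .nil) (.node 0x8280001 .nil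 .nil)) (.node 0x8280001 (.node 0x8280001 .nil .nil) .nil))) (.node 1 (.node 0x5a200000001 (.node 1 (.node 0x42608280001 .nil .nil) (.node 0x8280001 .nil .nil)) (.node 0x71200000001 (.node 0x8280001 .nil .nil) .nil)) (.node 0x73400000001 (.node 1 (.node 0x54208280001 .nil .nil) (.node 0x61a08280001 .nil .nil)) (.node 0x2ce08280001 (.node 0x43608280001 .nil .nil) .nil))))) (.node 1 (.node 0x3dc00000001 (.node 0x30c00000001 (.node 96 (.node 0x17000000001 (.node 0x8280001 .nil .nil) (.node 0x42808280001 .nil .nil)) (.node 1 (.node 0x6c608280001 .nil .nil) .nil)) (.node 1 (.node 0x48400000001 (.node 0x8280001 .nil .nil) (.node 0x66008280001 .nil .nil)) (.node 0x1f208280001 (.node 0x8280001 .nil .nil) .nil))) (.node 1 (.node 0x48e00000001 (.node 0x65400000001 (.node 0x8280001 .nil .nil) (.node 0x44808280001 .nil .nil)) (.node 1 (.node 0x4ba08280001 .nil .nil) .nil)) (.node 0x19e00000001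 (.node 1 (.node 0x8280001 .nil .nil) (.node 0x56608280001 .nil .nil)) (.node 0x8280001 (.node 0x8280001 .nil .nil) .nil)))) (.node 56 (.node 0x1a800000001 (.node 1 (.node 0x43600000001 (.node 0x57608280001 .nil .nil) (.node 0x6008280001 .nil .nil)) (.node 0x11800000001 (.node 0x18408280001 .nil .nil) .nil)) (.node 0x60600000001 (.node 0x4e200000001 (.node 0x17c08280001 .nil .nil) (.node 0x8280001 .nil .nil)) (.node 0x8280001 (.node 0x2aa08280001 .nil .nil) .nil))) (.node 1 (.node 0x61200000001 (.node 1 (.node 0x8280001 .nil .nil) (.node 0x8280001 .nil .nil)) (.node 0x32400000001 (.node 0x32208280001 .nil .nil) .nil)) (.node 196 (.node 1 (.node 0x8280001 .nil .nil) .nil) (.node 0x8280001 (.node 0x5b608280001 .nil .nil) .nil))))))) (.node 1 (.node 1 (.node 0x7e400000001 (.node 1 (.node 0x6200000001 (.node 1 (.node 1 (.node 0x8280001 .nil .nil) (.node 0x74408280001 .nil .nil)) (.node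 1 (.node 0x8280001 .nil .nil) .nil)) (.node 150 (.node 1 (.node 0x8280001 .nil .nil) (.node 0x32e08280001 .nil .nil)) (.node 0x76808280001 (.node 0x3bc08280001 .nil .nil) .nil))) (.node 0x7f600000001 (.node 1 (.node 228 (.node 0x8280001 .nil .nil) (.node 0x8280001 .nil .nil)) (.node 0x21200000001 (.node 0x69a08280001 .nil .nil) .nil)) (.node 1 (.node 0x27800000001 (.node 0xe08280001 .nil .nil) (.node 0x8280001 .nil .nil)) (.node 0x8280001 (.node 0x60808280001 .nil .nil) .nil)))) (.node 44 (.node 64 (.node 100 (.node 1 (.node 0x1cc08280001 .nil .nil) (.node 0x68808280001 .nil .nil)) (.node 1 (.node 0x8280001 .nil .nil) .nil)) (.node 1 (.node 0xb000000001 (.node 0x8280001 .nil .nil) (.node 0x3fe08280001 .nil .nil)) (.node 0x8280001 (.node 0x8280001 .nil .nil) .nil))) (.node 0x3ea00000001 (.node 1 (.node 0x5c400000001 (.node 0x2a008280001 .nil .nil) (.node 0x8280001 .nil .nil)) (.node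 370 (.node 0x68c08280001 .nil .nil) .nil)) (.node 1 (.node 0x5e800000001 (.node 0x8280001 .nil .nil) (.node 0x8280001 .nil .nil)) (.node 0x8280001 (.node 0x8280001 .nil .nil) .nil))))) (.node 0x27600000001 (.node 0x2e00000001 (.node 1 (.node 0x1d200000001 (.node 0x2c800000001 (.node 0x6c408280001 .nil .nil) (.node 0x3ca08280001 .nil .nil)) (.node 1 (.node 0x31c08280001 .nil .nil) .nil)) (.node 0x41000000001 (.node 264 (.node 0x8280001 .nil .nil) (.node 0x8280001 .nil .nil)) (.node 0x8280001 (.node 0x8280001 .nil .nil) .nil))) (.node 0x5d600000001 (.node 0x1ec00000001 (.node 0x3e00000001 (.node 0x33a08280001 .nil .nil) (.node 0x63a08280001 .nil .nil)) (.node 1 (.node 0x8280001 .nil .nil) .nil)) (.node 1 (.node 1 (.node 0x1f008280001 .nil .nil) (.node 0x8280001 .nil .nil)) (.node 0x7408280001 (.node 0x31408280001 .nil .nil) .nil)))) (.node 1 (.node 0x4000000001 (.node 114 (.node 1 (.node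 0x19008280001 .nil .nil) (.node 0x65808280001 .nil .nil)) (.node 0x52c00000001 (.node 0x24408280001 .nil .nil) .nil)) (.node 0x4bc00000001 (.node 0x4f800000001 (.node 0x7e808280001 .nil .nil) (.node 0x74808280001 .nil .nil)) (.node 0x8280001 (.node 0x2fa08280001 .nil .nil) .nil))) (.node 88 (.node 1 (.node 1 (.node 0x8280001 .nil .nil) (.node 0x8280001 .nil .nil)) (.node 1 (.node 0x35608280001 .nil .nil) .nil)) (.node 0x56a00000001 (.node 0x19000000001 (.node 0x8280001 .nil .nil) (.node 0x8280001 .nil .nil)) (.node 0x8280001 (.node 0x8280001 .nil .nil) .nil)))))) (.node 1 (.node 0x1200000001 (.node 28 (.node 1 (.node 0xf800000001 (.node 0x20600000001 (.node 0x38208280001 .nil .nil) (.node 0x8280001 .nil .nil)) (.node 1 (.node 0x3c08280001 .nil .nil) .nil)) (.node 0x6f200000001 (.node 0x4e800000001 (.node 0x8280001 .nil .nil) (.node 0x8280001 .nil .nil)) (.node 0x4c008280001 (.node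 0x8280001 .nil .nil) .nil))) (.node 1 (.node 1 (.node 1 (.node 0x8280001 .nil .nil) (.node 0x55608280001 .nil .nil)) (.node 0x18200000001 (.node 0x72408280001 .nil .nil) .nil)) (.node 1 (.node 1 (.node 0x66e08280001 .nil .nil) (.node 0x8280001 .nil .nil)) (.node 0x8280001 (.node 0x7da08280001 .nil .nil) .nil)))) (.node 1 (.node 1 (.node 1 (.node 0x38000000001 (.node 0x1b408280001 .nil .nil) (.node 0x5e208280001 .nil .nil)) (.node 0x4a800000001 (.node 0x10608280001 .nil .nil) .nil)) (.node 0x73e00000001 (.node 272 (.node 0x5aa08280001 .nil .nil) (.node 0x6ee08280001 .nil .nil)) (.node 0x8280001 (.node 0x8280001 .nil .nil) .nil))) (.node 0x10400000001 (.node 1 (.node 252 (.node 0x8280001 .nil .nil) (.node 0x57408280001 .nil .nil)) (.node 0x5a000000001 (.node 0x8280001 .nil .nil) .nil)) (.node 194 (.node 310 (.node 0x45408280001 .nil .nil) (.node 0x8280001 .nil .nil)) (.node 0x4ae08280001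 (.node 0x8280001 .nil .nil) .nil))))) (.node 14 (.node 0x19c00000001 (.node 1 (.node 1 (.node 0x12200000001 (.node 0x8280001 .nil .nil) (.node 0x8280001 .nil .nil)) (.node 1 (.node 0x8280001 .nil .nil) .nil)) (.node 162 (.node 1 (.node 0x20408280001 .nil .nil) (.node 0x28208280001 .nil .nil)) (.node 0x8280001 (.node 0x63208280001 .nil .nil) .nil))) (.node 0x57800000001 (.node 1 (.node 1 (.node 0x8280001 .nil .nil) (.node 0x31608280001 .nil .nil)) (.node 1 (.node 0x79808280001 .nil .nil) .nil)) (.node 186 (.node 0x36600000001 (.node 0x4be08280001 .nil .nil) (.node 0x8280001 .nil .nil)) (.node 0xea08280001 (.node 0x8280001 .nil .nil) .nil)))) (.node 0x63c00000001 (.node 1 (.node 1 (.node 1 (.node 0x67608280001 .nil .nil) (.node 0x8280001 .nil .nil)) (.node 1 (.node 0x52808280001 .nil .nil) .nil)) (.node 174 (.node 0x6a000000001 (.node 0x8280001 .nil .nil) (.node 0x38608280001 .nil .nil))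 (.node 0x3c808280001 (.node 0x3208280001 .nil .nil) .nil))) (.node 0x5f800000001 (.node 1 (.node 0xda00000001 (.node 0x4fa08280001 .nil .nil) (.node 0x8280001 .nil .nil)) (.node 0x8280001 (.node 0x5c808280001 .nil .nil) .nil)) (.node 1 (.node 1 (.node 0xb808280001 .nil .nil) .nil) (.node 0x3c608280001 (.node 0x77608280001 .nil .nil) .nil)))))))) (.node 0x6a200000001 (.node 4 (.node 0x7e00000001 (.node 1 (.node 0x2e000000001 (.node 0x1e400000001 (.node 1 (.node 1 (.node 0x7b408280001 .nil .nil) (.node 0x39208280001 .nil .nil)) (.node 0x7ba00000001 (.node 0x5e608280001 .nil .nil) .nil)) (.node 1 (.node 0x11000000001 (.node 0xe408280001 .nil .nil) (.node 0x8280001 .nil .nil)) (.node 0x3ae08280001 (.node 0x8280001 .nil .nil) .nil))) (.node 0x12600000001 (.node 0x1d000000001 (.node 1 (.node 0x8280001 .nil .nil) (.node 0x8280001 .nil .nil)) (.node 0x26000000001 (.node 0x30808280001 .nil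 .nil) .nil)) (.node 1 (.node 0x33800000001 (.node 0x8280001 .nil .nil) (.node 0x8280001 .nil .nil)) (.node 0x8280001 (.node 0x8280001 .nil .nil) .nil)))) (.node 0x1ba00000001 (.node 1 (.node 0x21a00000001 (.node 0x57600000001 (.node 0x8280001 .nil .nil) (.node 0x8280001 .nil .nil)) (.node 1 (.node 0x8280001 .nil .nil) .nil)) (.node 0x1a00000001 (.node 0xa400000001 (.node 0x5f208280001 .nil .nil) (.node 0x5be08280001 .nil .nil)) (.node 0x8280001 (.node 0x3f008280001 .nil .nil) .nil))) (.node 1 (.node 1 (.node 0x29800000001 (.node 0x1d408280001 .nil .nil) (.node 0x8280001 .nil .nil)) (.node 0x72600000001 (.node 0x25008280001 .nil .nil) .nil)) (.node 0x1c800000001 (.node 1 (.node 0x6d408280001 .nil .nil) (.node 0x8280001 .nil .nil)) (.node 0x24e08280001 (.node 0x4b608280001 .nil .nil) .nil))))) (.node 1 (.node 34 (.node 1 (.node 0x1e600000001 (.node 1 (.node 0x58608280001 .nil .nil)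 (.node 0x56c08280001 .nil .nil)) (.node 1 (.node 0x73a08280001 .nil .nil) .nil)) (.node 1 (.node 0x58c00000001 (.node 0x8280001 .nil .nil) (.node 0x42208280001 .nil .nil)) (.node 0x8280001 (.node 0x21808280001 .nil .nil) .nil))) (.node 1 (.node 0x5c000000001 (.node 1 (.node 0x8280001 .nil .nil) (.node 0x8280001 .nil .nil)) (.node 1 (.node 0x5b808280001 .nil .nil) .nil)) (.node 0xc600000001 (.node 1 (.node 0x8280001 .nil .nil) (.node 0x8280001 .nil .nil)) (.node 0x16808280001 (.node 0x65208280001 .nil .nil) .nil)))) (.node 1 (.node 0x21c00000001 (.node 1 (.node 1 (.node 0x8280001 .nil .nil) (.node 0x5ba08280001 .nil .nil)) (.node 0x6400000001 (.node 0x6fc08280001 .nil .nil) .nil)) (.node 1 (.node 1 (.node 0x3a08280001 .nil .nil) (.node 0x29608280001 .nil .nil)) (.node 0x8280001 (.node 0x5de08280001 .nil .nil) .nil))) (.node 1 (.node 0x27200000001 (.node 0x61000000001 (.node 0x79408280001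 .nil .nil) (.node 0x8280001 .nil .nil)) (.node 0x1ca00000001 (.node 0x2e008280001 .nil .nil) .nil)) (.node 1 (.node 0x1c400000001 (.node 0xb208280001 .nil .nil) (.node 0x8280001 .nil .nil)) (.node 0x8280001 (.node 0x5f608280001 .nil .nil) .nil)))))) (.node 0x3c000000001 (.node 0x18e00000001 (.node 0x18800000001 (.node 0x29600000001 (.node 1 (.node 0x57a00000001 (.node 0x8280001 .nil .nil) (.node 0x1da08280001 .nil .nil)) (.node 1 (.node 0x46408280001 .nil .nil) .nil)) (.node 0x44a00000001 (.node 0x74a00000001 (.node 0x8408280001 .nil .nil) (.node 0x1ce08280001 .nil .nil)) (.node 0x64408280001 (.node 0x2ac08280001 .nil .nil) .nil))) (.node 0x22800000001 (.node 1 (.node 232 (.node 0x8280001 .nil .nil) (.node 0x8280001 .nil .nil)) (.node 1 (.node 0x71808280001 .nil .nil) .nil)) (.node 182 (.node 0x9600000001 (.node 0x4c808280001 .nil .nil) (.node 0x4c08280001 .nil .nil)) (.node 0x8280001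 (.node 0x8280001 .nil .nil) .nil)))) (.node 1 (.node 66 (.node 108 (.node 1 (.node 0x8280001 .nil .nil) (.node 0x70e08280001 .nil .nil)) (.node 1 (.node 0x8280001 .nil .nil) .nil)) (.node 0x44c00000001 (.node 270 (.node 0x8280001 .nil .nil) (.node 0x8280001 .nil .nil)) (.node 0x45208280001 (.node 0x46a08280001 .nil .nil) .nil))) (.node 86 (.node 1 (.node 1 (.node 0x10408280001 .nil .nil) (.node 0x62e08280001 .nil .nil)) (.node 1 (.node 0x38e08280001 .nil .nil) .nil)) (.node 0xac00000001 (.node 1 (.node 0x41608280001 .nil .nil) (.node 0x6d808280001 .nil .nil)) (.node 0x19c08280001 (.node 0x5d008280001 .nil .nil) .nil))))) (.node 0x5b400000001 (.node 0x7c200000001 (.node 0x2c600000001 (.node 1 (.node 0x17200000001 (.node 0x8280001 .nil .nil) (.node 0x6cc08280001 .nil .nil)) (.node 0x65800000001 (.node 0x4ec08280001 .nil .nil) .nil)) (.node 0x3e000000001 (.node 1 (.node 0x8a08280001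 .nil .nil) (.node 0x26a08280001 .nil .nil)) (.node 0x8280001 (.node 0x2a08280001 .nil .nil) .nil))) (.node 0x6e800000001 (.node 1 (.node 1 (.node 0x8280001 .nil .nil) (.node 0x8280001 .nil .nil)) (.node 1 (.node 0x65c08280001 .nil .nil) .nil)) (.node 0x4fe00000001 (.node 296 (.node 0x8280001 .nil .nil) (.node 0x19408280001 .nil .nil)) (.node 0x8280001 (.node 0x70408280001 .nil .nil) .nil)))) (.node 0x67800000001 (.node 1 (.node 0x76e00000001 (.node 0x55800000001 (.node 0x60e08280001 .nil .nil) (.node 0x54608280001 .nil .nil)) (.node 1 (.node 0x8280001 .nil .nil) .nil)) (.node 1 (.node 278 (.node 0x70c08280001 .nil .nil) (.node 0x6ca08280001 .nil .nil)) (.node 0x26408280001 (.node 0x8280001 .nil .nil) .nil))) (.node 0x64600000001 (.node 0x2800000001 (.node 0x64c00000001 (.node 0x3de08280001 .nil .nil) (.node 0x3ba08280001 .nil .nil)) (.node 382 (.node 0x1f408280001 .nil .nil) .nil))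 (.node 0x4fc00000001 (.node 1 (.node 0x76a08280001 .nil .nil) .nil) (.node 0x8280001 (.node 0x8280001 .nil .nil) .nil))))))) (.node 0x4a000000001 (.node 0x8200000001 (.node 1 (.node 20 (.node 1 (.node 1 (.node 1 (.node 0x4008280001 .nil .nil) (.node 0x28408280001 .nil .nil)) (.node 0x22400000001 (.node 0x8280001 .nil .nil) .nil)) (.node 1 (.node 1 (.node 0x55c08280001 .nil .nil) (.node 0x60608280001 .nil .nil)) (.node 0x2bc08280001 (.node 0x8280001 .nil .nil) .nil))) (.node 0x7c00000001 (.node 1 (.node 0x22600000001 (.node 0x25e08280001 .nil .nil) (.node 0x3da08280001 .nil .nil)) (.node 1 (.node 0x4c608280001 .nil .nil) .nil)) (.node 0x27000000001 (.node 0x7a800000001 (.node 0x16c08280001 .nil .nil) (.node 0x33408280001 .nil .nil)) (.node 0x7e408280001 (.node 0x6e408280001 .nil .nil) .nil)))) (.node 0x4d000000001 (.node 1 (.node 1 (.node 1 (.node 0x7ea08280001 .nil .nil) (.node 0x8280001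 .nil .nil)) (.node 1 (.node 0x8280001 .nil .nil) .nil)) (.node 0x59000000001 (.node 1 (.node 0x7bc08280001 .nil .nil) (.node 0x8280001 .nil .nil)) (.node 0x34e08280001 (.node 0x44c08280001 .nil .nil) .nil))) (.node 0x20400000001 (.node 0x35600000001 (.node 1 (.node 0x8280001 .nil .nil) (.node 0x7be08280001 .nil .nil)) (.node 0x51200000001 (.node 0x12208280001 .nil .nil) .nil)) (.node 0x47800000001 (.node 0x7de00000001 (.node 0x29808280001 .nil .nil) (.node 0x8280001 .nil .nil)) (.node 0x73808280001 (.node 0x8280001 .nil .nil) .nil))))) (.node 1 (.node 0x2f600000001 (.node 0x66200000001 (.node 0x23200000001 (.node 208 (.node 0x6208280001 .nil .nil) (.node 0x14408280001 .nil .nil)) (.node 1 (.node 0x64808280001 .nil .nil) .nil)) (.node 0x6be00000001 (.node 0x7400000001 (.node 0x1ec08280001 .nil .nil) (.node 0x6c808280001 .nil .nil)) (.node 0x8280001 (.node 0x8280001 .nil .nil) .nil)))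 (.node 0x5f400000001 (.node 0x66c00000001 (.node 236 (.node 0x51408280001 .nil .nil) (.node 0x8280001 .nil .nil)) (.node 0x37e00000001 (.node 0x8280001 .nil .nil) .nil)) (.node 1 (.node 0x32000000001 (.node 0x50208280001 .nil .nil) (.node 0x8280001 .nil .nil)) (.node 0x8280001 (.node 0x70008280001 .nil .nil) .nil)))) (.node 1 (.node 0x2000000001 (.node 0x31a00000001 (.node 222 (.node 0x8280001 .nil .nil) (.node 0x20608280001 .nil .nil)) (.node 1 (.node 0x77c08280001 .nil .nil) .nil)) (.node 0x12400000001 (.node 1 (.node 0x8280001 .nil .nil) (.node 0x8280001 .nil .nil)) (.node 0x8280001 (.node 0x8280001 .nil .nil) .nil))) (.node 1 (.node 1 (.node 1 (.node 0x8280001 .nil .nil) (.node 0x8280001 .nil .nil)) (.node 0x34400000001 (.node 0x8280001 .nil .nil) .nil)) (.node 0x4d200000001 (.node 0x24800000001 (.node 0x62208280001 .nil .nil) (.node 0x4d608280001 .nil .nil)) (.node 0x79008280001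 (.node 0x6ba08280001 .nil .nil) .nil)))))) (.node 0x55a00000001 (.node 0x11400000001 (.node 1 (.node 0x78a00000001 (.node 1 (.node 0x3ce00000001 (.node 0x30208280001 .nil .nil) (.node 0x8280001 .nil .nil)) (.node 0x37400000001 (.node 0x52208280001 .nil .nil) .nil)) (.node 1 (.node 0x3be00000001 (.node 0x36208280001 .nil .nil) (.node 0x39e08280001 .nil .nil)) (.node 0x8280001 (.node 0x59808280001 .nil .nil) .nil))) (.node 0x4f000000001 (.node 1 (.node 1 (.node 0x17408280001 .nil .nil) (.node 0x21208280001 .nil .nil)) (.node 1 (.node 0x4d408280001 .nil .nil) .nil)) (.node 0x24c00000001 (.node 1 (.node 0xc08280001 .nil .nil) (.node 0x2d008280001 .nil .nil)) (.node 0x7d008280001 (.node 0x72e08280001 .nil .nil) .nil)))) (.node 1 (.node 0x51800000001 (.node 1 (.node 1 (.node 0x5fe08280001 .nil .nil) (.node 0x2408280001 .nil .nil)) (.node 0x6f000000001 (.node 0x17a08280001 .nil .nil) .nil))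 (.node 1 (.node 1 (.node 0x8280001 .nil .nil) (.node 0x42e08280001 .nil .nil)) (.node 0x8280001 (.node 0x14e08280001 .nil .nil) .nil))) (.node 0x36c00000001 (.node 1 (.node 1 (.node 0x63008280001 .nil .nil) (.node 0x22808280001 .nil .nil)) (.node 0x46400000001 (.node 0x8280001 .nil .nil) .nil)) (.node 0x38800000001 (.node 1 (.node 0x8280001 .nil .nil) (.node 0x26808280001 .nil .nil)) (.node 0x16008280001 (.node 0x52c08280001 .nil .nil) .nil))))) (.node 1 (.node 40 (.node 1 (.node 0x7fc00000001 (.node 1 (.node 0x8280001 .nil .nil) (.node 0x22608280001 .nil .nil)) (.node 0x53c00000001 (.node 0x4a408280001 .nil .nil) .nil)) (.node 164 (.node 0x21000000001 (.node 0x38808280001 .nil .nil) (.node 0x2a408280001 .nil .nil)) (.node 0x47e08280001 (.node 0x35a08280001 .nil .nil) .nil))) (.node 1 (.node 0x79000000001 (.node 0x5e400000001 (.node 0x8280001 .nil .nil) (.node 0x8280001 .nil .nil))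 (.node 1 (.node 0x8280001 .nil .nil) .nil)) (.node 0x9a00000001 (.node 302 (.node 0x46c08280001 .nil .nil) (.node 0x8280001 .nil .nil)) (.node 0x8280001 (.node 0x8280001 .nil .nil) .nil)))) (.node 0x4e000000001 (.node 0x31000000001 (.node 1 (.node 0x7ac00000001 (.node 0x8280001 .nil .nil) (.node 0x8280001 .nil .nil)) (.node 1 (.node 0x808280001 .nil .nil) .nil)) (.node 178 (.node 0xd600000001 (.node 0x64208280001 .nil .nil) (.node 0x8280001 .nil .nil)) (.node 0x8280001 (.node 0x8280001 .nil .nil) .nil))) (.node 0x11600000001 (.node 0x31200000001 (.node 0x23600000001 (.node 0x4d008280001 .nil .nil) (.node 0x39408280001 .nil .nil)) (.node 0x66808280001 (.node 0x75208280001 .nil .nil) .nil)) (.node 0x19800000001 (.node 318 (.node 0x8280001 .nil .nil) .nil) (.node 0x34808280001 (.node 0x8208280001 .nil .nil) .nil)))))))))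

/-- Data. -/
noncomputable def cand_1 : Arr (ℕ) := (.node 0x6f600000001 (.node 0x74000000001 (.node 0x4f400000001 (.node 0x39a00000001 (.node 0x6e600000001 (.node 1 (.node 0x58000000001 (.node 1 (.node 200 (.node 0x8280001 .nil .nil) (.node 0x8280001 .nil .nil)) (.node 1 (.node 0x8280001 .nil .nil) .nil)) (.node 0x5d800000001 (.node 0x15c00000001 (.node 0x8280001 .nil .nil) (.node 0xbe08280001 .nil .nil)) (.node 0x6b608280001 (.node 0x8280001 .nil .nil) .nil))) (.node 0x34e00000001 (.node 1 (.node 0x40200000001 (.node 0x8280001 .nil .nil) (.node 0x25a08280001 .nil .nil)) (.node 0x58600000001 (.node 0xca08280001 .nil .nil) .nil)) (.node 0xc000000001 (.node 0xb200000001 (.node 0x8280001 .nil .nil) (.node 0x52408280001 .nil .nil)) (.node 0x61408280001 (.node 0x8280001 .nil .nil) .nil)))) (.node 1 (.node 1 (.node 0x1fc00000001 (.node 1 (.node 0x77808280001 .nil .nil) (.node 0x8280001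 .nil .nil)) (.node 336 (.node 0x1e08280001 .nil .nil) .nil)) (.node 0x56000000001 (.node 0x10e00000001 (.node 0x8280001 .nil .nil) (.node 0x50408280001 .nil .nil)) (.node 0x53008280001 (.node 0x8280001 .nil .nil) .nil))) (.node 1 (.node 132 (.node 1 (.node 0x54808280001 .nil .nil) (.node 0x70a08280001 .nil .nil)) (.node 364 (.node 0x71008280001 .nil .nil) .nil)) (.node 0x65200000001 (.node 0x70800000001 (.node 0x6d008280001 .nil .nil) (.node 0x8280001 .nil .nil)) (.node 0x31a08280001 (.node 0x8280001 .nil .nil) .nil))))) (.node 1 (.node 0x4c00000001 (.node 0x5e600000001 (.node 1 (.node 1 (.node 0x9a08280001 .nil .nil) (.node 0x24608280001 .nil .nil)) (.node 1 (.node 0x7ee08280001 .nil .nil) .nil)) (.node 0x49600000001 (.node 260 (.node 0x8280001 .nil .nil) (.node 0x8280001 .nil .nil)) (.node 0x8280001 (.node 0x43808280001 .nil .nil) .nil))) (.node 0x4c000000001 (.node 1 (.node 0x60000000001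 (.node 0x7ba08280001 .nil .nil) (.node 0x8280001 .nil .nil)) (.node 1 (.node 0x8280001 .nil .nil) .nil)) (.node 0x1b600000001 (.node 0x77000000001 (.node 0x63608280001 .nil .nil) (.node 0x8808280001 .nil .nil)) (.node 0x2c808280001 (.node 0xcc08280001 .nil .nil) .nil)))) (.node 1 (.node 0x58a00000001 (.node 1 (.node 1 (.node 0x8280001 .nil .nil) (.node 0x3e008280001 .nil .nil)) (.node 0x77200000001 (.node 0x67a08280001 .nil .nil) .nil)) (.node 0x14600000001 (.node 0x30600000001 (.node 0x72008280001 .nil .nil) (.node 0x8280001 .nil .nil)) (.node 0x8280001 (.node 0x2ea08280001 .nil .nil) .nil))) (.node 1 (.node 1 (.node 0x48c00000001 (.node 0x8280001 .nil .nil) (.node 0x28008280001 .nil .nil)) (.node 1 (.node 0x2f008280001 .nil .nil) .nil)) (.node 0x6a800000001 (.node 0x63000000001 (.node 0x8280001 .nil .nil) (.node 0x8280001 .nil .nil)) (.node 0x3f208280001 (.node 0x8280001 .nil .nil)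 .nil)))))) (.node 1 (.node 1 (.node 1 (.node 0x23a00000001 (.node 1 (.node 0x25e00000001 (.node 0x8280001 .nil .nil) (.node 0x1d208280001 .nil .nil)) (.node 0x34a00000001 (.node 0x8280001 .nil .nil) .nil)) (.node 0x71600000001 (.node 0x7e000000001 (.node 0x8280001 .nil .nil) (.node 0x2208280001 .nil .nil)) (.node 0x40408280001 (.node 0x57a08280001 .nil .nil) .nil))) (.node 0x6b200000001 (.node 0x73c00000001 (.node 230 (.node 0x10a08280001 .nil .nil) (.node 0x48208280001 .nil .nil)) (.node 1 (.node 0x2e808280001 .nil .nil) .nil)) (.node 0xca00000001 (.node 1 (.node 0x8280001 .nil .nil) (.node 0x8280001 .nil .nil)) (.node 0x8280001 (.node 0x8280001 .nil .nil) .nil)))) (.node 1 (.node 0x6ea00000001 (.node 1 (.node 1 (.node 0x49008280001 .nil .nil) (.node 0x8280001 .nil .nil)) (.node 1 (.node 0x6fa08280001 .nil .nil) .nil)) (.node 0x6a00000001 (.node 0x70c00000001 (.node 0x8280001 .nil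 .nil) (.node 0x63c08280001 .nil .nil)) (.node 0x1c008280001 (.node 0x8280001 .nil .nil) .nil))) (.node 0x33600000001 (.node 0x7b800000001 (.node 1 (.node 0x27008280001 .nil .nil) (.node 0x5a008280001 .nil .nil)) (.node 1 (.node 0x50e08280001 .nil .nil) .nil)) (.node 190 (.node 308 (.node 0x8280001 .nil .nil) (.node 0x20808280001 .nil .nil)) (.node 0x45808280001 (.node 0x8280001 .nil .nil) .nil))))) (.node 1 (.node 0x36200000001 (.node 0x14400000001 (.node 0x16a00000001 (.node 0x62a00000001 (.node 0x8280001 .nil .nil) (.node 0x8280001 .nil .nil)) (.node 0x1bc00000001 (.node 0x11808280001 .nil .nil) .nil)) (.node 0x6f400000001 (.node 0x2fa00000001 (.node 0x8280001 .nil .nil) (.node 0x8280001 .nil .nil)) (.node 0x79608280001 (.node 0x8280001 .nil .nil) .nil))) (.node 0x6600000001 (.node 1 (.node 238 (.node 0x8280001 .nil .nil) (.node 0x8280001 .nil .nil)) (.node 0x1600000001 (.node 0x1b808280001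 .nil .nil) .nil)) (.node 1 (.node 1 (.node 0x15608280001 .nil .nil) (.node 0x8280001 .nil .nil)) (.node 0x24c08280001 (.node 0x45608280001 .nil .nil) .nil)))) (.node 1 (.node 68 (.node 0x73a00000001 (.node 1 (.node 0x60a08280001 .nil .nil) (.node 0xa608280001 .nil .nil)) (.node 0x49a00000001 (.node 0x38408280001 .nil .nil) .nil)) (.node 0x7bc00000001 (.node 276 (.node 0x7ac08280001 .nil .nil) (.node 0x6bc08280001 .nil .nil)) (.node 0x8280001 (.node 0x28608280001 .nil .nil) .nil))) (.node 0x57200000001 (.node 1 (.node 1 (.node 0x7a208280001 .nil .nil) (.node 0x4f608280001 .nil .nil)) (.node 1 (.node 0x51208280001 .nil .nil) .nil)) (.node 1 (.node 0x28400000001 (.node 0x8280001 .nil .nil) .nil) (.node 0x8280001 (.node 0x11a08280001 .nil .nil) .nil))))))) (.node 1 (.node 1 (.node 1 (.node 1 (.node 60 (.node 0x22200000001 (.node 0x4b400000001 (.node 0x30008280001 .nil .nil) (.node 0x22e08280001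 .nil .nil)) (.node 1 (.node 0x55408280001 .nil .nil) .nil)) (.node 1 (.node 0x15800000001 (.node 0x51e08280001 .nil .nil) (.node 0x8280001 .nil .nil)) (.node 0x3c208280001 (.node 0x48808280001 .nil .nil) .nil))) (.node 1 (.node 1 (.node 1 (.node 0x73608280001 .nil .nil) (.node 0x8280001 .nil .nil)) (.node 354 (.node 0x8280001 .nil .nil) .nil)) (.node 0x39e00000001 (.node 1 (.node 0x33208280001 .nil .nil) (.node 0x8280001 .nil .nil)) (.node 0x8280001 (.node 0x8280001 .nil .nil) .nil)))) (.node 0x36000000001 (.node 0x32e00000001 (.node 0x45000000001 (.node 1 (.node 0x66408280001 .nil .nil) (.node 0x3ac08280001 .nil .nil)) (.node 1 (.node 0x7e208280001 .nil .nil) .nil)) (.node 0x7d600000001 (.node 1 (.node 0x8280001 .nil .nil) (.node 0x8280001 .nil .nil)) (.node 0x8280001 (.node 0x1ba08280001 .nil .nil) .nil))) (.node 0x69200000001 (.node 1 (.node 248 (.node 0x2e408280001 .nil .nil)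 (.node 0x8280001 .nil .nil)) (.node 1 (.node 0x8280001 .nil .nil) .nil)) (.node 1 (.node 1 (.node 0x17008280001 .nil .nil) (.node 0x8280001 .nil .nil)) (.node 0x8280001 (.node 0x8280001 .nil .nil) .nil))))) (.node 1 (.node 1 (.node 1 (.node 1 (.node 206 (.node 0x75c08280001 .nil .nil) (.node 0x3c008280001 .nil .nil)) (.node 0x63400000001 (.node 0x8280001 .nil .nil) .nil)) (.node 1 (.node 0x4f200000001 (.node 0x8280001 .nil .nil) (.node 0x67408280001 .nil .nil)) (.node 0x79208280001 (.node 0x65e08280001 .nil .nil) .nil))) (.node 1 (.node 0x71400000001 (.node 0x42400000001 (.node 0x8280001 .nil .nil) (.node 0x6ae08280001 .nil .nil)) (.node 0x2dc00000001 (.node 0x8280001 .nil .nil) .nil)) (.node 1 (.node 0x15000000001 (.node 0x8280001 .nil .nil) (.node 0x8280001 .nil .nil)) (.node 0x68a08280001 (.node 0x8280001 .nil .nil) .nil)))) (.node 0x29e00000001 (.node 0x79e00000001 (.node 1 (.node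 220 (.node 0x42c08280001 .nil .nil) (.node 0x1c08280001 .nil .nil)) (.node 0x50400000001 (.node 0x8280001 .nil .nil) .nil)) (.node 1 (.node 0x24a00000001 (.node 0x8280001 .nil .nil) (.node 0x8280001 .nil .nil)) (.node 0x1008280001 (.node 0x20c08280001 .nil .nil) .nil))) (.node 0x43200000001 (.node 1 (.node 1 (.node 0x8280001 .nil .nil) (.node 0x8280001 .nil .nil)) (.node 1 (.node 0x9408280001 .nil .nil) .nil)) (.node 1 (.node 0x56800000001 (.node 0x1e408280001 .nil .nil) (.node 0x4b008280001 .nil .nil)) (.node 0x18808280001 (.node 0x1c808280001 .nil .nil) .nil)))))) (.node 0x56200000001 (.node 1 (.node 30 (.node 62 (.node 0x1d800000001 (.node 0x3b600000001 (.node 0x8280001 .nil .nil) (.node 0x1f808280001 .nil .nil)) (.node 1 (.node 0x64a08280001 .nil .nil) .nil)) (.node 0x37a00000001 (.node 0x19a00000001 (.node 0x16408280001 .nil .nil) (.node 0x76e08280001 .nil .nil)) (.node 0x23208280001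 (.node 0x8280001 .nil .nil) .nil))) (.node 1 (.node 1 (.node 1 (.node 0xd608280001 .nil .nil) (.node 0x5408280001 .nil .nil)) (.node 1 (.node 0x70208280001 .nil .nil) .nil)) (.node 0x77600000001 (.node 1 (.node 0x37008280001 .nil .nil) (.node 0x2da08280001 .nil .nil)) (.node 0x47608280001 (.node 0x8280001 .nil .nil) .nil)))) (.node 48 (.node 0x3a000000001 (.node 0x1c000000001 (.node 1 (.node 0x7cc08280001 .nil .nil) (.node 0x8280001 .nil .nil)) (.node 340 (.node 0x8280001 .nil .nil) .nil)) (.node 0x1f400000001 (.node 1 (.node 0x8280001 .nil .nil) (.node 0x8280001 .nil .nil)) (.node 0x8280001 (.node 0x8280001 .nil .nil) .nil))) (.node 0x64000000001 (.node 0x10a00000001 (.node 0x48a00000001 (.node 0x8280001 .nil .nil) (.node 0x54008280001 .nil .nil)) (.node 1 (.node 0x8280001 .nil .nil) .nil)) (.node 0x46800000001 (.node 0x12800000001 (.node 0x1c208280001 .nil .nil) (.node 0x36c08280001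 .nil .nil)) (.node 0x8280001 (.node 0x34a08280001 .nil .nil) .nil))))) (.node 1 (.node 0x79600000001 (.node 1 (.node 1 (.node 1 (.node 0x8280001 .nil .nil) (.node 0x8280001 .nil .nil)) (.node 1 (.node 0x8280001 .nil .nil) .nil)) (.node 1 (.node 0x1e00000001 (.node 0x8280001 .nil .nil) (.node 0x8280001 .nil .nil)) (.node 0x8280001 (.node 0x8280001 .nil .nil) .nil))) (.node 1 (.node 0x14c00000001 (.node 1 (.node 0x8280001 .nil .nil) (.node 0x5f008280001 .nil .nil)) (.node 0x32800000001 (.node 0x7fa08280001 .nil .nil) .nil)) (.node 0x36a00000001 (.node 0x50000000001 (.node 0x9e08280001 .nil .nil) (.node 0x51808280001 .nil .nil)) (.node 0x55208280001 (.node 0xe008280001 .nil .nil) .nil)))) (.node 1 (.node 1 (.node 0x19600000001 (.node 0x3f600000001 (.node 0x44a08280001 .nil .nil) (.node 0x72a08280001 .nil .nil)) (.node 1 (.node 0x8280001 .nil .nil) .nil)) (.node 176 (.node 1 (.node 0x9008280001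 .nil .nil) (.node 0x79e08280001 .nil .nil)) (.node 0x77408280001 (.node 0x8280001 .nil .nil) .nil))) (.node 0x66400000001 (.node 1 (.node 0xfe00000001 (.node 0x8280001 .nil .nil) (.node 0x6ce08280001 .nil .nil)) (.node 0x1ea08280001 (.node 0x8280001 .nil .nil) .nil)) (.node 1 (.node 0x47e00000001 (.node 0x8280001 .nil .nil) .nil) (.node 0x3d208280001 (.node 0x8280001 .nil .nil) .nil)))))))) (.node 1 (.node 6 (.node 1 (.node 0x19200000001 (.node 0x18a00000001 (.node 0x1e200000001 (.node 0x7e200000001 (.node 0x73800000001 (.node 0x8280001 .nil .nil) (.node 0x69808280001 .nil .nil)) (.node 0x57400000001 (.node 0x2c408280001 .nil .nil) .nil)) (.node 0x76400000001 (.node 0x1aa00000001 (.node 0x29c08280001 .nil .nil) (.node 0x78208280001 .nil .nil)) (.node 0x8280001 (.node 0x35808280001 .nil .nil) .nil))) (.node 1 (.node 1 (.node 0x30e00000001 (.node 0x76608280001 .nil .nil) (.node 0x27208280001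 .nil .nil)) (.node 1 (.node 0x8280001 .nil .nil) .nil)) (.node 0x3600000001 (.node 1 (.node 0x57c08280001 .nil .nil) (.node 0x2b008280001 .nil .nil)) (.node 0x8280001 (.node 0x7b808280001 .nil .nil) .nil)))) (.node 0x65a00000001 (.node 1 (.node 1 (.node 1 (.node 0x34008280001 .nil .nil) (.node 0x7c808280001 .nil .nil)) (.node 0x48000000001 (.node 0x1e808280001 .nil .nil) .nil)) (.node 0xaa00000001 (.node 0x57c00000001 (.node 0x6be08280001 .nil .nil) (.node 0xfe08280001 .nil .nil)) (.node 0x8280001 (.node 0x8280001 .nil .nil) .nil))) (.node 0x3a600000001 (.node 0x16600000001 (.node 1 (.node 0x73c08280001 .nil .nil) (.node 0x8280001 .nil .nil)) (.node 1 (.node 0x21c08280001 .nil .nil) .nil)) (.node 0x3c200000001 (.node 0x46600000001 (.node 0x8280001 .nil .nil) (.node 0x1808280001 .nil .nil)) (.node 0x5b008280001 (.node 0x8280001 .nil .nil) .nil))))) (.node 0x75600000001 (.node 0x7dc00000001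 (.node 1 (.node 1 (.node 1 (.node 0x8280001 .nil .nil) (.node 0x8280001 .nil .nil)) (.node 0x59800000001 (.node 0x8280001 .nil .nil) .nil)) (.node 0x4da00000001 (.node 1 (.node 0x8280001 .nil .nil) (.node 0x63408280001 .nil .nil)) (.node 0x52008280001 (.node 0x35c08280001 .nil .nil) .nil))) (.node 1 (.node 0x6ee00000001 (.node 0x31800000001 (.node 0x8280001 .nil .nil) (.node 0x8280001 .nil .nil)) (.node 0x33200000001 (.node 0xb608280001 .nil .nil) .nil)) (.node 0x60800000001 (.node 292 (.node 0x1408280001 .nil .nil) (.node 0x50608280001 .nil .nil)) (.node 0x8280001 (.node 0x4fc08280001 .nil .nil) .nil)))) (.node 1 (.node 0x48200000001 (.node 1 (.node 0x61c00000001 (.node 0x71608280001 .nil .nil) (.node 0x8280001 .nil .nil)) (.node 1 (.node 0x11c08280001 .nil .nil) .nil)) (.node 0x6a400000001 (.node 0x46e00000001 (.node 0x8280001 .nil .nil) (.node 0x3608280001 .nil .nil)) (.node 0x8280001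 (.node 0x6c008280001 .nil .nil) .nil))) (.node 0x19400000001 (.node 1 (.node 1 (.node 0x8280001 .nil .nil) (.node 0x7208280001 .nil .nil)) (.node 0x44400000001 (.node 0x8280001 .nil .nil) .nil)) (.node 0x4d600000001 (.node 1 (.node 0x2a808280001 .nil .nil) (.node 0x6e808280001 .nil .nil)) (.node 0x75008280001 (.node 0x1208280001 .nil .nil) .nil)))))) (.node 1 (.node 1 (.node 0x6ec00000001 (.node 0x4e400000001 (.node 0x79c00000001 (.node 1 (.node 0x22008280001 .nil .nil) (.node 0x8280001 .nil .nil)) (.node 0x76000000001 (.node 0x8280001 .nil .nil) .nil)) (.node 1 (.node 0x1f000000001 (.node 0x69c08280001 .nil .nil) (.node 0x4dc08280001 .nil .nil)) (.node 0x6c08280001 (.node 0x40208280001 .nil .nil) .nil))) (.node 1 (.node 1 (.node 1 (.node 0x47408280001 .nil .nil) (.node 0x8280001 .nil .nil)) (.node 1 (.node 0x18208280001 .nil .nil) .nil)) (.node 1 (.node 1 (.node 0x8280001 .nil .nil)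 (.node 0x39608280001 .nil .nil)) (.node 0x7d408280001 (.node 0x8280001 .nil .nil) .nil)))) (.node 0x3de00000001 (.node 0x66a00000001 (.node 0x60200000001 (.node 0xee00000001 (.node 0x5c408280001 .nil .nil) (.node 0xf808280001 .nil .nil)) (.node 1 (.node 0x17e08280001 .nil .nil) .nil)) (.node 0x15200000001 (.node 1 (.node 0x21a08280001 .nil .nil) (.node 0x66208280001 .nil .nil)) (.node 0x1fa08280001 (.node 0x4e808280001 .nil .nil) .nil))) (.node 1 (.node 140 (.node 1 (.node 0x8280001 .nil .nil) (.node 0x40a08280001 .nil .nil)) (.node 0x27e00000001 (.node 0x3a008280001 .nil .nil) .nil)) (.node 0x3d800000001 (.node 1 (.node 0x8280001 .nil .nil) (.node 0x65a08280001 .nil .nil)) (.node 0x2f808280001 (.node 0x14808280001 .nil .nil) .nil))))) (.node 1 (.node 0x9e00000001 (.node 1 (.node 0x4ac00000001 (.node 212 (.node 0x29408280001 .nil .nil) (.node 0x77008280001 .nil .nil)) (.node 0x75a00000001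 (.node 0x23a08280001 .nil .nil) .nil)) (.node 160 (.node 0x41600000001 (.node 0x8280001 .nil .nil) (.node 0x8280001 .nil .nil)) (.node 0x8280001 (.node 0x8280001 .nil .nil) .nil))) (.node 78 (.node 0x600000001 (.node 242 (.node 0x8280001 .nil .nil) (.node 0x21008280001 .nil .nil)) (.node 1 (.node 0x8280001 .nil .nil) .nil)) (.node 0x49800000001 (.node 298 (.node 0x8280001 .nil .nil) (.node 0x8280001 .nil .nil)) (.node 0x4e608280001 (.node 0x30608280001 .nil .nil) .nil)))) (.node 0x4cc00000001 (.node 70 (.node 1 (.node 1 (.node 0x69208280001 .nil .nil) (.node 0x1fc08280001 .nil .nil)) (.node 0x30800000001 (.node 0x73e08280001 .nil .nil) .nil)) (.node 1 (.node 280 (.node 0x5ea08280001 .nil .nil) (.node 0x58c08280001 .nil .nil)) (.node 0x59408280001 (.node 0x10808280001 .nil .nil) .nil))) (.node 0x7e600000001 (.node 0x5be00000001 (.node 0x4c200000001 (.node 0x8280001 .nil .nil) (.node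 0xc008280001 .nil .nil)) (.node 0x3400000001 (.node 0x8280001 .nil .nil) .nil)) (.node 1 (.node 1 (.node 0x8280001 .nil .nil) .nil) (.node 0x8280001 (.node 0x8280001 .nil .nil) .nil))))))) (.node 1 (.node 1 (.node 1 (.node 1 (.node 0x58e00000001 (.node 1 (.node 1 (.node 0x8280001 .nil .nil) (.node 0x8280001 .nil .nil)) (.node 0x64400000001 (.node 0x8280001 .nil .nil) .nil)) (.node 152 (.node 0x400000001 (.node 0x19608280001 .nil .nil) (.node 0x8280001 .nil .nil)) (.node 0x8280001 (.node 0x12a08280001 .nil .nil) .nil))) (.node 1 (.node 1 (.node 0x7d000000001 (.node 0x57808280001 .nil .nil) (.node 0x8280001 .nil .nil)) (.node 356 (.node 0x8280001 .nil .nil) .nil)) (.node 0x16800000001 (.node 1 (.node 0x8280001 .nil .nil) (.node 0x58e08280001 .nil .nil)) (.node 0x73408280001 (.node 0x8280001 .nil .nil) .nil)))) (.node 0x46a00000001 (.node 1 (.node 0x49400000001 (.node 0x76c00000001 (.node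 0x8280001 .nil .nil) (.node 0x8280001 .nil .nil)) (.node 1 (.node 0xce08280001 .nil .nil) .nil)) (.node 1 (.node 1 (.node 0x5a208280001 .nil .nil) (.node 0x5208280001 .nil .nil)) (.node 0x8280001 (.node 0x8280001 .nil .nil) .nil))) (.node 1 (.node 1 (.node 1 (.node 0x8280001 .nil .nil) (.node 0x24208280001 .nil .nil)) (.node 1 (.node 0x8280001 .nil .nil) .nil)) (.node 1 (.node 0x67a00000001 (.node 0x8280001 .nil .nil) (.node 0x8280001 .nil .nil)) (.node 0x8280001 (.node 0x6c208280001 .nil .nil) .nil))))) (.node 1 (.node 36 (.node 0x7e800000001 (.node 0x55c00000001 (.node 210 (.node 0x20208280001 .nil .nil) (.node 0x8280001 .nil .nil)) (.node 1 (.node 0x79c08280001 .nil .nil) .nil)) (.node 0x45600000001 (.node 266 (.node 0x43208280001 .nil .nil) (.node 0x1ac08280001 .nil .nil)) (.node 0x8280001 (.node 0x8280001 .nil .nil) .nil))) (.node 1 (.node 1 (.node 0x40600000001 (.node 0x8280001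 .nil .nil) (.node 0x25408280001 .nil .nil)) (.node 0x3e800000001 (.node 0x28c08280001 .nil .nil) .nil)) (.node 0x3ca00000001 (.node 1 (.node 0x8280001 .nil .nil) (.node 0x8280001 .nil .nil)) (.node 0x4e408280001 (.node 0x8280001 .nil .nil) .nil)))) (.node 1 (.node 1 (.node 1 (.node 1 (.node 0x8280001 .nil .nil) (.node 0x31e08280001 .nil .nil)) (.node 344 (.node 0x3fc08280001 .nil .nil) .nil)) (.node 1 (.node 1 (.node 0x2f608280001 .nil .nil) (.node 0x8280001 .nil .nil)) (.node 0x43008280001 (.node 0x8280001 .nil .nil) .nil))) (.node 0x12e00000001 (.node 0x6ac00000001 (.node 0x3bc00000001 (.node 0x26008280001 .nil .nil) (.node 0x8280001 .nil .nil)) (.node 0x54600000001 (.node 0x8280001 .nil .nil) .nil)) (.node 0x10800000001 (.node 316 (.node 0x8280001 .nil .nil) .nil) (.node 0x37408280001 (.node 0x3b008280001 .nil .nil) .nil)))))) (.node 0x6d600000001 (.node 0x6f800000001 (.node 1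 (.node 1 (.node 0x42000000001 (.node 0x5ba00000001 (.node 0x41808280001 .nil .nil) (.node 0x34608280001 .nil .nil)) (.node 1 (.node 0x8280001 .nil .nil) .nil)) (.node 0x46000000001 (.node 0x39600000001 (.node 0x49a08280001 .nil .nil) (.node 0x8280001 .nil .nil)) (.node 0x8280001 (.node 0x32408280001 .nil .nil) .nil))) (.node 1 (.node 1 (.node 1 (.node 0x44e08280001 .nil .nil) (.node 0x8280001 .nil .nil)) (.node 0x3b000000001 (.node 0x8280001 .nil .nil) .nil)) (.node 1 (.node 1 (.node 0x52608280001 .nil .nil) (.node 0x3a208280001 .nil .nil)) (.node 0x5fc08280001 (.node 0x8280001 .nil .nil) .nil)))) (.node 1 (.node 1 (.node 1 (.node 1 (.node 0x8608280001 .nil .nil) (.node 0x67808280001 .nil .nil)) (.node 1 (.node 0x3408280001 .nil .nil) .nil)) (.node 0x20c00000001 (.node 0x64e00000001 (.node 0x4c208280001 .nil .nil) (.node 0x64008280001 .nil .nil)) (.node 0x6a008280001 (.node 0x8280001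 .nil .nil) .nil))) (.node 1 (.node 0x32200000001 (.node 0x1ae00000001 (.node 0x5d808280001 .nil .nil) (.node 0x18008280001 .nil .nil)) (.node 0x6bc00000001 (.node 0x41208280001 .nil .nil) .nil)) (.node 0x27a00000001 (.node 314 (.node 0x8280001 .nil .nil) (.node 0x8280001 .nil .nil)) (.node 0x2be08280001 (.node 0x8280001 .nil .nil) .nil))))) (.node 0x7ea00000001 (.node 0x6c600000001 (.node 1 (.node 98 (.node 0x44800000001 (.node 0x8280001 .nil .nil) (.node 0x36008280001 .nil .nil)) (.node 0x7f200000001 (.node 0x8280001 .nil .nil) .nil)) (.node 0x14000000001 (.node 1 (.node 0x8280001 .nil .nil) (.node 0x8280001 .nil .nil)) (.node 0x1a08280001 (.node 0x8280001 .nil .nil) .nil))) (.node 0x43c00000001 (.node 1 (.node 0x2600000001 (.node 0x7a008280001 .nil .nil) (.node 0x63e08280001 .nil .nil)) (.node 0x76200000001 (.node 0x2ba08280001 .nil .nil) .nil)) (.node 0x74c00000001 (.node 0x1400000001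 (.node 0x8280001 .nil .nil) (.node 0x53c08280001 .nil .nil)) (.node 0x78608280001 (.node 0x8e08280001 .nil .nil) .nil)))) (.node 0x65c00000001 (.node 0x3ba00000001 (.node 1 (.node 1 (.node 0x12e08280001 .nil .nil) (.node 0x57008280001 .nil .nil)) (.node 0x66000000001 (.node 0x8280001 .nil .nil) .nil)) (.node 1 (.node 1 (.node 0x8280001 .nil .nil) (.node 0x20008280001 .nil .nil)) (.node 0xda08280001 (.node 0x19208280001 .nil .nil) .nil))) (.node 0x6000000001 (.node 0x1fa00000001 (.node 1 (.node 0x8280001 .nil .nil) (.node 0x8280001 .nil .nil)) (.node 0x6b008280001 (.node 0x8280001 .nil .nil) .nil)) (.node 0x5f600000001 (.node 0x1f600000001 (.node 0x46008280001 .nil .nil) .nil) (.node 0x7ca08280001 (.node 0x8280001 .nil .nil) .nil)))))))))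

/-- Data. -/
noncomputable def cand_2 : Arr (ℕ) := (.node 1 (.node 0x75800000001 (.node 0x5a600000001 (.node 0x11e00000001 (.node 1 (.node 0x47a00000001 (.node 1 (.node 92 (.node 1 (.node 0x3e808280001 .nil .nil) (.node 0x8280001 .nil .nil)) (.node 1 (.node 0x74008280001 .nil .nil) .nil)) (.node 0x2a800000001 (.node 0x10200000001 (.node 0x4e008280001 .nil .nil) (.node 0x8280001 .nil .nil)) (.node 0x8280001 (.node 0x8280001 .nil .nil) .nil))) (.node 1 (.node 1 (.node 1 (.node 0x3f408280001 .nil .nil) (.node 0x8280001 .nil .nil)) (.node 1 (.node 0x8280001 .nil .nil) .nil)) (.node 1 (.node 0x4d800000001 (.node 0x8280001 .nil .nil) (.node 0x3d408280001 .nil .nil)) (.node 0x8280001 (.node 0x8280001 .nil .nil) .nil)))) (.node 1 (.node 0x2aa00000001 (.node 0xf600000001 (.node 214 (.node 0x42408280001 .nil .nil) (.node 0x68e08280001 .nil .nil)) (.node 0x16e00000001 (.node 0x3d608280001 .nil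 .nil) .nil)) (.node 0x17c00000001 (.node 1 (.node 0x55808280001 .nil .nil) (.node 0x48608280001 .nil .nil)) (.node 0x8280001 (.node 0x5c208280001 .nil .nil) .nil))) (.node 1 (.node 1 (.node 0x23800000001 (.node 0x8280001 .nil .nil) (.node 0x8280001 .nil .nil)) (.node 0x35000000001 (.node 0x56408280001 .nil .nil) .nil)) (.node 0x2b200000001 (.node 304 (.node 0x16208280001 .nil .nil) (.node 0x8280001 .nil .nil)) (.node 0x54c08280001 (.node 0x8280001 .nil .nil) .nil))))) (.node 0x49000000001 (.node 0x3ae00000001 (.node 0x3c00000001 (.node 1 (.node 0x5b800000001 (.node 0x2cc08280001 .nil .nil) (.node 0x20a08280001 .nil .nil)) (.node 1 (.node 0x8280001 .nil .nil) .nil)) (.node 1 (.node 1 (.node 0x8280001 .nil .nil) (.node 0x8280001 .nil .nil)) (.node 0x31208280001 (.node 0x24008280001 .nil .nil) .nil))) (.node 1 (.node 1 (.node 1 (.node 0x3cc08280001 .nil .nil) (.node 0x38c08280001 .nil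 .nil)) (.node 1 (.node 0x54a08280001 .nil .nil) .nil)) (.node 0x5c00000001 (.node 0x3da00000001 (.node 0x74208280001 .nil .nil) (.node 0x8280001 .nil .nil)) (.node 0x3c408280001 (.node 0x12808280001 .nil .nil) .nil)))) (.node 54 (.node 0x2f800000001 (.node 0x4ea00000001 (.node 1 (.node 0x8280001 .nil .nil) (.node 0x13208280001 .nil .nil)) (.node 0x4a600000001 (.node 0x32a08280001 .nil .nil) .nil)) (.node 168 (.node 1 (.node 0x2fc08280001 .nil .nil) (.node 0x79a08280001 .nil .nil)) (.node 0x8280001 (.node 0x8280001 .nil .nil) .nil))) (.node 1 (.node 1 (.node 0x75200000001 (.node 0x8280001 .nil .nil) (.node 0x69008280001 .nil .nil)) (.node 376 (.node 0x38008280001 .nil .nil) .nil)) (.node 1 (.node 0x1b800000001 (.node 0x51008280001 .nil .nil) (.node 0x22a08280001 .nil .nil)) (.node 0x25c08280001 (.node 0x8280001 .nil .nil) .nil)))))) (.node 0x1800000001 (.node 0x43e00000001 (.node 0x64a00000001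 (.node 0x68a00000001 (.node 1 (.node 0x12a00000001 (.node 0x27608280001 .nil .nil) (.node 0x8280001 .nil .nil)) (.node 0x20800000001 (.node 0x74a08280001 .nil .nil) .nil)) (.node 156 (.node 1 (.node 0x6b208280001 .nil .nil) (.node 0x1a208280001 .nil .nil)) (.node 0x8280001 (.node 0x3ec08280001 .nil .nil) .nil))) (.node 0x29a00000001 (.node 1 (.node 1 (.node 0x8280001 .nil .nil) (.node 0x4608280001 .nil .nil)) (.node 0x6ba00000001 (.node 0x41008280001 .nil .nil) .nil)) (.node 1 (.node 0x52a00000001 (.node 0x5d608280001 .nil .nil) (.node 0x9608280001 .nil .nil)) (.node 0x8280001 (.node 0x47c08280001 .nil .nil) .nil)))) (.node 1 (.node 1 (.node 0x8600000001 (.node 0x72000000001 (.node 0x59008280001 .nil .nil) (.node 0x8280001 .nil .nil)) (.node 0x7c600000001 (.node 0x8280001 .nil .nil) .nil)) (.node 1 (.node 0x47400000001 (.node 0x49e08280001 .nil .nil) (.node 0x5b408280001 .nil .nil))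 (.node 0x8280001 (.node 0x8280001 .nil .nil) .nil))) (.node 82 (.node 136 (.node 1 (.node 0x8280001 .nil .nil) (.node 0x8280001 .nil .nil)) (.node 0x4ca00000001 (.node 0x8280001 .nil .nil) .nil)) (.node 1 (.node 0x3f200000001 (.node 0x6fe08280001 .nil .nil) (.node 0x2a608280001 .nil .nil)) (.node 0x8280001 (.node 0x2ee08280001 .nil .nil) .nil))))) (.node 0x34800000001 (.node 0xbe00000001 (.node 0x47200000001 (.node 0x2f000000001 (.node 0x20a00000001 (.node 0x8280001 .nil .nil) (.node 0x11e08280001 .nil .nil)) (.node 0x76600000001 (.node 0x8280001 .nil .nil) .nil)) (.node 1 (.node 1 (.node 0x5ce08280001 .nil .nil) (.node 0x7a808280001 .nil .nil)) (.node 0x69408280001 (.node 0x8280001 .nil .nil) .nil))) (.node 0x6cc00000001 (.node 1 (.node 1 (.node 0x49408280001 .nil .nil) (.node 0x26e08280001 .nil .nil)) (.node 1 (.node 0x8280001 .nil .nil) .nil)) (.node 1 (.node 0x79800000001 (.node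 0x53808280001 .nil .nil) (.node 0x1aa08280001 .nil .nil)) (.node 0x8280001 (.node 0x8280001 .nil .nil) .nil)))) (.node 0x6ca00000001 (.node 1 (.node 1 (.node 226 (.node 0x7b608280001 .nil .nil) (.node 0x59208280001 .nil .nil)) (.node 346 (.node 0x8280001 .nil .nil) .nil)) (.node 0x71a00000001 (.node 0x5da00000001 (.node 0x8280001 .nil .nil) (.node 0x8280001 .nil .nil)) (.node 0x67008280001 (.node 0x6f608280001 .nil .nil) .nil))) (.node 1 (.node 1 (.node 0x25200000001 (.node 0x8280001 .nil .nil) (.node 0x30c08280001 .nil .nil)) (.node 0x65000000001 (.node 0x8280001 .nil .nil) .nil)) (.node 1 (.node 0xb800000001 (.node 0x13008280001 .nil .nil) .nil) (.node 0x8280001 (.node 0x71e08280001 .nil .nil) .nil))))))) (.node 0x74400000001 (.node 1 (.node 1 (.node 0xa600000001 (.node 0x3aa00000001 (.node 1 (.node 0x2b800000001 (.node 0x8280001 .nil .nil) (.node 0x8280001 .nil .nil)) (.node 1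 (.node 0x8280001 .nil .nil) .nil)) (.node 0x68000000001 (.node 1 (.node 0x3b808280001 .nil .nil) (.node 0x2ec08280001 .nil .nil)) (.node 0x69e08280001 (.node 0x10e08280001 .nil .nil) .nil))) (.node 1 (.node 1 (.node 1 (.node 0x8280001 .nil .nil) (.node 0x6a08280001 .nil .nil)) (.node 0x50800000001 (.node 0x8280001 .nil .nil) .nil)) (.node 0x13c00000001 (.node 286 (.node 0x7008280001 .nil .nil) (.node 0x8280001 .nil .nil)) (.node 0x5ae08280001 (.node 0x8280001 .nil .nil) .nil)))) (.node 1 (.node 1 (.node 0x18600000001 (.node 0x23c00000001 (.node 0x43408280001 .nil .nil) (.node 0x3e408280001 .nil .nil)) (.node 0x40e00000001 (.node 0x8280001 .nil .nil) .nil)) (.node 1 (.node 1 (.node 0x12608280001 .nil .nil) (.node 0x78c08280001 .nil .nil)) (.node 0x8280001 (.node 0x74e08280001 .nil .nil) .nil))) (.node 80 (.node 1 (.node 0x15400000001 (.node 0x8280001 .nil .nil) (.node 0x8280001 .nil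 .nil)) (.node 0x77e00000001 (.node 0xd008280001 .nil .nil) .nil)) (.node 1 (.node 0x1ea00000001 (.node 0x36808280001 .nil .nil) (.node 0x57e08280001 .nil .nil)) (.node 0x63808280001 (.node 0x2b808280001 .nil .nil) .nil))))) (.node 0x1a200000001 (.node 0x7000000001 (.node 1 (.node 1 (.node 1 (.node 0x5cc08280001 .nil .nil) (.node 0x6e208280001 .nil .nil)) (.node 0x28a00000001 (.node 0x5b208280001 .nil .nil) .nil)) (.node 1 (.node 0x25800000001 (.node 0x61808280001 .nil .nil) (.node 0x8280001 .nil .nil)) (.node 0x8280001 (.node 0x8280001 .nil .nil) .nil))) (.node 0x1b200000001 (.node 1 (.node 1 (.node 0x4208280001 .nil .nil) (.node 0x8280001 .nil .nil)) (.node 0x2a200000001 (.node 0x1a408280001 .nil .nil) .nil)) (.node 1 (.node 1 (.node 0x8280001 .nil .nil) (.node 0x37e08280001 .nil .nil)) (.node 0x35e08280001 (.node 0xe208280001 .nil .nil) .nil)))) (.node 1 (.node 1 (.node 116 (.node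 1 (.node 0x7f408280001 .nil .nil) (.node 0x8280001 .nil .nil)) (.node 342 (.node 0x8280001 .nil .nil) .nil)) (.node 0x52e00000001 (.node 0xcc00000001 (.node 0x5bc08280001 .nil .nil) (.node 0x8280001 .nil .nil)) (.node 0x51608280001 (.node 0x9208280001 .nil .nil) .nil))) (.node 0x2f200000001 (.node 0x3d200000001 (.node 1 (.node 0x8280001 .nil .nil) (.node 0x7f208280001 .nil .nil)) (.node 378 (.node 0xb008280001 .nil .nil) .nil)) (.node 1 (.node 1 (.node 0x8280001 .nil .nil) (.node 0x13c08280001 .nil .nil)) (.node 0x51a08280001 (.node 0x49208280001 .nil .nil) .nil)))))) (.node 12 (.node 1 (.node 0x4a00000001 (.node 1 (.node 1 (.node 0x27400000001 (.node 0x1d608280001 .nil .nil) (.node 0x8280001 .nil .nil)) (.node 326 (.node 0x64e08280001 .nil .nil) .nil)) (.node 0xfa00000001 (.node 1 (.node 0x33608280001 .nil .nil) (.node 0x1b608280001 .nil .nil)) (.node 0x44008280001 (.node 0x3e608280001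 .nil .nil) .nil))) (.node 74 (.node 126 (.node 234 (.node 0x8280001 .nil .nil) (.node 0x75808280001 .nil .nil)) (.node 360 (.node 0x5e08280001 .nil .nil) .nil)) (.node 0xec00000001 (.node 0x61a00000001 (.node 0x8280001 .nil .nil) (.node 0x8c08280001 .nil .nil)) (.node 0x8280001 (.node 0x3008280001 .nil .nil) .nil)))) (.node 1 (.node 1 (.node 0x2ac00000001 (.node 0x50e00000001 (.node 0x60c08280001 .nil .nil) (.node 0x43e08280001 .nil .nil)) (.node 0x47000000001 (.node 0x4f408280001 .nil .nil) .nil)) (.node 1 (.node 0x79400000001 (.node 0x8280001 .nil .nil) (.node 0x77e08280001 .nil .nil)) (.node 0x8280001 (.node 0x8280001 .nil .nil) .nil))) (.node 1 (.node 1 (.node 254 (.node 0x58a08280001 .nil .nil) (.node 0x15e08280001 .nil .nil)) (.node 1 (.node 0x8280001 .nil .nil) .nil)) (.node 0x72c00000001 (.node 312 (.node 0x8280001 .nil .nil) (.node 0xc808280001 .nil .nil)) (.node 0x8280001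 (.node 0x8280001 .nil .nil) .nil))))) (.node 1 (.node 0x3fa00000001 (.node 0x7ec00000001 (.node 1 (.node 1 (.node 0x8280001 .nil .nil) (.node 0x7fe08280001 .nil .nil)) (.node 0x5f000000001 (.node 0x8280001 .nil .nil) .nil)) (.node 1 (.node 0x16200000001 (.node 0x8280001 .nil .nil) (.node 0x8280001 .nil .nil)) (.node 0x42008280001 (.node 0xfa08280001 .nil .nil) .nil))) (.node 1 (.node 0x32c00000001 (.node 0x7c000000001 (.node 0x8280001 .nil .nil) (.node 0x8280001 .nil .nil)) (.node 362 (.node 0x33c08280001 .nil .nil) .nil)) (.node 1 (.node 300 (.node 0x7808280001 .nil .nil) (.node 0x8280001 .nil .nil)) (.node 0x8280001 (.node 0x8280001 .nil .nil) .nil)))) (.node 0x48800000001 (.node 0x28e00000001 (.node 0x79200000001 (.node 1 (.node 0x8280001 .nil .nil) (.node 0x49608280001 .nil .nil)) (.node 348 (.node 0x2b608280001 .nil .nil) .nil)) (.node 0x26200000001 (.node 282 (.node 0x2f208280001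 .nil .nil) (.node 0x11408280001 .nil .nil)) (.node 0x7ce08280001 (.node 0x18608280001 .nil .nil) .nil))) (.node 0x4d400000001 (.node 1 (.node 1 (.node 0x8280001 .nil .nil) (.node 0x9808280001 .nil .nil)) (.node 0x8280001 (.node 0x71208280001 .nil .nil) .nil)) (.node 0x50200000001 (.node 0x3a200000001 (.node 0x8280001 .nil .nil) .nil) (.node 0x8280001 (.node 0x7a08280001 .nil .nil) .nil)))))))) (.node 1 (.node 1 (.node 1 (.node 1 (.node 1 (.node 1 (.node 1 (.node 1 (.node 0x53608280001 .nil .nil) (.node 0x26608280001 .nil .nil)) (.node 0x9800000001 (.node 0x8280001 .nil .nil) .nil)) (.node 1 (.node 0x43800000001 (.node 0x4de08280001 .nil .nil) (.node 0x64c08280001 .nil .nil)) (.node 0x8280001 (.node 0x75608280001 .nil .nil) .nil))) (.node 72 (.node 0x2a600000001 (.node 0x4ae00000001 (.node 0x8280001 .nil .nil) (.node 0x5f808280001 .nil .nil)) (.node 1 (.node 0x8280001 .nil .nil) .nil))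 (.node 1 (.node 0x43000000001 (.node 0x8280001 .nil .nil) (.node 0x8280001 .nil .nil)) (.node 0x37808280001 (.node 0x48a08280001 .nil .nil) .nil)))) (.node 1 (.node 1 (.node 1 (.node 0x5bc00000001 (.node 0x8280001 .nil .nil) (.node 0x5008280001 .nil .nil)) (.node 1 (.node 0x8280001 .nil .nil) .nil)) (.node 1 (.node 0x3ee00000001 (.node 0x5da08280001 .nil .nil) (.node 0x7dc08280001 .nil .nil)) (.node 0x8280001 (.node 0x71c08280001 .nil .nil) .nil))) (.node 0x6c00000001 (.node 0x2b000000001 (.node 246 (.node 0x6e08280001 .nil .nil) (.node 0x8280001 .nil .nil)) (.node 0xb600000001 (.node 0x8280001 .nil .nil) .nil)) (.node 1 (.node 1 (.node 0x8280001 .nil .nil) (.node 0x8280001 .nil .nil)) (.node 0x1be08280001 (.node 0x25608280001 .nil .nil) .nil))))) (.node 0x2e800000001 (.node 0x51000000001 (.node 1 (.node 0x56600000001 (.node 0x8400000001 (.node 0x8280001 .nil .nil) (.node 0x2d808280001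 .nil .nil)) (.node 328 (.node 0x73208280001 .nil .nil) .nil)) (.node 0x2bc00000001 (.node 1 (.node 0x1c608280001 .nil .nil) (.node 0x29208280001 .nil .nil)) (.node 0x1a808280001 (.node 0x8280001 .nil .nil) .nil))) (.node 76 (.node 1 (.node 0x36e00000001 (.node 0x8280001 .nil .nil) (.node 0x8280001 .nil .nil)) (.node 1 (.node 0x8280001 .nil .nil) .nil)) (.node 0x58800000001 (.node 290 (.node 0xa208280001 .nil .nil) (.node 0x47a08280001 .nil .nil)) (.node 0x8280001 (.node 0x8280001 .nil .nil) .nil)))) (.node 0x42c00000001 (.node 0x17a00000001 (.node 112 (.node 0x9c00000001 (.node 0x60008280001 .nil .nil) (.node 0x13e08280001 .nil .nil)) (.node 0x63a00000001 (.node 0x8280001 .nil .nil) .nil)) (.node 0x66600000001 (.node 1 (.node 0x43a08280001 .nil .nil) (.node 0x53208280001 .nil .nil)) (.node 0x2d408280001 (.node 0x8280001 .nil .nil) .nil))) (.node 1 (.node 0x78600000001 (.node 1 (.node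 0x7ec08280001 .nil .nil) (.node 0xfc08280001 .nil .nil)) (.node 1 (.node 0x7c208280001 .nil .nil) .nil)) (.node 0x2c200000001 (.node 1 (.node 0x14008280001 .nil .nil) (.node 0x27e08280001 .nil .nil)) (.node 0x23608280001 (.node 0x21608280001 .nil .nil) .nil)))))) (.node 0x3cc00000001 (.node 1 (.node 1 (.node 1 (.node 94 (.node 0x6e000000001 (.node 0xa008280001 .nil .nil) (.node 0x1e208280001 .nil .nil)) (.node 1 (.node 0x4a608280001 .nil .nil) .nil)) (.node 0x49200000001 (.node 0xa00000001 (.node 0x8280001 .nil .nil) (.node 0x66c08280001 .nil .nil)) (.node 0x8280001 (.node 0x4ac08280001 .nil .nil) .nil))) (.node 0x2d600000001 (.node 1 (.node 1 (.node 0x6a608280001 .nil .nil) (.node 0x5dc08280001 .nil .nil)) (.node 358 (.node 0x44208280001 .nil .nil) .nil)) (.node 0x3fe00000001 (.node 0x77a00000001 (.node 0x8280001 .nil .nil) (.node 0xf208280001 .nil .nil)) (.node 0x8280001 (.node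 0x3d808280001 .nil .nil) .nil)))) (.node 1 (.node 0x23e00000001 (.node 1 (.node 0x4fa00000001 (.node 0x2c08280001 .nil .nil) (.node 0x8280001 .nil .nil)) (.node 0x17800000001 (.node 0x4b208280001 .nil .nil) .nil)) (.node 0x4800000001 (.node 0x7b600000001 (.node 0x6dc08280001 .nil .nil) (.node 0x8280001 .nil .nil)) (.node 0x8280001 (.node 0x6f408280001 .nil .nil) .nil))) (.node 0x1a000000001 (.node 138 (.node 1 (.node 0x6b408280001 .nil .nil) (.node 0x8280001 .nil .nil)) (.node 1 (.node 0x3b408280001 .nil .nil) .nil)) (.node 0x3200000001 (.node 0x1f200000001 (.node 0x37a08280001 .nil .nil) (.node 0x8280001 .nil .nil)) (.node 0x62c08280001 (.node 0x5ac08280001 .nil .nil) .nil))))) (.node 1 (.node 1 (.node 1 (.node 1 (.node 0x71800000001 (.node 0x4a08280001 .nil .nil) (.node 0x3f808280001 .nil .nil)) (.node 0x45400000001 (.node 0x19a08280001 .nil .nil) .nil)) (.node 1 (.node 1 (.node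 0x6a408280001 .nil .nil) (.node 0x64608280001 .nil .nil)) (.node 0x8280001 (.node 0x8280001 .nil .nil) .nil))) (.node 0x8a00000001 (.node 1 (.node 240 (.node 0x8280001 .nil .nil) (.node 0x59a08280001 .nil .nil)) (.node 1 (.node 0x5c008280001 .nil .nil) .nil)) (.node 0xd000000001 (.node 1 (.node 0x8280001 .nil .nil) (.node 0x4e208280001 .nil .nil)) (.node 0x8280001 (.node 0x8280001 .nil .nil) .nil)))) (.node 58 (.node 0x51400000001 (.node 0x8e00000001 (.node 1 (.node 0x8280001 .nil .nil) (.node 0x10c08280001 .nil .nil)) (.node 0x5dc00000001 (.node 0x8280001 .nil .nil) .nil)) (.node 172 (.node 0x67200000001 (.node 0x13608280001 .nil .nil) (.node 0x8280001 .nil .nil)) (.node 0x5808280001 (.node 0x3a608280001 .nil .nil) .nil))) (.node 1 (.node 146 (.node 0x4c400000001 (.node 0x8280001 .nil .nil) (.node 0x46808280001 .nil .nil)) (.node 0x69400000001 (.node 0x58808280001 .nil .nil) .nil))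 (.node 1 (.node 1 (.node 0x8280001 .nil .nil) .nil) (.node 0x8280001 (.node 0x27808280001 .nil .nil) .nil))))))) (.node 0x14a00000001 (.node 0x24e00000001 (.node 0x3f400000001 (.node 1 (.node 0x5e00000001 (.node 1 (.node 1 (.node 0x33008280001 .nil .nil) (.node 0x8280001 .nil .nil)) (.node 1 (.node 0x61c08280001 .nil .nil) .nil)) (.node 0x3ac00000001 (.node 0x70a00000001 (.node 0x8280001 .nil .nil) (.node 0x8280001 .nil .nil)) (.node 0x8280001 (.node 0x76008280001 .nil .nil) .nil))) (.node 0x2ba00000001 (.node 0x7fa00000001 (.node 0x53600000001 (.node 0x46e08280001 .nil .nil) (.node 0x8280001 .nil .nil)) (.node 1 (.node 0x60208280001 .nil .nil) .nil)) (.node 0x5a00000001 (.node 1 (.node 0x8280001 .nil .nil) (.node 0x5a408280001 .nil .nil)) (.node 0x8280001 (.node 0x8280001 .nil .nil) .nil)))) (.node 1 (.node 1 (.node 0x65600000001 (.node 0x6ce00000001 (.node 0x2f408280001 .nil .nil)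 (.node 0x72208280001 .nil .nil)) (.node 0x35200000001 (.node 0x8280001 .nil .nil) .nil)) (.node 0x61800000001 (.node 0x24000000001 (.node 0x18c08280001 .nil .nil) (.node 0x68608280001 .nil .nil)) (.node 0x8280001 (.node 0x39008280001 .nil .nil) .nil))) (.node 0x29000000001 (.node 0xe00000001 (.node 0x67400000001 (.node 0x57208280001 .nil .nil) (.node 0x22408280001 .nil .nil)) (.node 1 (.node 0x8280001 .nil .nil) .nil)) (.node 188 (.node 1 (.node 0x4cc08280001 .nil .nil) (.node 0x8280001 .nil .nil)) (.node 0x7e08280001 (.node 0x8280001 .nil .nil) .nil))))) (.node 1 (.node 1 (.node 1 (.node 0x11200000001 (.node 0x5fe00000001 (.node 0x8280001 .nil .nil) (.node 0x23008280001 .nil .nil)) (.node 1 (.node 0x8280001 .nil .nil) .nil)) (.node 1 (.node 0x6d400000001 (.node 0x50a08280001 .nil .nil) (.node 0x8280001 .nil .nil)) (.node 0x8280001 (.node 0x8280001 .nil .nil) .nil))) (.node 0x12000000001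 (.node 1 (.node 1 (.node 0x8280001 .nil .nil) (.node 0x48408280001 .nil .nil)) (.node 0x27c00000001 (.node 0x8280001 .nil .nil) .nil)) (.node 1 (.node 1 (.node 0x72808280001 .nil .nil) (.node 0x8280001 .nil .nil)) (.node 0x7b008280001 (.node 0x56208280001 .nil .nil) .nil)))) (.node 1 (.node 1 (.node 0x5400000001 (.node 224 (.node 0x8280001 .nil .nil) (.node 0x4ee08280001 .nil .nil)) (.node 0x6e200000001 (.node 0x7de08280001 .nil .nil) .nil)) (.node 1 (.node 1 (.node 0x6b808280001 .nil .nil) (.node 0x8280001 .nil .nil)) (.node 0x1608280001 (.node 0x8280001 .nil .nil) .nil))) (.node 1 (.node 144 (.node 1 (.node 0x8280001 .nil .nil) (.node 0x3be08280001 .nil .nil)) (.node 0x5e000000001 (.node 0x8280001 .nil .nil) .nil)) (.node 0x74200000001 (.node 0x2fe00000001 (.node 0x8280001 .nil .nil) .nil) (.node 0xa408280001 (.node 0x12c08280001 .nil .nil) .nil)))))) (.node 1 (.node 0x6d000000001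 (.node 32 (.node 0x68200000001 (.node 0x34200000001 (.node 0x55000000001 (.node 0x8280001 .nil .nil) (.node 0x6808280001 .nil .nil)) (.node 1 (.node 0x62408280001 .nil .nil) .nil)) (.node 1 (.node 0x67c00000001 (.node 0x65008280001 .nil .nil) (.node 0x1d808280001 .nil .nil)) (.node 0x8280001 (.node 0x55a08280001 .nil .nil) .nil))) (.node 1 (.node 0x6b800000001 (.node 0x3b200000001 (.node 0x8280001 .nil .nil) (.node 0x4e08280001 .nil .nil)) (.node 1 (.node 0x3a408280001 .nil .nil) .nil)) (.node 0x79a00000001 (.node 0x5a800000001 (.node 0x6a208280001 .nil .nil) (.node 0x8280001 .nil .nil)) (.node 0x8280001 (.node 0x2e608280001 .nil .nil) .nil)))) (.node 0xdc00000001 (.node 0x2ec00000001 (.node 0x28800000001 (.node 1 (.node 0x23e08280001 .nil .nil) (.node 0x2c008280001 .nil .nil)) (.node 0x13200000001 (.node 0x7aa08280001 .nil .nil) .nil)) (.node 166 (.node 0x35e00000001 (.node 0x8280001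 .nil .nil) (.node 0x59c08280001 .nil .nil)) (.node 0x8280001 (.node 0x8280001 .nil .nil) .nil))) (.node 1 (.node 0x2e600000001 (.node 1 (.node 0x4d208280001 .nil .nil) (.node 0x15c08280001 .nil .nil)) (.node 372 (.node 0x8280001 .nil .nil) .nil)) (.node 0x33c00000001 (.node 1 (.node 0x39808280001 .nil .nil) (.node 0x8280001 .nil .nil)) (.node 0x1dc08280001 (.node 0x8280001 .nil .nil) .nil))))) (.node 16 (.node 1 (.node 1 (.node 1 (.node 1 (.node 0x8280001 .nil .nil) (.node 0x70808280001 .nil .nil)) (.node 0x39c00000001 (.node 0x8280001 .nil .nil) .nil)) (.node 0x41c00000001 (.node 1 (.node 0x1b008280001 .nil .nil) (.node 0x3ce08280001 .nil .nil)) (.node 0x8280001 (.node 0x76c08280001 .nil .nil) .nil))) (.node 1 (.node 1 (.node 244 (.node 0x8280001 .nil .nil) (.node 0x3dc08280001 .nil .nil)) (.node 0x1e000000001 (.node 0x62a08280001 .nil .nil) .nil)) (.node 0x14200000001 (.node 1 (.node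 0x8280001 .nil .nil) (.node 0x8280001 .nil .nil)) (.node 0x8280001 (.node 0x8280001 .nil .nil) .nil)))) (.node 1 (.node 1 (.node 1 (.node 0x54c00000001 (.node 0x8280001 .nil .nil) (.node 0x8280001 .nil .nil)) (.node 0x59400000001 (.node 0x6de08280001 .nil .nil) .nil)) (.node 1 (.node 0x13600000001 (.node 0x8280001 .nil .nil) (.node 0x15808280001 .nil .nil)) (.node 0x5a08280001 (.node 0x6aa08280001 .nil .nil) .nil))) (.node 90 (.node 1 (.node 1 (.node 0x8280001 .nil .nil) (.node 0x8280001 .nil .nil)) (.node 0x8280001 (.node 0x59e08280001 .nil .nil) .nil)) (.node 1 (.node 0x3c600000001 (.node 0x8280001 .nil .nil) .nil) (.node 0x7608280001 (.node 0x6f808280001 .nil .nil) .nil)))))))))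

/-- Data. -/
noncomputable def cand_3 : Arr (ℕ) := (.node 1 (.node 1 (.node 2 (.node 8 (.node 0x50600000001 (.node 0x5b200000001 (.node 0x3000000001 (.node 0x60c00000001 (.node 1 (.node 0x5f408280001 .nil .nil) (.node 0x75a08280001 .nil .nil)) (.node 322 (.node 0x53408280001 .nil .nil) .nil)) (.node 0x37c00000001 (.node 0x35800000001 (.node 0x8280001 .nil .nil) (.node 0x8280001 .nil .nil)) (.node 0x8280001 (.node 0x8280001 .nil .nil) .nil))) (.node 1 (.node 122 (.node 0x7ce00000001 (.node 0x8280001 .nil .nil) (.node 0x17808280001 .nil .nil)) (.node 350 (.node 0x32008280001 .nil .nil) .nil)) (.node 180 (.node 0x10600000001 (.node 0x7a408280001 .nil .nil) (.node 0x40c08280001 .nil .nil)) (.node 0x8280001 (.node 0x28a08280001 .nil .nil) .nil)))) (.node 0xf400000001 (.node 1 (.node 1 (.node 0x4200000001 (.node 0x19808280001 .nil .nil) (.node 0x6ac08280001 .nil .nil)) (.node 0x1d600000001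 (.node 0x41e08280001 .nil .nil) .nil)) (.node 1 (.node 0x78400000001 (.node 0x8280001 .nil .nil) (.node 0xaa08280001 .nil .nil)) (.node 0x8280001 (.node 0x2d208280001 .nil .nil) .nil))) (.node 1 (.node 1 (.node 0x72200000001 (.node 0x4aa08280001 .nil .nil) (.node 0x24808280001 .nil .nil)) (.node 366 (.node 0x50808280001 .nil .nil) .nil)) (.node 1 (.node 0x4e600000001 (.node 0x58408280001 .nil .nil) (.node 0x8280001 .nil .nil)) (.node 0x8280001 (.node 0x36e08280001 .nil .nil) .nil))))) (.node 1 (.node 1 (.node 0x1cc00000001 (.node 1 (.node 0x54e00000001 (.node 0x46608280001 .nil .nil) (.node 0x6e008280001 .nil .nil)) (.node 0x7cc00000001 (.node 0x8280001 .nil .nil) .nil)) (.node 0x78e00000001 (.node 262 (.node 0x8280001 .nil .nil) (.node 0x8280001 .nil .nil)) (.node 0x1ae08280001 (.node 0xdc08280001 .nil .nil) .nil))) (.node 0x6e00000001 (.node 1 (.node 1 (.node 0x76208280001 .nil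 .nil) (.node 0x8280001 .nil .nil)) (.node 0x52000000001 (.node 0x8280001 .nil .nil) .nil)) (.node 0x55200000001 (.node 1 (.node 0x6f008280001 .nil .nil) (.node 0x1d008280001 .nil .nil)) (.node 0x36608280001 (.node 0x8280001 .nil .nil) .nil)))) (.node 0x2d800000001 (.node 1 (.node 0x5ec00000001 (.node 1 (.node 0x8280001 .nil .nil) (.node 0x8280001 .nil .nil)) (.node 0x24400000001 (.node 0x11608280001 .nil .nil) .nil)) (.node 0x60400000001 (.node 0x3fc00000001 (.node 0x30e08280001 .nil .nil) (.node 0xa08280001 .nil .nil)) (.node 0x67e08280001 (.node 0x46208280001 .nil .nil) .nil))) (.node 0x41200000001 (.node 1 (.node 0x7f800000001 (.node 0x5e408280001 .nil .nil) (.node 0x6e608280001 .nil .nil)) (.node 0xd800000001 (.node 0x74c08280001 .nil .nil) .nil)) (.node 1 (.node 0x20e00000001 (.node 0x39a08280001 .nil .nil) (.node 0x55008280001 .nil .nil)) (.node 0x8280001 (.node 0x8280001 .nil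 .nil) .nil)))))) (.node 0xa800000001 (.node 1 (.node 26 (.node 1 (.node 0x2de00000001 (.node 1 (.node 0x2de08280001 .nil .nil) (.node 0x8280001 .nil .nil)) (.node 0x54800000001 (.node 0x53e08280001 .nil .nil) .nil)) (.node 1 (.node 258 (.node 0x7c408280001 .nil .nil) (.node 0x8280001 .nil .nil)) (.node 0x18a08280001 (.node 0x56e08280001 .nil .nil) .nil))) (.node 1 (.node 0x7600000001 (.node 1 (.node 0x8280001 .nil .nil) (.node 0x77a08280001 .nil .nil)) (.node 1 (.node 0x71408280001 .nil .nil) .nil)) (.node 1 (.node 0x54a00000001 (.node 0x8280001 .nil .nil) (.node 0x8280001 .nil .nil)) (.node 0xae08280001 (.node 0x408280001 .nil .nil) .nil)))) (.node 0x21800000001 (.node 0x59a00000001 (.node 106 (.node 0xe000000001 (.node 0x8280001 .nil .nil) (.node 0x55e08280001 .nil .nil)) (.node 0x1e800000001 (.node 0x31808280001 .nil .nil) .nil)) (.node 1 (.node 1 (.node 0x50c08280001 .nil .nil)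 (.node 0x3ee08280001 .nil .nil)) (.node 0x4a008280001 (.node 0xe608280001 .nil .nil) .nil))) (.node 84 (.node 1 (.node 0x31e00000001 (.node 0x8280001 .nil .nil) (.node 0x8280001 .nil .nil)) (.node 1 (.node 0x4b808280001 .nil .nil) .nil)) (.node 192 (.node 1 (.node 0x8280001 .nil .nil) (.node 0x42a08280001 .nil .nil)) (.node 0x35208280001 (.node 0x8280001 .nil .nil) .nil))))) (.node 1 (.node 0x70200000001 (.node 0x38600000001 (.node 0x23000000001 (.node 1 (.node 0x8280001 .nil .nil) (.node 0x2d608280001 .nil .nil)) (.node 0x74600000001 (.node 0x39c08280001 .nil .nil) .nil)) (.node 0x7ca00000001 (.node 0x8000000001 (.node 0x8280001 .nil .nil) (.node 0x6ea08280001 .nil .nil)) (.node 0x2dc08280001 (.node 0x8280001 .nil .nil) .nil))) (.node 1 (.node 1 (.node 0x1f800000001 (.node 0x2fe08280001 .nil .nil) (.node 0x7e008280001 .nil .nil)) (.node 0x4a200000001 (.node 0x8280001 .nil .nil) .nil))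 (.node 0x1de00000001 (.node 0x61400000001 (.node 0x8280001 .nil .nil) (.node 0x11008280001 .nil .nil)) (.node 0x8280001 (.node 0x5ee08280001 .nil .nil) .nil)))) (.node 0x53000000001 (.node 0x26600000001 (.node 0x7be00000001 (.node 1 (.node 0x8280001 .nil .nil) (.node 0x5c608280001 .nil .nil)) (.node 1 (.node 0xa808280001 .nil .nil) .nil)) (.node 0x78200000001 (.node 1 (.node 0x8280001 .nil .nil) (.node 0x32608280001 .nil .nil)) (.node 0x8280001 (.node 0x2a208280001 .nil .nil) .nil))) (.node 1 (.node 0x6c800000001 (.node 0x6b600000001 (.node 0x3b208280001 .nil .nil) (.node 0x3e08280001 .nil .nil)) (.node 1 (.node 0x5a608280001 .nil .nil) .nil)) (.node 1 (.node 0x53e00000001 (.node 0x8280001 .nil .nil) .nil) (.node 0x8280001 (.node 0x8280001 .nil .nil) .nil))))))) (.node 1 (.node 0x6aa00000001 (.node 1 (.node 18 (.node 0x21400000001 (.node 0x59600000001 (.node 1 (.node 0x8280001 .nil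 .nil) (.node 0xd208280001 .nil .nil)) (.node 1 (.node 0x8280001 .nil .nil) .nil)) (.node 0x55600000001 (.node 1 (.node 0xb408280001 .nil .nil) (.node 0x8280001 .nil .nil)) (.node 0x11208280001 (.node 0x44408280001 .nil .nil) .nil))) (.node 1 (.node 1 (.node 0x25400000001 (.node 0x8280001 .nil .nil) (.node 0x14a08280001 .nil .nil)) (.node 1 (.node 0x41c08280001 .nil .nil) .nil)) (.node 0x40000000001 (.node 1 (.node 0x8280001 .nil .nil) (.node 0x3aa08280001 .nil .nil)) (.node 0x7d808280001 (.node 0x8280001 .nil .nil) .nil)))) (.node 0x22000000001 (.node 0xd400000001 (.node 0x37000000001 (.node 0xc400000001 (.node 0x77208280001 .nil .nil) (.node 0x10208280001 .nil .nil)) (.node 338 (.node 0x15a08280001 .nil .nil) .nil)) (.node 0x5ac00000001 (.node 0x31400000001 (.node 0x8280001 .nil .nil) (.node 0x56808280001 .nil .nil)) (.node 0x8280001 (.node 0x8280001 .nil .nil) .nil))) (.node 1 (.node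 134 (.node 250 (.node 0x7a608280001 .nil .nil) (.node 0x4b408280001 .nil .nil)) (.node 1 (.node 0x45e08280001 .nil .nil) .nil)) (.node 1 (.node 1 (.node 0x5c08280001 .nil .nil) (.node 0x76408280001 .nil .nil)) (.node 0x8280001 (.node 0x8280001 .nil .nil) .nil))))) (.node 1 (.node 0xea00000001 (.node 1 (.node 1 (.node 0x75000000001 (.node 0x66a08280001 .nil .nil) (.node 0x8280001 .nil .nil)) (.node 0x1b400000001 (.node 0x8280001 .nil .nil) .nil)) (.node 1 (.node 0x3800000001 (.node 0x8280001 .nil .nil) (.node 0x8280001 .nil .nil)) (.node 0x4f208280001 (.node 0x5608280001 .nil .nil) .nil))) (.node 0x5a400000001 (.node 0x38e00000001 (.node 0x7da00000001 (.node 0x61008280001 .nil .nil) (.node 0x5e808280001 .nil .nil)) (.node 1 (.node 0x51c08280001 .nil .nil) .nil)) (.node 1 (.node 294 (.node 0x8280001 .nil .nil) (.node 0x24a08280001 .nil .nil)) (.node 0x12408280001 (.node 0x1ca08280001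 .nil .nil) .nil)))) (.node 0xb400000001 (.node 1 (.node 0x26e00000001 (.node 1 (.node 0xf608280001 .nil .nil) (.node 0x37c08280001 .nil .nil)) (.node 0x5ca00000001 (.node 0x8280001 .nil .nil) .nil)) (.node 1 (.node 1 (.node 0x73008280001 .nil .nil) (.node 0x8280001 .nil .nil)) (.node 0x8280001 (.node 0x8280001 .nil .nil) .nil))) (.node 0x71000000001 (.node 0x56e00000001 (.node 1 (.node 0x8280001 .nil .nil) (.node 0x8280001 .nil .nil)) (.node 380 (.node 0x8280001 .nil .nil) .nil)) (.node 1 (.node 0x2d000000001 (.node 0x19e08280001 .nil .nil) (.node 0x2b408280001 .nil .nil)) (.node 0x6f208280001 (.node 0x8280001 .nil .nil) .nil)))))) (.node 0x4ce00000001 (.node 0x40400000001 (.node 1 (.node 1 (.node 0x58200000001 (.node 202 (.node 0x8280001 .nil .nil) (.node 0x8280001 .nil .nil)) (.node 0x41800000001 (.node 0x12008280001 .nil .nil) .nil)) (.node 0x40c00000001 (.node 0x62800000001 (.node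 0x28e08280001 .nil .nil) (.node 0x7b208280001 .nil .nil)) (.node 0x8280001 (.node 0x27408280001 .nil .nil) .nil))) (.node 1 (.node 1 (.node 0x22e00000001 (.node 0x8280001 .nil .nil) (.node 0x6a808280001 .nil .nil)) (.node 0x2ea00000001 (.node 0x4ea08280001 .nil .nil) .nil)) (.node 0x62600000001 (.node 0x15a00000001 (.node 0x8280001 .nil .nil) (.node 0x30408280001 .nil .nil)) (.node 0x48e08280001 (.node 0x62608280001 .nil .nil) .nil)))) (.node 50 (.node 1 (.node 0x1d400000001 (.node 218 (.node 0x208280001 .nil .nil) (.node 0x4c408280001 .nil .nil)) (.node 0x5e200000001 (.node 0x8280001 .nil .nil) .nil)) (.node 0xc200000001 (.node 274 (.node 0x8280001 .nil .nil) (.node 0x58208280001 .nil .nil)) (.node 0x54408280001 (.node 0x8280001 .nil .nil) .nil))) (.node 1 (.node 1 (.node 0x45a00000001 (.node 0x1a008280001 .nil .nil) (.node 0x8280001 .nil .nil)) (.node 0x25600000001 (.node 0x3ea08280001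 .nil .nil) .nil)) (.node 1 (.node 1 (.node 0x65408280001 .nil .nil) (.node 0x8280001 .nil .nil)) (.node 0x8280001 (.node 0x45008280001 .nil .nil) .nil))))) (.node 0x46c00000001 (.node 1 (.node 1 (.node 0x18c00000001 (.node 1 (.node 0x8280001 .nil .nil) (.node 0x8280001 .nil .nil)) (.node 334 (.node 0x8280001 .nil .nil) .nil)) (.node 1 (.node 0x38a00000001 (.node 0x8280001 .nil .nil) (.node 0x8280001 .nil .nil)) (.node 0x8280001 (.node 0x31008280001 .nil .nil) .nil))) (.node 0x7a000000001 (.node 130 (.node 1 (.node 0x8280001 .nil .nil) (.node 0x8280001 .nil .nil)) (.node 0x2b600000001 (.node 0x8280001 .nil .nil) .nil)) (.node 1 (.node 0x4ba00000001 (.node 0x8280001 .nil .nil) (.node 0x61608280001 .nil .nil)) (.node 0x8280001 (.node 0x8280001 .nil .nil) .nil)))) (.node 1 (.node 0x7b000000001 (.node 118 (.node 0x5000000001 (.node 0x1a608280001 .nil .nil) (.node 0x8280001 .nil .nil))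 (.node 1 (.node 0x8280001 .nil .nil) .nil)) (.node 1 (.node 0x2e200000001 (.node 0x22208280001 .nil .nil) (.node 0x5e008280001 .nil .nil)) (.node 0x8280001 (.node 0x16608280001 .nil .nil) .nil))) (.node 1 (.node 0x7ae00000001 (.node 1 (.node 0x7d608280001 .nil .nil) (.node 0x34408280001 .nil .nil)) (.node 0x23408280001 (.node 0x8280001 .nil .nil) .nil)) (.node 1 (.node 1 (.node 0x8280001 .nil .nil) .nil) (.node 0x8280001 (.node 0x13408280001 .nil .nil) .nil)))))))) (.node 1 (.node 0x6de00000001 (.node 1 (.node 1 (.node 0x8c00000001 (.node 1 (.node 1 (.node 0x42e00000001 (.node 0x8280001 .nil .nil) (.node 0x8280001 .nil .nil)) (.node 0x42600000001 (.node 0x25808280001 .nil .nil) .nil)) (.node 1 (.node 0x35c00000001 (.node 0x8280001 .nil .nil) (.node 0x8280001 .nil .nil)) (.node 0x8280001 (.node 0x40808280001 .nil .nil) .nil))) (.node 1 (.node 0x6c400000001 (.node 0x6d800000001 (.node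 0x2608280001 .nil .nil) (.node 0x4bc08280001 .nil .nil)) (.node 352 (.node 0x8280001 .nil .nil) .nil)) (.node 1 (.node 1 (.node 0x7c608280001 .nil .nil) (.node 0x8280001 .nil .nil)) (.node 0x29e08280001 (.node 0x8280001 .nil .nil) .nil)))) (.node 1 (.node 1 (.node 0x22a00000001 (.node 216 (.node 0x3fa08280001 .nil .nil) (.node 0x59608280001 .nil .nil)) (.node 0x29400000001 (.node 0x69608280001 .nil .nil) .nil)) (.node 0x77c00000001 (.node 268 (.node 0x38a08280001 .nil .nil) (.node 0x3808280001 .nil .nil)) (.node 0x43c08280001 (.node 0x72c08280001 .nil .nil) .nil))) (.node 1 (.node 1 (.node 1 (.node 0x8280001 .nil .nil) (.node 0x3f608280001 .nil .nil)) (.node 368 (.node 0x8280001 .nil .nil) .nil)) (.node 0xd200000001 (.node 306 (.node 0x8280001 .nil .nil) (.node 0x8280001 .nil .nil)) (.node 0x8280001 (.node 0x8280001 .nil .nil) .nil))))) (.node 1 (.node 1 (.node 1 (.node 0x23400000001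 (.node 204 (.node 0x8280001 .nil .nil) (.node 0x8280001 .nil .nil)) (.node 330 (.node 0x8280001 .nil .nil) .nil)) (.node 0x38c00000001 (.node 0x1c200000001 (.node 0x608280001 .nil .nil) (.node 0x34c08280001 .nil .nil)) (.node 0x4a208280001 (.node 0x15408280001 .nil .nil) .nil))) (.node 1 (.node 0x22c00000001 (.node 0x1be00000001 (.node 0x14208280001 .nil .nil) (.node 0x8280001 .nil .nil)) (.node 0x51a00000001 (.node 0x8280001 .nil .nil) .nil)) (.node 1 (.node 0x63e00000001 (.node 0x7d208280001 .nil .nil) (.node 0x8280001 .nil .nil)) (.node 0x8280001 (.node 0x8280001 .nil .nil) .nil)))) (.node 0x52600000001 (.node 1 (.node 0x1ac00000001 (.node 1 (.node 0x8280001 .nil .nil) (.node 0xd808280001 .nil .nil)) (.node 0x7d200000001 (.node 0x1bc08280001 .nil .nil) .nil)) (.node 170 (.node 0x3d600000001 (.node 0x41408280001 .nil .nil) (.node 0x68008280001 .nil .nil)) (.node 0x44608280001 (.node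 0x35408280001 .nil .nil) .nil))) (.node 1 (.node 1 (.node 1 (.node 0x8280001 .nil .nil) (.node 0x16a08280001 .nil .nil)) (.node 1 (.node 0x14608280001 .nil .nil) .nil)) (.node 1 (.node 0x1da00000001 (.node 0x8280001 .nil .nil) (.node 0x7e608280001 .nil .nil)) (.node 0xf008280001 (.node 0xf408280001 .nil .nil) .nil)))))) (.node 10 (.node 0x3d000000001 (.node 0xe200000001 (.node 0x1b000000001 (.node 1 (.node 1 (.node 0x18e08280001 .nil .nil) (.node 0x78a08280001 .nil .nil)) (.node 0x4c800000001 (.node 0x8280001 .nil .nil) .nil)) (.node 158 (.node 1 (.node 0x8280001 .nil .nil) (.node 0x8280001 .nil .nil)) (.node 0x61208280001 (.node 0x8008280001 .nil .nil) .nil))) (.node 1 (.node 0x3b800000001 (.node 1 (.node 0x8280001 .nil .nil) (.node 0x2008280001 .nil .nil)) (.node 0x5de00000001 (.node 0x6da08280001 .nil .nil) .nil)) (.node 0x62000000001 (.node 0x75400000001 (.node 0x8280001 .nil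 .nil) (.node 0x21e08280001 .nil .nil)) (.node 0xba08280001 (.node 0x28808280001 .nil .nil) .nil)))) (.node 0x2c000000001 (.node 1 (.node 0x71c00000001 (.node 1 (.node 0x56008280001 .nil .nil) (.node 0x8280001 .nil .nil)) (.node 0x11a00000001 (.node 0x4ce08280001 .nil .nil) .nil)) (.node 1 (.node 0x1ce00000001 (.node 0x8280001 .nil .nil) (.node 0xac08280001 .nil .nil)) (.node 0x26c08280001 (.node 0x16e08280001 .nil .nil) .nil))) (.node 0x5fc00000001 (.node 0x41e00000001 (.node 1 (.node 0x8280001 .nil .nil) (.node 0x65608280001 .nil .nil)) (.node 0x26a00000001 (.node 0x8280001 .nil .nil) .nil)) (.node 1 (.node 1 (.node 0x8280001 .nil .nil) (.node 0x6ec08280001 .nil .nil)) (.node 0x3b608280001 (.node 0x7ae08280001 .nil .nil) .nil))))) (.node 0x21600000001 (.node 38 (.node 0x7f000000001 (.node 1 (.node 1 (.node 0x78408280001 .nil .nil) (.node 0x8280001 .nil .nil)) (.node 0x18400000001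 (.node 0x7f808280001 .nil .nil) .nil)) (.node 1 (.node 1 (.node 0xde08280001 .nil .nil) (.node 0xbc08280001 .nil .nil)) (.node 0x8280001 (.node 0x8280001 .nil .nil) .nil))) (.node 1 (.node 0x67e00000001 (.node 0x51e00000001 (.node 0x61e08280001 .nil .nil) (.node 0x4ca08280001 .nil .nil)) (.node 0x32a00000001 (.node 0xe808280001 .nil .nil) .nil)) (.node 1 (.node 0x7b200000001 (.node 0x8280001 .nil .nil) (.node 0x7f608280001 .nil .nil)) (.node 0x33e08280001 (.node 0x8280001 .nil .nil) .nil)))) (.node 0x44200000001 (.node 1 (.node 0x70e00000001 (.node 1 (.node 0x8280001 .nil .nil) (.node 0x7f008280001 .nil .nil)) (.node 1 (.node 0x8280001 .nil .nil) .nil)) (.node 1 (.node 0x3b400000001 (.node 0x8280001 .nil .nil) (.node 0x8280001 .nil .nil)) (.node 0x56a08280001 (.node 0x8280001 .nil .nil) .nil))) (.node 0x64800000001 (.node 148 (.node 1 (.node 0xc608280001 .nil .nil) (.node 0x8280001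 .nil .nil)) (.node 0x74608280001 (.node 0x8280001 .nil .nil) .nil)) (.node 1 (.node 0x77800000001 (.node 0x8280001 .nil .nil) .nil) (.node 0x8280001 (.node 0x8280001 .nil .nil) .nil))))))) (.node 1 (.node 0x5cc00000001 (.node 1 (.node 22 (.node 0x28c00000001 (.node 0x36800000001 (.node 0xce00000001 (.node 0x8280001 .nil .nil) (.node 0x9c08280001 .nil .nil)) (.node 324 (.node 0x1e008280001 .nil .nil) .nil)) (.node 1 (.node 1 (.node 0x8280001 .nil .nil) (.node 0x4808280001 .nil .nil)) (.node 0xee08280001 (.node 0x2ca08280001 .nil .nil) .nil))) (.node 1 (.node 0x25c00000001 (.node 1 (.node 0xec08280001 .nil .nil) (.node 0x8280001 .nil .nil)) (.node 1 (.node 0x67c08280001 .nil .nil) .nil)) (.node 1 (.node 0x13400000001 (.node 0x5ec08280001 .nil .nil) (.node 0x15208280001 .nil .nil)) (.node 0x26208280001 (.node 0x5d408280001 .nil .nil) .nil)))) (.node 46 (.node 1 (.node 102 (.node 1 (.node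 0x8280001 .nil .nil) (.node 0x8280001 .nil .nil)) (.node 0x39800000001 (.node 0x8280001 .nil .nil) .nil)) (.node 1 (.node 0x34000000001 (.node 0x6608280001 .nil .nil) (.node 0x70608280001 .nil .nil)) (.node 0x2e208280001 (.node 0x7fc08280001 .nil .nil) .nil))) (.node 0x69600000001 (.node 1 (.node 0x55400000001 (.node 0x8280001 .nil .nil) (.node 0x8280001 .nil .nil)) (.node 1 (.node 0x8280001 .nil .nil) .nil)) (.node 1 (.node 1 (.node 0x32808280001 .nil .nil) (.node 0x8280001 .nil .nil)) (.node 0x47208280001 (.node 0x40008280001 .nil .nil) .nil))))) (.node 0x26800000001 (.node 1 (.node 1 (.node 0x72800000001 (.node 0x62e00000001 (.node 0x8280001 .nil .nil) (.node 0x8280001 .nil .nil)) (.node 332 (.node 0x29a08280001 .nil .nil) .nil)) (.node 0x69a00000001 (.node 0x5d400000001 (.node 0x62808280001 .nil .nil) (.node 0x4fe08280001 .nil .nil)) (.node 0x66608280001 (.node 0x32c08280001 .nil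 .nil) .nil))) (.node 1 (.node 1 (.node 0x1c00000001 (.node 0x8280001 .nil .nil) (.node 0x27a08280001 .nil .nil)) (.node 0x72a00000001 (.node 0x22c08280001 .nil .nil) .nil)) (.node 0x26c00000001 (.node 1 (.node 0x1c408280001 .nil .nil) (.node 0x1b208280001 .nil .nil)) (.node 0x4408280001 (.node 0x17608280001 .nil .nil) .nil)))) (.node 0x3ec00000001 (.node 0x53400000001 (.node 0x76a00000001 (.node 1 (.node 0x37208280001 .nil .nil) (.node 0x5ca08280001 .nil .nil)) (.node 1 (.node 0x8280001 .nil .nil) .nil)) (.node 1 (.node 0x39000000001 (.node 0x7c008280001 .nil .nil) (.node 0x2ae08280001 .nil .nil)) (.node 0x8280001 (.node 0x2b208280001 .nil .nil) .nil))) (.node 0x49c00000001 (.node 0x2cc00000001 (.node 1 (.node 0x8280001 .nil .nil) (.node 0x4f808280001 .nil .nil)) (.node 0xba00000001 (.node 0x8280001 .nil .nil) .nil)) (.node 0x4be00000001 (.node 1 (.node 0x8280001 .nil .nil) .nil)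 (.node 0x25208280001 (.node 0x8280001 .nil .nil) .nil)))))) (.node 1 (.node 0x7fe00000001 (.node 0x7ee00000001 (.node 1 (.node 0x41a00000001 (.node 0x30a00000001 (.node 0x45a08280001 .nil .nil) (.node 0x6408280001 .nil .nil)) (.node 0x66800000001 (.node 0x37608280001 .nil .nil) .nil)) (.node 0x16000000001 (.node 1 (.node 0x8280001 .nil .nil) (.node 0x8280001 .nil .nil)) (.node 0x8280001 (.node 0x8280001 .nil .nil) .nil))) (.node 1 (.node 128 (.node 1 (.node 0x78808280001 .nil .nil) (.node 0x8280001 .nil .nil)) (.node 0x4ee00000001 (.node 0x6d608280001 .nil .nil) .nil)) (.node 184 (.node 0x6c000000001 (.node 0x72608280001 .nil .nil) (.node 0x30a08280001 .nil .nil)) (.node 0x23808280001 (.node 0x8280001 .nil .nil) .nil)))) (.node 52 (.node 0x51c00000001 (.node 110 (.node 0x31600000001 (.node 0x8280001 .nil .nil) (.node 0x58008280001 .nil .nil)) (.node 0x59200000001 (.node 0x48008280001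 .nil .nil) .nil)) (.node 0x68400000001 (.node 1 (.node 0x33808280001 .nil .nil) (.node 0x78008280001 .nil .nil)) (.node 0x47808280001 (.node 0x8280001 .nil .nil) .nil))) (.node 0x1000000001 (.node 142 (.node 0x3a00000001 (.node 0x8280001 .nil .nil) (.node 0x4a808280001 .nil .nil)) (.node 1 (.node 0x35008280001 .nil .nil) .nil)) (.node 1 (.node 1 (.node 0x8280001 .nil .nil) (.node 0x2c208280001 .nil .nil)) (.node 0x8280001 (.node 0x8280001 .nil .nil) .nil))))) (.node 0x68600000001 (.node 0x43a00000001 (.node 0x5fa00000001 (.node 1 (.node 1 (.node 0x8280001 .nil .nil) (.node 0x68408280001 .nil .nil)) (.node 0x59c00000001 (.node 0xd408280001 .nil .nil) .nil)) (.node 0x2a000000001 (.node 1 (.node 0x8280001 .nil .nil) (.node 0x23c08280001 .nil .nil)) (.node 0x8280001 (.node 0x45c08280001 .nil .nil) .nil))) (.node 0x2c400000001 (.node 1 (.node 0x5d000000001 (.node 0x48c08280001 .nil .nil)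 (.node 0x8280001 .nil .nil)) (.node 0x36400000001 (.node 0x8280001 .nil .nil) .nil)) (.node 0x69e00000001 (.node 1 (.node 0x8280001 .nil .nil) (.node 0x7c08280001 .nil .nil)) (.node 0x8280001 (.node 0x75e08280001 .nil .nil) .nil)))) (.node 1 (.node 1 (.node 1 (.node 0x11c00000001 (.node 0x20e08280001 .nil .nil) (.node 0x67208280001 .nil .nil)) (.node 1 (.node 0x8280001 .nil .nil) .nil)) (.node 1 (.node 0x6fa00000001 (.node 0x52a08280001 .nil .nil) (.node 0x8280001 .nil .nil)) (.node 0x8280001 (.node 0x2808280001 .nil .nil) .nil))) (.node 1 (.node 1 (.node 0x32600000001 (.node 0x8280001 .nil .nil) (.node 0x8280001 .nil .nil)) (.node 0x8280001 (.node 0x62008280001 .nil .nil) .nil)) (.node 0x4ec00000001 (.node 320 (.node 0x5a808280001 .nil .nil) .nil) (.node 0x3e208280001 (.node 0x8280001 .nil .nil) .nil)))))))))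

/-- Data. -/
noncomputable def cand : Arr (ℕ) := (.node 0x54200000001 (.node 1 cand_0 cand_1) (.node 0x35a00000001 cand_2 cand_3))

/-- Data. -/
noncomputable def els : Arr (List ℕ) := (.node [] (.node [6,5,5,4,4,3,3,3] (.node [6,5,4,5,4,3,4,3,4,4,3,6] (.node [4,3,6,6,5,6,3,6] (.node [6,5,4,5,5,4,4,4,4,5] (.node [6,6,3,6,6,5,4,3,4,4,4,3] (.node [4,4,4,3,4,3,4,4,4,3,6,3] (.node [6,3,4,3,4,3,4,4,5,4] .nil .nil) (.node [3,6,3,4,4,3,4,5,5,4] .nil .nil)) (.node [3,4,4,4,4,3,3,6,3,4] (.node [4,3,6,3,4,5,4,4,3,3,3,3] .nil .nil) .nil)) (.node [4,4,4,3,4,4,3,4,5,4] (.node [4,3,4,4,5,5,5,4] (.node [6,5,4,5,6,6,6,5,6,3,6,3] .nil .nil) .nil) (.node [3,6,3,6,6,3,4,5,5,6,3,4] (.node [6,6,3,4,3,6,6,3,3,3] .nil .nil) .nil))) (.node [4,3,3,6,3,4,4,4,5,6,3,3] (.node [6,3,4,4,3,3,4,4,5,4,3,3] (.node [3,4,5,4,5,4,3,3] (.node [5,4,3,4,5,4,3,3,6,3] .nil .nil) .nil) (.node [3,3,6,5,4,4,3,6,6,3,4,4] (.node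 [4,5,5,5,4,5,6,6,6,3,4,3] .nil .nil) .nil)) (.node [4,3,4,3,3,6] (.node [4,5,4,4,3,4,5,4,4,5,6,3] (.node [6,3,4,4,3,4,4,4,3,4,5,4] .nil .nil) .nil) (.node [5,5,6,3,3,4,5,6,3,6,6,3] (.node [6,3,3,3,6,6,5,6] .nil .nil) .nil)))) (.node [4,5,4,3,4,4,4,3,3,6] (.node [4,4,3,4,3,3,6,5,4,3] (.node [3,6,5,5,4,4,5,5,4,3] (.node [3,6,3,4,4,5,4,4,3,6] (.node [4,4,5,5,4,3,6,6,3,3] .nil .nil) .nil) (.node [6,6,3,4,4,5,5,6,3,6,6,3] (.node [4,4,3,6,3,3,6,5,6,5,4,3] .nil .nil) .nil)) (.node [3,3,4,4,4,3,4,4,4,5] (.node [6,6,6,3,3,4,3,6,3,6,6,3] (.node [4,3,4,5,6,6,5,5,4,4,3,3] .nil .nil) .nil) (.node [4,5,6,3,4,5,6,6,3,3,6,3] (.node [4,5,6,3,6,6,6,3,6,5] .nil .nil) .nil))) (.node [5,4,4,3,4,4,4,3,4,3] (.node [4,4,5,6,5,4,5,4,4,3,3,3] (.node [4,5,4,4,4,5,5,6,3,3] (.node [4,5,6,6,6,5,5,4,3,6,3,3] .nil .nil) .nil) (.node [3,4,4,4,3,6,6,6] (.node [5,4,4,5,4,3,6,5,5,4,3,3] .nil .nil) .nil)) (.node [5,6,6,5,6,5,4,5]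 (.node [4,5,6,6,5,6,3,3,3,4] (.node [4,4,4,3,3,6,3,6,5,6,3,3] .nil .nil) .nil) (.node [6,3,4,5,4,5,4,4,4,5,4,4] (.node [6,6,3,3,4,4,4,3,4,3,6,3] .nil .nil) .nil))))) (.node [4,3,6,3,3,4,3,4,5,6] (.node [4,4,3,6,5,5,4,3,3,4,3,4] (.node [4,3,3,4,5,6,3,4,3,6] (.node [6,6,6,5,6,3,3,4,3,4,3,3] (.node [6,3,3,4,5,4,5,4,5,4,3,6] (.node [3,6,3,4,5,4,3,3,4,5] .nil .nil) .nil) (.node [3,4,4,3,4,5,6,3,4,4,4,3] (.node [5,6,3,6,5,6,3,3,4,3,4,4] .nil .nil) .nil)) (.node [4,4,4,3,6,6,5,4,3,3,6,5] (.node [4,5,6,3,6,6,5,6,6,6,3,3] (.node [3,6,3,3,4,4,3,4,4,5] .nil .nil) .nil) (.node [5,5,4,4,4,4,3,3] (.node [6,6,5,5,4,5,6,3] .nil .nil) .nil))) (.node [4,4,4,5,4,5,5,6,3,4] (.node [4,3,6,3,6,6,3,4,4,4,3,3] (.node [4,3,6,5,6,5,4,3,4,3,4,3] (.node [5,6,3,3,4,3,4,4,3,3,3,3] .nil .nil) .nil) (.node [6,6,3,6,3,3,3,3,4,4] (.node [4,5,5,6,6,6,5,6,3,6] .nil .nil) .nil)) (.node [3,4,5,4,5,6,6,6,3,3] (.node [6,6,5,6,6,5,5,4,3,6,6,3]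 (.node [4,3,3,3,6,3,3,4] .nil .nil) .nil) (.node [3,4,3,6,3,4,5,4,3,4] (.node [3,3,3,6,3,6,3,4,4,3,4,5] .nil .nil) .nil)))) (.node [3,6,3,4,3,4,4,3] (.node [5,6,5,6,5,6,3,4,3,4,5,6] (.node [4,5,4,4,3,4,4,5,6,3,3,3] (.node [4,5,6,6,3,6,3,4,4,3] (.node [6,3,4,5,5,4,4,4,4,3,3,3] .nil .nil) .nil) (.node [3,4,4,3,4,4,3,4,4,4,3,3] (.node [6,5,4,3,4,4,4,3,6,3,4,3] .nil .nil) .nil)) (.node [3,4,5,6,5,4,5,6,6,6] (.node [4,3,4,4,4,3,4,5,6,3] (.node [4,5,6,6,3,6,6,5,4,5] .nil .nil) .nil) (.node [6,3,4,3,4,3,6,5,6,5] (.node [5,6,6,5,5,4,3,3,4,5] .nil .nil) .nil))) (.node [6,5,6,5,4,3,6,6,3,4,3,3] (.node [6,3,6,3,4,3,4,3,4,3,4,4] (.node [3,4,3,6,5,4,5,4,4,3,4,3] (.node [3,4,5,4,5,4,5,6,6,3,3,4] .nil .nil) .nil) (.node [4,3,4,4,3,6,3,6,3,4] (.node [6,5,4,5,4,3,3,3,3,4] .nil .nil) .nil)) (.node [4,5,4,5,4,5,4,4,3,4,4,3] (.node [3,6,5,6,3,4,3,3,4,3,4,5] (.node [5,6,5,6,5,6,5,4,5,6] .nil .nil) .nil)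 (.node [3,4,5,5,6,3,4,4,5,6,6,6] (.node [3,4,3,6,6,5,6,3,3,6,3,3] .nil .nil) .nil)))))) (.node [3,3,4,4,5,4,4,5,5,4] (.node [6,6,3,4,5,6,6,3,4,3,6,3,6,3,3,3] (.node [6,5,6,3,4,3,6,6] (.node [3,6,5,4,4,3,6,5,4,4] (.node [4,4,5,4,3,6,5,5,4,5] (.node [6,6,6,3,4,3,3,4,4,4] (.node [6,3,6,3,6,3,6,3,6,3] .nil .nil) .nil) (.node [4,4,4,3,6,3,4,3,6,5] (.node [6,5,5,4,4,3,4,4,4,4,3,3] .nil .nil) .nil)) (.node [4,4,5,5,4,3,4,4,3,3] (.node [4,5,4,3,6,5,4,4,5,6,5,4] (.node [5,5,6,3,4,4,5,4,3,6] .nil .nil) .nil) (.node [3,6,5,6,3,4,4,5,6,5,4,3] (.node [3,6,3,3,4,5,6,3,6,6] .nil .nil) .nil))) (.node [3,3,6,3,4,5,5,6,6,3,4,5] (.node [5,4,3,6,3,3,4,4] (.node [4,3,4,4,5,6,5,6,3,4,4,3] (.node [4,5,5,4,5,6,5,6,3,4,4,3] .nil .nil) .nil) (.node [4,3,3,4,5,6,6,3,4,3,6,3] (.node [5,6,6,3,3,3,3,4,4,3] .nil .nil) .nil)) (.node [4,3,6,3,4,3,4,3,4,3] (.node [4,4,5,6,5,4,3,4] (.node [3,3,6,3,6,6,6,3,3,4] .nil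 .nil) .nil) (.node [4,5,6,6,5,6,5,6,3,6,3,4] (.node [4,3,6,6,5,6,5,6,5,6] .nil .nil) .nil)))) (.node [4,4,4,4,3,6,6,5,4,4,3,3] (.node [4,3,3,4,4,3,6,5,4,4,3,4,3,3] (.node [3,4,4,3,6,6,6,3,4,3,4,3] (.node [6,3,4,4,4,5,6,3,3,6,3,3] (.node [6,3,4,5,4,5,6,6,3,4,4,4] .nil .nil) .nil) (.node [6,6,3,4,3,4,4,4,4,3,3,4] (.node [5,6,6,6,5,6,5,4,5,5,6,3] .nil .nil) .nil)) (.node [4,5,4,3,4,3,6,6,3,6,3,3] (.node [4,4,4,5,6,6,6,5] (.node [4,3,6,3,4,3,6,6,5,6,6,3] .nil .nil) .nil) (.node [6,6,3,4,4,3,6,3,4,4,5,5] (.node [4,5,6,5,6,5,6,5,4,3,6,3] .nil .nil) .nil))) (.node [6,3,3,6,5,6,3,4,4,3] (.node [4,4,3,6,3,3,4,3,4,4,3,3] (.node [4,5,4,5,4,5,4,5,4,5] (.node [3,3,6,3,6,3,3,3] .nil .nil) .nil) (.node [6,3,6,5,6,6,6,3,4,3,6,5] (.node [3,3,3,6,6,5,4,5,4,3,4,5] .nil .nil) .nil)) (.node [3,3,6,6,5,4,5,6,6,5,4,4] (.node [6,3,6,6,5,6,5,6,5,4] (.node [6,6,6,3,4,3,6,3,3,4,3,4,3,3] .nil .nil) .nil) (.node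 [5,4,4,3,4,4,5,5,4,4,3,3,3,3] (.node [6,3,4,4,3,6,6,5,4,4,3,4] .nil .nil) .nil))))) (.node [3,6,6,5,6,5,6,3,6,6] (.node [5,6,3,4,3,4,3,3,6,6] (.node [6,6,3,6,3,6,6,3,3,6] (.node [4,3,6,5,6,5,6,6,3,6,3,3] (.node [3,4,5,5,4,5,6,3,6,3,4,4,3,3] (.node [4,5,4,3,4,4,5,6] .nil .nil) .nil) (.node [4,3,6,3,6,6,3,6,3,3] (.node [3,4,3,4,4,4,5,4] .nil .nil) .nil)) (.node [4,4,4,3,6,5,6,6,5,4] (.node [4,3,4,3,4,3,4,4,5,6] (.node [5,6,3,4,3,6,6,5,4,3,4,5] .nil .nil) .nil) (.node [3,4,3,4,3,4,4,3,3,6,3,3] (.node [6,6,5,4,4,4,4,5,6,6,3,4] .nil .nil) .nil))) (.node [6,3,3,6,6,3,6,6,5,5] (.node [4,5,6,3,4,3,3,6,5,6,6,3] (.node [6,3,6,6,3,4,4,3,3,6,3,3] (.node [6,3,3,6,3,3,4,4,4,3] .nil .nil) .nil) (.node [3,6,6,5,6,6,5,5,4,5] (.node [3,6,5,4,5,4,3,4,4,5,4,3] .nil .nil) .nil)) (.node [6,3,6,6,6,5,6,5] (.node [4,4,3,3,4,4,4,5,5,4,3,3] (.node [4,5,6,6,5,6,3,4,4,3,3,3] .nil .nil) .nil) (.node [4,4,3,6,6,5,6,5,4,3,4,5]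 (.node [4,5,6,3,3,4,4,4,4,5,4,3] .nil .nil) .nil)))) (.node [6,5,4,5,6,3,6,6,3,4,5,5,4,3] (.node [3,4,3,3,4,3,6,6,5,4] (.node [6,3,4,4,5,6,3,4,3,3] (.node [6,5,6,3,3,4,4,5,4,3,3,4] (.node [4,3,4,3,4,4,4,5,5,6,3,3] .nil .nil) .nil) (.node [3,4,4,4,3,6,5,6,5,4,3,4] (.node [4,4,5,4,3,4,3,4,4,5] .nil .nil) .nil)) (.node [6,3,3,4,5,6,6,3,6,6,3,4] (.node [4,5,6,5,6,3,4,3,6,3] (.node [4,5,6,3,6,6,5,4,3,3] .nil .nil) .nil) (.node [6,6,3,6,3,3,4,5,6,3] (.node [6,3,4,4,5,5,4,3,6,3,4,3] .nil .nil) .nil))) (.node [6,3,4,4,5,4,5,6,3,4,3,4] (.node [6,6,5,4,5,6,3,6,3,4,4,3,3,3] (.node [3,4,4,5,6,3,3,4,4,4,4,3] (.node [3,6,5,5,6,3,3,4,4,3] .nil .nil) .nil) (.node [6,5,4,3,3,4,4,4,4,5] (.node [6,5,4,5,4,5,6,6,5,6] .nil .nil) .nil)) (.node [3,3,3,6,3,4,5,6,3,3] (.node [3,4,4,4,4,5,5,6,3,4] (.node [5,6,3,4,4,3,6,3,3,4,4,4] .nil .nil) .nil) (.node [6,3,6,5,4,5,5,6,6,3,4,4] (.node [5,6,3,3,6,6,6,5,5,4,4,3]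 .nil .nil) .nil)))))))

/-- Data. -/
def numEls : ℕ := 192

/-- Data. -/
noncomputable def tWords_0 : Arr (List ℕ) := (.node [3,3,6,5,4,4,4,3,4,3,4,2,6,5,6,5,6,6,6,3,4,5,5] (.node [3,3,6,5,6,6,5,4,5,4,5,2,3,6,3,6,3,4,4,3,4,5,5] (.node [4,5,6,6,5,4,5,6,5,4,3,2,5,6,3,4,3,6,3,4,4,3,6] (.node [6,3,4,5,6,6,6,5,4,4,3,3,2,5,5,6,6,3,4,4,4,3,6,5,4] (.node [4,3,6,5,6,3,4,4,4,5,4,2,6,3,6,6,6,5,4,3,4,5,6] (.node [4,4,3,6,6,3,3,3,6,3,3,2,5,5,4,5,5,5,4,4,5,6,6] (.node [5,5,4,5,6,3,6,6,3,4,2,6,5,4,4,5,4,3,6,3,3] (.node [5,4,4,5,4,4,5,6,5,2,3,4,3,6,6,3,6,6,3] (.node [6,6,5,4,4,4,3,2,5,6,6,6,3,4,4] .nil .nil) .nil) (.node [6,3,6,3,3,4,5,6,3,2,5,4,3,6,5,5,4,5,4] .nil .nil)) (.node [5,6,6,6,3,3,6,6,5,6,6,6,3,2,5,4,4,4,3,4,4,5,5,4,4,4,3] (.node [3,4,3,4,5,6,5,6,2,4,3,4,3,6,5,6,5] (.node [5,4,3,6,5,6,6,5,5,6,6,3,2,5,4,4,3,3,4,4,3,4,5,6,3] .nil .nil) .nil) (.node [4,5,5,4,4,4,4,3,4,3,2,5,6,5,6,6,6,6,3,3,6]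 .nil .nil))) (.node [5,6,3,6,3,4,5,6,3,2,5,4,3,6,5,4,5,4,3] (.node [3,3,6,3,4,3,3,6,6,3,4,3,4,2,6,5,6,5,4,4,5,5,6,5,4,5,5] (.node [4,3,4,5,5,6,3,3,4,4,2,6,6,5,5,4,3,3,6,5,6] (.node [6,3,6,6,6,5,4,3,6,3,4,3,2,5,6,5,4,5,6,3,4,4,4,5,4] .nil .nil) .nil) (.node [6,3,6,5,4,3,3,4,3,4,3,3,2,5,5,6,5,6,5,5,6,3,4,5,4] .nil .nil)) (.node [3,6,5,4,4,4,4,3,6,3,3,3,2,5,5,5,4,5,6,6,6,6,3,4,5] (.node [4,4,3,6,5,4,3,6,3,4,3,2,5,6,5,4,5,6,3,4,5,6,6] (.node [3,6,3,4,3,4,3,6,3,6,3,2,5,4,5,4,5,6,5,6,5,4,5] .nil .nil) .nil) (.node [4,4,5,6,3,4,3,3,4,4,4,3,2,5,6,6,6,5,5,6,5,4,3,6,6] .nil .nil)))) (.node [6,5,4,5,4,4,3,3,4,5,6,3,3,2,5,5,4,3,6,5,5,6,6,3,6,3,4] (.node [3,4,4,4,5,4,3,6,3,4,4,2,6,6,5,4,5,6,3,6,6,6,5] (.node [4,4,5,6,5,6,5,6,3,4,3,2,5,6,5,4,3,4,3,4,3,6,6] (.node [4,5,6,5,4,5,6,3,3,2,5,5,4,3,6,3,4,3,6] (.node [3,6,6,6,5,6,6,2,4,4,3,4,4,4,5] .nil .nil) .nil) (.node [3,6,3,3,4,4,3,4,5,2,3,6,5,6,6,5,5,4,5]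 .nil .nil)) (.node [4,5,6,6,6,5,6,5,4,5,2,3,6,3,4,3,4,4,4,3,6] (.node [5,6,3,4,3,3,4,5,6,3,2,5,4,3,6,5,5,6,5,4,3] (.node [4,3,4,3,6,6,3,4,5,6,6,2,4,4,3,6,5,4,4,5,6,5,6] .nil .nil) .nil) (.node [5,5,4,5,6,5,4,3,6,5,4,3,2,5,6,3,4,5,6,3,4,3,6,3,3] .nil .nil))) (.node [3,4,5,4,4,3,6,6,3,3,6,3,4,2,6,5,4,5,5,4,4,5,6,6,3,6,5] (.node [5,4,3,6,5,4,3,4,5,6,2,4,3,6,5,6,3,4,5,6,3] (.node [6,3,6,6,3,6,6,6,5,4,3,2,5,6,3,4,4,4,5,4,4,5,4] (.node [6,3,6,3,3,4,5,6,2,4,3,6,5,5,4,5,4] .nil .nil) .nil) (.node [4,5,5,4,4,5,4,2,6,3,6,6,3,3,6] .nil .nil)) (.node [5,4,3,6,3,4,4,5,5,4,3,4,2,6,5,6,3,3,6,6,5,4,5,6,3] (.node [4,5,6,3,6,3,6,3,6,5,2,3,4,5,4,5,4,5,4,3,6] (.node [5,4,4,4,5,6,6,6,5,2,3,4,4,4,3,6,6,6,3] .nil .nil) .nil) (.node [5,6,3,4,5,4,5,6,5,2,3,4,3,6,3,6,5,4,3] .nil .nil))))) (.node [3,4,4,4,3,4,4,5,5,6,2,4,3,3,6,6,5,6,6,6,5] (.node [4,3,4,5,4,5,5,2,3,3,6,3,6,5,6] (.node [4,4,5,6,6,5,4,4,5,6,2,4,3,6,6,3,4,4,3,6,6]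 (.node [4,4,5,4,4,5,6,5,6,3,2,5,4,3,4,3,6,6,3,6,6] (.node [3,4,5,5,4,4,5,4,5,2,3,6,3,6,6,3,3,6,5] (.node [6,6,5,6,6,5,5,6,3,3,4,3,2,5,6,5,5,4,3,3,4,4,3,4,4] .nil .nil) .nil) (.node [6,3,6,3,4,3,6,5,6,5,2,3,4,3,4,5,6,5,4,5,4] .nil .nil)) (.node [4,5,4,5,5,4,4,5,6,3,2,5,4,3,6,6,3,3,6,3,6] (.node [4,5,5,4,4,4,4,5,5,6,2,4,3,3,6,6,6,6,3,3,6] (.node [6,6,6,5,4,5,4,3,6,6,3,2,5,4,4,5,6,3,6,3,4,4,4] .nil .nil) .nil) (.node [3,4,5,5,4,4,4,4,3,4,3,2,5,6,5,6,6,6,6,3,3,6,5] .nil .nil))) (.node [5,6,3,3,3,4,4,4,4,3,4,3,2,5,6,5,6,6,6,6,5,5,5,4,3] (.node [4,5,6,3,4,3,4,5,4,3,3,2,5,5,6,3,6,5,6,5,4,3,6] (.node [6,6,5,4,5,6,5,4,3,4,4,2,6,6,5,6,3,4,3,6,3,4,4] (.node [5,6,3,6,3,6,6,3,4,4,4,3,2,5,6,6,6,5,4,4,5,4,5,4,3] .nil .nil) .nil) (.node [4,4,5,6,5,6,6,5,4,5,2,3,6,3,4,4,3,4,3,6,6] .nil .nil)) (.node [4,2,6] (.node [4,5,6,5,4,4,4,3,4,2,6,5,6,6,6,3,4,3,6] (.node [6,3,6,3,4,4,4,5,6,6,6,5,2,3,4,4,4,3,6,6,6,5,4,5,4]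 .nil .nil) .nil) (.node [6,3,6,6,3,6,6,6,5,4,5,4,2,6,3,6,3,4,4,4,5,4,4,5,4] .nil .nil)))) (.node [3,4,3,6,3,4,4,4,3,4,3,2,5,6,5,6,6,6,5,4,5,6,5] (.node [4,3,4,4,5,4,4,3,3,6,2,4,5,5,6,6,3,6,6,5,6] (.node [3,4,4,2,6,6,5] (.node [5,6,5,6,6,5,4,5,5,4,5,2,3,6,3,3,6,3,4,4,3,4,3] (.node [4,3,3,4,4,3,3,4,5,4,2,6,3,6,5,5,6,6,5,5,6] .nil .nil) .nil) (.node [5,6,3,6,6,5,4,4,3,6,5,2,3,4,5,6,6,3,4,4,5,4,3] .nil .nil)) (.node [4,3,6,6,5,4,5,5,4,4,2,6,6,3,3,6,3,4,4,5,6] (.node [5,4,5,4,5,4,3,2,5,6,3,6,3,6,3] (.node [3,6,3,4,3,4,3,6,3,6,2,4,5,4,5,6,5,6,5,4,5] .nil .nil) .nil) (.node [4,3,4,3,3,6,3,6,3,2,5,4,5,4,5,5,6,5,6] .nil .nil))) (.node [3,4,3,2,5,6,5] (.node [5,4,4,5,4,4,5,6,5,6,3,4,2,6,5,4,3,4,3,6,6,3,6,6,3] (.node [4,4,2,6,6] (.node [3,6,3,4,3,4,3,4,3,3,6,3,3,2,5,5,4,5,5,6,5,6,5,6,5,4,5] .nil .nil) .nil) (.node [4,3,4,3,6,3,6,5,6,3,3,3,2,5,5,5,4,3,4,5,4,5,6,5,6] .nil .nil)) (.node [3,4,4,4,5,5,4,4,3,4,4,2,6,6,5,6,6,3,3,6,6,6,5]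 (.node [5,5,5,4,4,3,4,3,4,5,2,3,6,5,6,5,6,6,3,3,3] .nil .nil) (.node [5,4,4,3,3,4,4,5,6,2,4,3,6,6,5,5,6,6,3] .nil .nil)))))) (.node [5,6,5,6,5,6,6,3,6,6,6,3,3,3,2,5,5,5,4,4,4,5,4,4,3,4,3,4,3] (.node [3,4,4,4,5,4,3,6,3,4,4,3,2,5,6,6,5,4,5,6,3,6,6,6,5] (.node [3,3,4,4,5,6,3,6,5,2,3,4,5,4,3,6,6,5,5] (.node [4,3,6,6,3,4,5,6,5,2,3,4,3,6,5,4,4,5,6] (.node [4,5,6,5,6,6,5,4,5,2,3,6,3,4,4,3,4,3,6] (.node [6,6,6,5,4,3,3,6,6,3,3,2,5,5,4,4,5,5,6,3,4,4,4] (.node [4,4,5,6,3,4,5,5,6,6,3,2,5,4,4,3,3,6,5,4,3,6,6] .nil .nil) .nil) (.node [3,4,5,5,4,4,4,4,3,4,3,3,2,5,5,6,5,6,6,6,6,3,3,6,5] .nil .nil)) (.node [5,5,4,4,5,5,6,6,3,6,3,2,5,4,5,4,4,3,3,6,6,3,3] (.node [6,5,6,6,5,5,4,5,4,3,2,5,6,3,6,3,3,4,4,3,4] (.node [5,6,6,6,5,5,4,4,3,6,3,3,2,5,5,4,5,6,6,3,3,4,4,4,3] .nil .nil) .nil) (.node [4,3,6,6,3,3,4,4,3,4,2,6,5,6,6,5,5,4,4,5,6] .nil .nil))) (.node [4,4,5,6,6,3,6,5,4,4,3,3,2,5,5,6,6,3,4,5,4,4,3,6,6]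 (.node [3,4,4,5,6,3,6,3,6,6,3,2,5,4,4,5,4,5,4,3,6,6,5] (.node [5,6,3,4,3,3,6,5,6,6,6,3,2,5,4,4,4,3,4,5,5,6,5,4,3] (.node [3,6,3,3,4,4,5,5,6,3,3,2,5,5,4,3,3,6,6,5,5,4,5] .nil .nil) .nil) (.node [3,3,3,6,3,4,5,2,3,6,5,4,5,5,5] .nil .nil)) (.node [5,4,3,6,5,4,3,4,3,3,4,2,6,5,5,6,5,6,3,4,5,6,3] (.node [5,4,5,4,3,3,4,4,3,4,2,6,5,6,6,5,5,6,3,6,3] (.node [4,5,6,3,4,3,3,4,4,4,3,2,5,6,6,6,5,5,6,5,4,3,6] .nil .nil) .nil) (.node [3,4,4,5,4,4,3,3,6,2,4,5,5,6,6,3,6,6,5] .nil .nil)))) (.node [4,5,4,3,6,3,6,5,4,3,2,5,6,3,4,5,4,5,6,3,6] (.node [3,6,5,5,6,3,6,6,3,3,2,5,5,4,4,5,4,3,3,4,5] (.node [6,5,6,5,6,6,3,6,6,6,3,3,3,2,5,5,5,4,4,4,5,4,4,3,4,3,4] (.node [3,3,3,6,6,6,5,6,3,4,4,4,2,6,6,6,5,4,3,4,4,4,5,5,5] (.node [4,3,6,6,3,6,6,6,3,3,2,5,5,4,4,4,5,4,4,5,6] .nil .nil) .nil) (.node [4,3,6,3,6,5,6,3,2,5,4,3,4,5,4,5,6] .nil .nil)) (.node [3,4,4,5,6,6,6,3,4,4,4,3,2,5,6,6,6,5,4,4,4,3,6,6,5] (.node [6,3,3,6,5,4,5,4,3,3,2,5,5,6,3,6,3,4,5,5,4]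 (.node [5,6,3,6,6,5,4,3,4,5,5,2,3,3,6,5,6,3,4,4,5,4,3] .nil .nil) .nil) (.node [4,3,3,6,5,4,4,5,5,6,3,2,5,4,3,3,6,6,3,4,5,5,6] .nil .nil))) (.node [3,6,3,4,3,4,5,6,6,3,2,5,4,4,3,6,5,6,5,4,5] (.node [4,4,5,5,4,4,3,4,4,4,3,2,5,6,6,6,5,6,6,3,3,6,6] (.node [6,3,3,4,3,4,5,6,6,6,3,3,3,2,5,5,5,4,4,4,3,6,5,6,5,5,4] (.node [3,6,3,4,3,6,3,6,5,4,2,6,3,4,5,4,5,6,5,4,5] .nil .nil) .nil) (.node [3,6,5,6,3,3,4,3,4,4,3,2,5,6,6,5,6,5,5,4,3,4,5] .nil .nil)) (.node [4,5,5,4,4,4,4,3,4,3,3,2,5,5,6,5,6,6,6,6,3,3,6] (.node [3,6,6,5,4,4,4,2,6,6,6,3,4,4,5] (.node [4,5,6,5,6,6,5,4,2,6,3,4,4,3,4,3,6] .nil .nil) .nil) (.node [6,3,4,5,6,6,6,3,3,6,3,2,5,4,5,5,4,4,4,3,6,5,4] .nil .nil))))) (.node [5,4,4,4,5,6,6,6,5,4,2,6,3,4,4,4,3,6,6,6,3] (.node [4,5,6,5,6,6,5,4,5,4,2,6,3,6,3,4,4,3,4,3,6] (.node [6,3,3,6,3,6,6,3,6,3,4,2,6,5,4,5,4,4,5,4,5,5,4] (.node [3,6,5,6,5,6,3,4,5,5,6,2,4,3,3,6,5,4,3,4,3,4,5] (.node [6,5,4,3,6,3,6,5,4,4,3,4,2,6,5,6,6,3,4,5,4,5,6,3,4]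 (.node [3,6,6,5,6,5,6,5,4,4,5,2,3,6,6,3,4,3,4,3,4,4,5] .nil .nil) .nil) (.node [3,4,4,5,4,4,3,3,2,5,5,6,6,3,6,6,5] .nil .nil)) (.node [6,3,3,3,4,4,3,4,4,2,6,6,5,6,6,5,5,5,4] (.node [4,3,4,4,5,5,6,3,6,6,3,4,3,2,5,6,5,4,4,5,4,3,3,6,6,5,6] (.node [6,5,5,6,6,3,3,4,4,2,6,6,5,5,4,4,3,3,4] .nil .nil) .nil) (.node [4,3,6,6,3,4,3,3,4,3,2,5,6,5,5,6,5,4,4,5,6] .nil .nil))) (.node [4,4,5,4,4,5,6,5,2,3,4,3,6,6,3,6,6] (.node [3,3,6,5,6,5,2,3,4,3,4,5,5] (.node [5,6,5,6,6,5,4,3,2,5,6,3,4,4,3,4,3] (.node [3,3,3,6,6,3,6,6,5,5,4,5,2,3,6,3,3,4,4,5,4,4,5,5,5] .nil .nil) .nil) (.node [4,3,6,3,6,6,6,5,4,2,6,3,4,4,4,5,4,5,6] .nil .nil)) (.node [5,6,6,6,3,4,3,6,6,5,4,4,2,6,6,3,4,4,5,6,5,4,4,4,3] (.node [6,6,3,6,6,3,6,6,5,6,5,2,3,4,3,4,4,5,4,4,5,4,4] (.node [6,3,6,3,3,4,5,6,3,3,2,5,5,4,3,6,5,5,4,5,4] .nil .nil) .nil) (.node [4,4,5,5,4,4,4,4,3,4,3,2,5,6,5,6,6,6,6,3,3,6,6] .nil .nil)))) (.node [6,5,4,3,6,6,3,3,6,6,5,2,3,4,4,5,5,4,4,5,6,3,4]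 (.node [4,4,3,3,6,5,4,4,2,6,6,3,4,5,5,6,6] (.node [3,6,6,3,6,6,6,5,4,2,6,3,4,4,4,5,4,4,5] (.node [6,5,6,3,4,3,6,5,4,3,4,3,2,5,6,5,6,3,4,5,6,5,4,3,4] (.node [3,4,3,6,3,6,5,6,3,6,2,4,5,4,3,4,5,4,5,6,5] .nil .nil) .nil) (.node [5,4,4,5,4,4,5,6,5,6,2,4,3,4,3,6,6,3,6,6,3] .nil .nil)) (.node [6,3,4,4,3,6,5,4,5,4,4,2,6,6,3,6,3,4,5,6,6,5,4] (.node [6,3,6,6,3,6,6,6,5,4,2,6,3,4,4,4,5,4,4,5,4] (.node [3,3,6,5,6,5,4,2,6,3,4,3,4,5,5] .nil .nil) .nil) (.node [4,5,6,5,6,3,3,6,6,5,4,4,3,2,5,6,6,3,4,4,5,5,4,3,4,3,6] .nil .nil))) (.node [5,5,4,5,6,3,6,6,3,4,5,2,3,6,5,4,4,5,4,3,6,3,3] (.node [6,5,6,3,6,3,3,6,3,6,6,3,3,2,5,5,4,4,5,4,5,5,4,5,4,3,4] (.node [4,3,6,3,6,5,6,3,6,2,4,5,4,3,4,5,4,5,6] (.node [6,6,5,4,4,4,2,6,6,6,3,4,4] .nil .nil) .nil) (.node [5,6,3,4,3,6,6,6,5,4,2,6,3,4,4,4,5,6,5,4,3] .nil .nil)) (.node [5,6,6,5,5,4,5,5,4,5,2,3,6,3,3,6,3,3,4,4,3] (.node [6,3,6,3,4,4,5,6,3,4,3,2,5,6,5,4,3,6,6,5,4,5,4]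 .nil .nil) (.node [5,6,6,6,3,6,3,6,6,3,2,5,4,4,5,4,5,4,4,4,3] .nil .nil))))))) (.node [5,4,4,4,5,6,6,6,2,4,4,4,3,6,6,6,3] (.node [3,6,6,5,6,3,6,5,6,3,3,2,5,5,4,3,4,5,4,3,4,4,5] (.node [5,5,4,5,4,3,4,4,3,4,3,2,5,6,5,6,6,5,6,3,6,3,3] (.node [5,4,5,6,3,6,3,4,4,3,4,2,6,5,6,6,5,4,5,4,3,6,3] (.node [5,6,5,6,6,5,4,2,6,3,4,4,3,4,3] (.node [5,4,3,4,5,6,5,4,4,3,6,3,2,5,4,5,6,6,3,4,3,6,5,6,3] (.node [5,5,4,3,3,6,5,6,6,6,5,2,3,4,4,4,3,4,5,5,6,3,3] (.node [3,3,4,4,5,4,4,3,3,6,2,4,5,5,6,6,3,6,6,5,5] .nil .nil) .nil) (.node [4,5,6,3,4,3,3,4,5,6,2,4,3,6,5,5,6,5,4,3,6] .nil .nil)) (.node [6,5,4,3,6,5,6,3,4,3,2,5,6,5,4,3,4,5,6,3,4] (.node [4,4,4,5,6,6,6,5,4,2,6,3,4,4,4,3,6,6,6] (.node [4,4,5,4,4,5,6,5,6,2,4,3,4,3,6,6,3,6,6] .nil .nil) .nil) (.node [4,3,3,6,3,4,3,6,3,6,3,3,3,2,5,5,5,4,5,4,5,6,5,4,5,5,6] .nil .nil))) (.node [6,3,6,5,4,3,6,3,4,4,3,2,5,6,6,5,4,5,6,3,4,5,4] (.node [4,5,5,4,4,5,4,4,2,6,6,3,6,6,3,3,6]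 (.node [5,5,4,3,3,4,4,4,5,5,4,2,6,3,3,6,6,6,5,5,6,3,3] (.node [3,2,5] .nil .nil) .nil) (.node [5,4,4,5,4,4,5,6,5,6,3,2,5,4,3,4,3,6,6,3,6,6,3] .nil .nil)) (.node [3,6,6,3,6,6,6,5,4,3,2,5,6,3,4,4,4,5,4,4,5] (.node [4,4,5,5,4,4,3,6,2,4,5,6,6,3,3,6,6] (.node [4,4,5,4,5,5,4,3,4,5,5,2,3,3,6,5,6,3,3,6,3,6,6] .nil .nil) .nil) (.node [4,3,6,6,5,4,5,5,4,4,5,2,3,6,6,3,3,6,3,4,4,5,6] .nil .nil)))) (.node [5,5,4,4,4,4,3,2,5,6,6,6,6,3,3] (.node [4,3,4,5,6,6,3,3,4,4,4,3,2,5,6,6,6,5,5,4,4,3,6,5,6] (.node [6,6,3,4,5,4,4,3,3,4,2,6,5,5,6,6,3,6,5,4,4] (.node [4,3,3,6,3,4,3,6,3,6,3,3,2,5,5,4,5,4,5,6,5,4,5,5,6] (.node [6,5,6,6,5,4,2,6,3,4,4,3,4] .nil .nil) .nil) (.node [5,5,4,4,5,5,6,6,3,6,2,4,5,4,4,3,3,6,6,3,3] .nil .nil)) (.node [6,5,6,6,5,5,4,5,4,3,3,2,5,5,6,3,6,3,3,4,4,3,4] (.node [6,5,6,6,5,4,5,2,3,6,3,4,4,3,4] (.node [3,3,4,2,6,5,5] .nil .nil) .nil) (.node [3,4,4,5,4,4,3,3,6,3,4,2,6,5,4,5,5,6,6,3,6,6,5]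 .nil .nil))) (.node [4,4,4,5,4,4,5,6,5,2,3,4,3,6,6,3,6,6,6] (.node [4,4,3,6,3,6,5,6,3,6,2,4,5,4,3,4,5,4,5,6,6] (.node [6,3,3,6,3,4,3,3,6,3,4,3,2,5,6,5,4,5,5,6,5,4,5,5,4] (.node [6,3,4,5,6,6,6,3,3,2,5,5,4,4,4,3,6,5,4] .nil .nil) .nil) (.node [4,3,4,2,6,5,6] .nil .nil)) (.node [3,3,3,6,6,3,6,6,5,5,4,2,6,3,3,4,4,5,4,4,5,5,5] (.node [4,3,6,3,6,5,6,3,6,3,2,5,4,5,4,3,4,5,4,5,6] (.node [3,6,5,5,4,3,6,5,6,5,2,3,4,3,4,5,6,3,3,4,5] .nil .nil) .nil) (.node [6,5,5,4,5,6,6,3,6,5,5,2,3,3,4,5,4,4,3,6,3,3,4] .nil .nil))))) (.node [3,3,2,5,5] (.node [4,3,4,3,3,6,3,6,6,3,2,5,4,4,5,4,5,5,6,5,6] (.node [6,5,5,6,3,4,4,3,3,4,3,2,5,6,5,5,6,6,5,4,3,3,4] (.node [5,6,5,6,6,5,4,5,4,2,6,3,6,3,4,4,3,4,3] (.node [4,4,5,5,4,4,3,6,3,2,5,4,5,6,6,3,3,6,6] (.node [6,6,3,6,3,4,3,6,5,6,2,4,3,4,5,6,5,4,5,4,4] .nil .nil) .nil) (.node [6,3,6,3,3,4,5,2,3,6,5,5,4,5,4] .nil .nil)) (.node [6,5,6,6,5,5,4,5,4,3,6,2,4,5,6,3,6,3,3,4,4,3,4]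 (.node [6,3,6,5,6,5,4,5,4,2,6,3,6,3,4,3,4,5,4] (.node [4,4,4,5,6,6,5,4,5,5,6,3,2,5,4,3,3,6,3,4,4,3,6,6,6] .nil .nil) .nil) (.node [5,6,5,6,6,5,4,5,5,4,2,6,3,3,6,3,4,4,3,4,3] .nil .nil))) (.node [5,5,4,4,5,4,5,6,3,6,5,2,3,4,5,4,3,6,3,6,6,3,3] (.node [4,3,3,6,3,4,3,6,3,6,3,2,5,4,5,4,5,6,5,4,5,5,6] (.node [4,3,3,2,5,5,6] (.node [4,3,3,6,6,5,6,6,3,3,4,4,3,2,5,6,6,5,5,4,4,3,4,4,5,5,6] .nil .nil) .nil) (.node [3,6,3,6,3,3,4,5,6,2,4,3,6,5,5,4,5,4,5] .nil .nil)) (.node [4,5,4,4,3,6,3,4,4,3,2,5,6,6,5,4,5,6,6,3,6] (.node [6,3,6,6,5,6,5,4,5,4,5,2,3,6,3,6,3,4,3,4,4,5,4] (.node [4,3,2,5,6] .nil .nil) .nil) (.node [3,4,4,5,4,4,5,6,5,6,2,4,3,4,3,6,6,3,6,6,5] .nil .nil)))) (.node [6,3,4,3,3,6,3,3,4,3,6,3,2,5,4,5,6,5,5,4,5,5,6,5,4] (.node [4,4,4,5,4,4,5,5,6,6,3,3,2,5,5,4,4,3,3,6,6,3,6,6,6] (.node [6,3,6,6,5,6,5,6,5,4,4,2,6,6,3,4,3,4,3,4,4,5,4] (.node [3,3,4,5,6,6,6,5,4,4,4,3,2,5,6,6,6,3,4,4,4,3,6,5,5]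 (.node [6,3,6,3,6,6,6,3,2,5,4,4,4,5,4,5,4] .nil .nil) .nil) (.node [6,3,6,5,6,5,6,3,4,5,5,2,3,3,6,5,4,3,4,3,4,5,4] .nil .nil)) (.node [3,4,5,5,6,6,5,4,3,4,2,6,5,6,3,4,4,3,3,6,5] (.node [4,4,5,6,6,6,5,6,5,4,5,2,3,6,3,4,3,4,4,4,3,6,6] (.node [6,5,5,4,3,4,4,5,4,5,4,3,2,5,6,3,6,3,6,6,5,6,3,3,4] .nil .nil) .nil) (.node [5,6,6,5,4,5,2,3,6,3,4,4,3] .nil .nil))) (.node [5,5,4,3,4,5,6,3,4,3,4,3,2,5,6,5,6,5,4,3,6,5,6,3,3] (.node [6,6,5,6,6,6,2,4,4,4,3,4,4] (.node [4,3,4,3,6,6,3,6,6,3,2,5,4,4,5,4,4,5,6,5,6] (.node [3,6,3,3,3,6,3,4,4,3,2,5,6,6,5,4,5,5,5,4,5] .nil .nil) .nil) (.node [5,6,5,6,5,4,3,4,3,3,4,3,2,5,6,5,5,6,5,6,3,4,3,4,3] .nil .nil)) (.node [6,3,6,5,4,3,3,4,3,4,3,2,5,6,5,6,5,5,6,3,4,5,4] (.node [6,5,4,3,6,3,3,4,4,2,6,6,5,5,4,5,6,3,4] .nil .nil) (.node [4,4,3,4,4,3,4,3,6,3,3,4,3,2,5,6,5,5,4,5,6,5,6,6,5,6,6] .nil .nil)))))) (.node [3,3,4,4,3,3,4,5,4,3,2,5,6,3,6,5,5,6,6,5,5] (.node [5,5,6,6,5,4,3,6,5,6,3,2,5,4,3,4,5,6,3,4,4,3,3]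 (.node [6,5,4,3,3,4,4,4,5,4,5,2,3,6,3,6,6,6,5,5,6,3,4] (.node [4,3,4,3,3,6,3,6,6,2,4,4,5,4,5,5,6,5,6] (.node [4,3,6,6,3,6,5,4,3,3,3,3,2,5,5,5,5,6,3,4,5,4,4,5,6] (.node [5,6,5,6,6,5,4,5,2,3,6,3,4,4,3,4,3] (.node [3,6,5,6,6,5,4,4,3,3,2,5,5,6,6,3,4,4,3,4,5] .nil .nil) .nil) (.node [3,4,4,3,6,3,6,5,4,5,4,2,6,3,6,3,4,5,4,5,6,6,5] .nil .nil)) (.node [3,4,4,5,4,4,3,3,6,3,2,5,4,5,5,6,6,3,6,6,5] (.node [3,6,6,3,4,4,4,5,4,3,2,5,6,3,6,6,6,5,4,4,5] (.node [4,5,4,5,5,4,4,5,6,2,4,3,6,6,3,3,6,3,6] .nil .nil) .nil) (.node [6,3,3,6,3,4,4,4,3,6,2,4,5,6,6,6,5,4,5,5,4] .nil .nil))) (.node [4,4,3,3,2,5,5,6,6] (.node [4,4,3,2,5,6,6] (.node [3,4,3,6,6,3,4,3,3,4,3,2,5,6,5,5,6,5,4,4,5,6,5] (.node [6,3,6,5,4,3,3,3,6,3,6,2,4,5,4,5,5,5,6,3,4,5,4] .nil .nil) .nil) (.node [6,5,6,6,5,5,4,5,4,3,4,2,6,5,6,3,6,3,3,4,4,3,4] .nil .nil)) (.node [5,6,5,6,3,4,5,6,3,3,4,2,6,5,5,4,3,6,5,4,3,4,3] (.node [6,5,6,3,3,3,4,4,4,5,5,4,2,6,3,3,6,6,6,5,5,5,4,3,4]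 (.node [5,6,3,4,5,4,3,3,4,3,2,5,6,5,5,6,3,6,5,4,3] .nil .nil) .nil) (.node [5,6,3,4,3,3,4,5,6,2,4,3,6,5,5,6,5,4,3] .nil .nil)))) (.node [4,4,3,6,5,5,4,3,4,3,4,3,2,5,6,5,6,5,6,3,3,4,5,6,6] (.node [5,4,4,5,4,4,5,6,5,6,3,3,2,5,5,4,3,4,3,6,6,3,6,6,3] (.node [5,5,4,4,4,4,5,5,4,3,6,3,2,5,4,5,6,3,3,6,6,6,6,3,3] (.node [3,6,5,4,3,4,5,5,4,5,4,3,2,5,6,3,6,3,3,6,5,6,3,4,5] (.node [5,4,4,3,6,3,4,4,4,3,6,2,4,5,6,6,6,5,4,5,6,6,3] .nil .nil) .nil) (.node [3,6,3,3,4,5,6,3,2,5,4,3,6,5,5,4,5] .nil .nil)) (.node [2] (.node [3,6,6,5,4,3,4,3,3,2,5,5,6,5,6,3,4,4,5] (.node [5,5,4,3,3,6,5,6,6,6,2,4,4,4,3,4,5,5,6,3,3] .nil .nil) .nil) (.node [3,6,3,3,4,4,3,4,5,5,2,3,3,6,5,6,6,5,5,4,5] .nil .nil))) (.node [4,3,4,5,6,5,6,2,4,3,4,3,6,5,6] (.node [5,5,6,6,6,5,6,3,6,5,4,2,6,3,4,5,4,3,4,4,4,3,3] (.node [4,4,4,5,5,4,4,3,4,4,2,6,6,5,6,6,3,3,6,6,6] (.node [6,3,4,5,4,4,3,3,4,2,6,5,5,6,6,3,6,5,4] .nil .nil) .nil) (.node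 [3,6,5,5,4,3,6,5,6,2,4,3,4,5,6,3,3,4,5] .nil .nil)) (.node [6,5,6,6,5,5,4,5,4,3,6,3,2,5,4,5,6,3,6,3,3,4,4,3,4] (.node [5,6,6,5,6,5,6,5,6,6,2,4,4,3,4,3,4,3,4,4,3] (.node [4,5,5,4,4,5,4,5,2,3,6,3,6,6,3,3,6] .nil .nil) .nil) (.node [4,4,4,3,3,6,5,4,4,2,6,6,3,4,5,5,6,6,6] .nil .nil))))) (.node [5,5,6,3,6,3,3,4,3,4,3,2,5,6,5,6,5,5,4,5,4,3,3] (.node [4,5,4,4,3,4,5,6,6,3,3,3,2,5,5,5,4,4,3,6,5,6,6,3,6] (.node [3,6,5,6,6,5,5,4,5,4,3,2,5,6,3,6,3,3,4,4,3,4,5] (.node [3,3,6,3,6,3,6,3,3,4,2,6,5,5,4,5,4,5,4,5,5] (.node [6,3,6,6,5,6,3,6,3,6,6,5,2,3,4,4,5,4,5,4,3,4,4,5,4] (.node [3,3,6,3,3,3,6,3,4,4,3,3,2,5,5,6,6,5,4,5,5,5,4,5,5] .nil .nil) .nil) (.node [5,6,6,5,5,4,5,4,3,6,2,4,5,6,3,6,3,3,4,4,3] .nil .nil)) (.node [4,5,6,6,6,5,6,5,4,5,4,2,6,3,6,3,4,3,4,4,4,3,6] (.node [6,3,6,3,4,3,6,5,6,2,4,3,4,5,6,5,4,5,4] (.node [5,5,4,4,5,4,5,6,3,6,2,4,5,4,3,6,3,6,6,3,3] .nil .nil) .nil) (.node [6,6,6,5,5,4,4,3,4,4,2,6,6,5,6,6,3,3,4,4,4]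 .nil .nil))) (.node [5,6,5,6,6,5,4,5,5,4,3,2,5,6,3,3,6,3,4,4,3,4,3] (.node [6,3,6,6,3,6,6,6,5,4,5,2,3,6,3,4,4,4,5,4,4,5,4] (.node [5,4,5,6,5,6,5,4,3,6,2,4,5,6,3,4,3,4,3,6,3] (.node [6,6,3,4,5,4,4,3,3,4,5,2,3,6,5,5,6,6,3,6,5,4,4] .nil .nil) .nil) (.node [6,3,6,6,3,6,6,6,5,4,5,4,3,2,5,6,3,6,3,4,4,4,5,4,4,5,4] .nil .nil)) (.node [4,3,6,5,4,3,4,5,6,6,2,4,4,3,6,5,6,3,4,5,6] (.node [6,3,4,4,5,4,3,3,6,3,4,4,2,6,6,5,4,5,5,6,3,6,6,5,4] (.node [6,3,4,4,3,6,6,5,4,4,5,2,3,6,6,3,4,4,5,6,6,5,4] .nil .nil) .nil) (.node [4,3,3,6,3,3,6,3,4,4,3,2,5,6,6,5,4,5,5,4,5,5,6] .nil .nil)))) (.node [5,5,4,3,3,6,5,4,4,3,2,5,6,6,3,4,5,5,6,3,3] (.node [3,6,6,3,6,6,6,5,4,5,2,3,6,3,4,4,4,5,4,4,5] (.node [5,4,4,5,4,4,5,6,5,4,2,6,3,4,3,6,6,3,6,6,3] (.node [3,4,3,6,3,4,4,4,3,4,3,3,2,5,5,6,5,6,6,6,5,4,5,6,5] (.node [6,5,4,3,6,6,6,3,4,3,3,6,2,4,5,5,6,5,4,4,4,5,6,3,4] .nil .nil) .nil) (.node [6,3,3,4,4,3,3,4,4,3,4,2,6,5,6,6,5,5,6,6,5,5,4]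 .nil .nil)) (.node [6,6,5,5,4,5,4,3,6,2,4,5,6,3,6,3,3,4,4] (.node [4,4,3,4,3,4,5,4,4,3,4,3,2,5,6,5,6,6,3,6,5,6,5,6,6] (.node [5,5,4,3,4,5,5,6,6,3,3,4,2,6,5,5,4,4,3,3,6,5,6,3,3] .nil .nil) .nil) (.node [5,6,6,6,3,3,6,5,6,3,4,3,3,2,5,5,6,5,4,3,4,5,5,4,4,4,3] .nil .nil))) (.node [4,5,4,5,4,3,6,5,5,4,4,2,6,6,3,3,4,5,6,3,6,3,6] (.node [5,4,5,4,5,6,6,6,5,6,3,3,2,5,5,4,3,4,4,4,3,6,3,6,3] (.node [3,6,6,3,6,5,4,4,3,2,5,6,6,3,4,5,4,4,5] (.node [6,5,4,5,4,5,4,3,4,4,3,2,5,6,6,5,6,3,6,3,6,3,4] .nil .nil) .nil) (.node [3,3,4,4,5,6,5,4,4,5,4,3,2,5,6,3,6,6,3,4,3,6,6,5,5] .nil .nil)) (.node [6,5,4,5,6,5,6,5,4,3,3,2,5,5,6,3,4,3,4,3,6,3,4] (.node [6,3,4,5,4,4,3,3,4,5,2,3,6,5,5,6,6,3,6,5,4] .nil .nil) (.node [3,4,2,6,5] .nil .nil))))))))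

/-- Data. -/
noncomputable def tWords : Arr (List ℕ) := tWords_0

/-- Data. -/
noncomputable def tConj : Arr (List ℕ) := (.node [3,3,6,5,4,4,4,3,4,3,4] (.node [3,3,6,5,6,6,5,4,5,4,5] (.node [4,5,6,6,5,4,5,6,5,4,3] (.node [6,3,4,5,6,6,6,5,4,4,3,3] (.node [4,3,6,5,6,3,4,4,4,5,4] (.node [4,4,3,6,6,3,3,3,6,3,3] (.node [5,5,4,5,6,3,6,6,3,4] (.node [5,4,4,5,4,4,5,6,5] (.node [6,6,5,4,4,4,3] .nil .nil) .nil) (.node [6,3,6,3,3,4,5,6,3] .nil .nil)) (.node [5,6,6,6,3,3,6,6,5,6,6,6,3] (.node [3,4,3,4,5,6,5,6] (.node [5,4,3,6,5,6,6,5,5,6,6,3] .nil .nil) .nil) (.node [4,5,5,4,4,4,4,3,4,3] .nil .nil))) (.node [5,6,3,6,3,4,5,6,3] (.node [3,3,6,3,4,3,3,6,6,3,4,3,4] (.node [4,3,4,5,5,6,3,3,4,4] (.node [6,3,6,6,6,5,4,3,6,3,4,3] .nil .nil) .nil) (.node [6,3,6,5,4,3,3,4,3,4,3,3] .nil .nil)) (.node [3,6,5,4,4,4,4,3,6,3,3,3] (.node [4,4,3,6,5,4,3,6,3,4,3] (.node [3,6,3,4,3,4,3,6,3,6,3] .nil .nil) .nil)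 (.node [4,4,5,6,3,4,3,3,4,4,4,3] .nil .nil)))) (.node [6,5,4,5,4,4,3,3,4,5,6,3,3] (.node [3,4,4,4,5,4,3,6,3,4,4] (.node [4,4,5,6,5,6,5,6,3,4,3] (.node [4,5,6,5,4,5,6,3,3] (.node [3,6,6,6,5,6,6] .nil .nil) .nil) (.node [3,6,3,3,4,4,3,4,5] .nil .nil)) (.node [4,5,6,6,6,5,6,5,4,5] (.node [5,6,3,4,3,3,4,5,6,3] (.node [4,3,4,3,6,6,3,4,5,6,6] .nil .nil) .nil) (.node [5,5,4,5,6,5,4,3,6,5,4,3] .nil .nil))) (.node [3,4,5,4,4,3,6,6,3,3,6,3,4] (.node [5,4,3,6,5,4,3,4,5,6] (.node [6,3,6,6,3,6,6,6,5,4,3] (.node [6,3,6,3,3,4,5,6] .nil .nil) .nil) (.node [4,5,5,4,4,5,4] .nil .nil)) (.node [5,4,3,6,3,4,4,5,5,4,3,4] (.node [4,5,6,3,6,3,6,3,6,5] (.node [5,4,4,4,5,6,6,6,5] .nil .nil) .nil) (.node [5,6,3,4,5,4,5,6,5] .nil .nil))))) (.node [3,4,4,4,3,4,4,5,5,6] (.node [4,3,4,5,4,5,5] (.node [4,4,5,6,6,5,4,4,5,6] (.node [4,4,5,4,4,5,6,5,6,3] (.node [3,4,5,5,4,4,5,4,5] (.node [6,6,5,6,6,5,5,6,3,3,4,3] .nil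 .nil) .nil) (.node [6,3,6,3,4,3,6,5,6,5] .nil .nil)) (.node [4,5,4,5,5,4,4,5,6,3] (.node [4,5,5,4,4,4,4,5,5,6] (.node [6,6,6,5,4,5,4,3,6,6,3] .nil .nil) .nil) (.node [3,4,5,5,4,4,4,4,3,4,3] .nil .nil))) (.node [5,6,3,3,3,4,4,4,4,3,4,3] (.node [4,5,6,3,4,3,4,5,4,3,3] (.node [6,6,5,4,5,6,5,4,3,4,4] (.node [5,6,3,6,3,6,6,3,4,4,4,3] .nil .nil) .nil) (.node [4,4,5,6,5,6,6,5,4,5] .nil .nil)) (.node [4] (.node [4,5,6,5,4,4,4,3,4] (.node [6,3,6,3,4,4,4,5,6,6,6,5] .nil .nil) .nil) (.node [6,3,6,6,3,6,6,6,5,4,5,4] .nil .nil)))) (.node [3,4,3,6,3,4,4,4,3,4,3] (.node [4,3,4,4,5,4,4,3,3,6] (.node [3,4,4] (.node [5,6,5,6,6,5,4,5,5,4,5] (.node [4,3,3,4,4,3,3,4,5,4] .nil .nil) .nil) (.node [5,6,3,6,6,5,4,4,3,6,5] .nil .nil)) (.node [4,3,6,6,5,4,5,5,4,4] (.node [5,4,5,4,5,4,3] (.node [3,6,3,4,3,4,3,6,3,6] .nil .nil) .nil) (.node [4,3,4,3,3,6,3,6,3] .nil .nil))) (.node [3,4,3] (.node [5,4,4,5,4,4,5,6,5,6,3,4]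 (.node [4,4] (.node [3,6,3,4,3,4,3,4,3,3,6,3,3] .nil .nil) .nil) (.node [4,3,4,3,6,3,6,5,6,3,3,3] .nil .nil)) (.node [3,4,4,4,5,5,4,4,3,4,4] (.node [5,5,5,4,4,3,4,3,4,5] .nil .nil) (.node [5,4,4,3,3,4,4,5,6] .nil .nil)))))) (.node [5,6,5,6,5,6,6,3,6,6,6,3,3,3] (.node [3,4,4,4,5,4,3,6,3,4,4,3] (.node [3,3,4,4,5,6,3,6,5] (.node [4,3,6,6,3,4,5,6,5] (.node [4,5,6,5,6,6,5,4,5] (.node [6,6,6,5,4,3,3,6,6,3,3] (.node [4,4,5,6,3,4,5,5,6,6,3] .nil .nil) .nil) (.node [3,4,5,5,4,4,4,4,3,4,3,3] .nil .nil)) (.node [5,5,4,4,5,5,6,6,3,6,3] (.node [6,5,6,6,5,5,4,5,4,3] (.node [5,6,6,6,5,5,4,4,3,6,3,3] .nil .nil) .nil) (.node [4,3,6,6,3,3,4,4,3,4] .nil .nil))) (.node [4,4,5,6,6,3,6,5,4,4,3,3] (.node [3,4,4,5,6,3,6,3,6,6,3] (.node [5,6,3,4,3,3,6,5,6,6,6,3] (.node [3,6,3,3,4,4,5,5,6,3,3] .nil .nil) .nil) (.node [3,3,3,6,3,4,5] .nil .nil)) (.node [5,4,3,6,5,4,3,4,3,3,4] (.node [5,4,5,4,3,3,4,4,3,4] (.node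 [4,5,6,3,4,3,3,4,4,4,3] .nil .nil) .nil) (.node [3,4,4,5,4,4,3,3,6] .nil .nil)))) (.node [4,5,4,3,6,3,6,5,4,3] (.node [3,6,5,5,6,3,6,6,3,3] (.node [6,5,6,5,6,6,3,6,6,6,3,3,3] (.node [3,3,3,6,6,6,5,6,3,4,4,4] (.node [4,3,6,6,3,6,6,6,3,3] .nil .nil) .nil) (.node [4,3,6,3,6,5,6,3] .nil .nil)) (.node [3,4,4,5,6,6,6,3,4,4,4,3] (.node [6,3,3,6,5,4,5,4,3,3] (.node [5,6,3,6,6,5,4,3,4,5,5] .nil .nil) .nil) (.node [4,3,3,6,5,4,4,5,5,6,3] .nil .nil))) (.node [3,6,3,4,3,4,5,6,6,3] (.node [4,4,5,5,4,4,3,4,4,4,3] (.node [6,3,3,4,3,4,5,6,6,6,3,3,3] (.node [3,6,3,4,3,6,3,6,5,4] .nil .nil) .nil) (.node [3,6,5,6,3,3,4,3,4,4,3] .nil .nil)) (.node [4,5,5,4,4,4,4,3,4,3,3] (.node [3,6,6,5,4,4,4] (.node [4,5,6,5,6,6,5,4] .nil .nil) .nil) (.node [6,3,4,5,6,6,6,3,3,6,3] .nil .nil))))) (.node [5,4,4,4,5,6,6,6,5,4] (.node [4,5,6,5,6,6,5,4,5,4] (.node [6,3,3,6,3,6,6,3,6,3,4] (.node [3,6,5,6,5,6,3,4,5,5,6] (.node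 [6,5,4,3,6,3,6,5,4,4,3,4] (.node [3,6,6,5,6,5,6,5,4,4,5] .nil .nil) .nil) (.node [3,4,4,5,4,4,3,3] .nil .nil)) (.node [6,3,3,3,4,4,3,4,4] (.node [4,3,4,4,5,5,6,3,6,6,3,4,3] (.node [6,5,5,6,6,3,3,4,4] .nil .nil) .nil) (.node [4,3,6,6,3,4,3,3,4,3] .nil .nil))) (.node [4,4,5,4,4,5,6,5] (.node [3,3,6,5,6,5] (.node [5,6,5,6,6,5,4,3] (.node [3,3,3,6,6,3,6,6,5,5,4,5] .nil .nil) .nil) (.node [4,3,6,3,6,6,6,5,4] .nil .nil)) (.node [5,6,6,6,3,4,3,6,6,5,4,4] (.node [6,6,3,6,6,3,6,6,5,6,5] (.node [6,3,6,3,3,4,5,6,3,3] .nil .nil) .nil) (.node [4,4,5,5,4,4,4,4,3,4,3] .nil .nil)))) (.node [6,5,4,3,6,6,3,3,6,6,5] (.node [4,4,3,3,6,5,4,4] (.node [3,6,6,3,6,6,6,5,4] (.node [6,5,6,3,4,3,6,5,4,3,4,3] (.node [3,4,3,6,3,6,5,6,3,6] .nil .nil) .nil) (.node [5,4,4,5,4,4,5,6,5,6] .nil .nil)) (.node [6,3,4,4,3,6,5,4,5,4,4] (.node [6,3,6,6,3,6,6,6,5,4] (.node [3,3,6,5,6,5,4] .nil .nil) .nil) (.node [4,5,6,5,6,3,3,6,6,5,4,4,3]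 .nil .nil))) (.node [5,5,4,5,6,3,6,6,3,4,5] (.node [6,5,6,3,6,3,3,6,3,6,6,3,3] (.node [4,3,6,3,6,5,6,3,6] (.node [6,6,5,4,4,4] .nil .nil) .nil) (.node [5,6,3,4,3,6,6,6,5,4] .nil .nil)) (.node [5,6,6,5,5,4,5,5,4,5] (.node [6,3,6,3,4,4,5,6,3,4,3] .nil .nil) (.node [5,6,6,6,3,6,3,6,6,3] .nil .nil))))))) (.node [5,4,4,4,5,6,6,6] (.node [3,6,6,5,6,3,6,5,6,3,3] (.node [5,5,4,5,4,3,4,4,3,4,3] (.node [5,4,5,6,3,6,3,4,4,3,4] (.node [5,6,5,6,6,5,4] (.node [5,4,3,4,5,6,5,4,4,3,6,3] (.node [5,5,4,3,3,6,5,6,6,6,5] (.node [3,3,4,4,5,4,4,3,3,6] .nil .nil) .nil) (.node [4,5,6,3,4,3,3,4,5,6] .nil .nil)) (.node [6,5,4,3,6,5,6,3,4,3] (.node [4,4,4,5,6,6,6,5,4] (.node [4,4,5,4,4,5,6,5,6] .nil .nil) .nil) (.node [4,3,3,6,3,4,3,6,3,6,3,3,3] .nil .nil))) (.node [6,3,6,5,4,3,6,3,4,4,3] (.node [4,5,5,4,4,5,4,4] (.node [5,5,4,3,3,4,4,4,5,5,4] (.node [3] .nil .nil) .nil) (.node [5,4,4,5,4,4,5,6,5,6,3] .nil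 .nil)) (.node [3,6,6,3,6,6,6,5,4,3] (.node [4,4,5,5,4,4,3,6] (.node [4,4,5,4,5,5,4,3,4,5,5] .nil .nil) .nil) (.node [4,3,6,6,5,4,5,5,4,4,5] .nil .nil)))) (.node [5,5,4,4,4,4,3] (.node [4,3,4,5,6,6,3,3,4,4,4,3] (.node [6,6,3,4,5,4,4,3,3,4] (.node [4,3,3,6,3,4,3,6,3,6,3,3] (.node [6,5,6,6,5,4] .nil .nil) .nil) (.node [5,5,4,4,5,5,6,6,3,6] .nil .nil)) (.node [6,5,6,6,5,5,4,5,4,3,3] (.node [6,5,6,6,5,4,5] (.node [3,3,4] .nil .nil) .nil) (.node [3,4,4,5,4,4,3,3,6,3,4] .nil .nil))) (.node [4,4,4,5,4,4,5,6,5] (.node [4,4,3,6,3,6,5,6,3,6] (.node [6,3,3,6,3,4,3,3,6,3,4,3] (.node [6,3,4,5,6,6,6,3,3] .nil .nil) .nil) (.node [4,3,4] .nil .nil)) (.node [3,3,3,6,6,3,6,6,5,5,4] (.node [4,3,6,3,6,5,6,3,6,3] (.node [3,6,5,5,4,3,6,5,6,5] .nil .nil) .nil) (.node [6,5,5,4,5,6,6,3,6,5,5] .nil .nil))))) (.node [3,3] (.node [4,3,4,3,3,6,3,6,6,3] (.node [6,5,5,6,3,4,4,3,3,4,3] (.node [5,6,5,6,6,5,4,5,4]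 (.node [4,4,5,5,4,4,3,6,3] (.node [6,6,3,6,3,4,3,6,5,6] .nil .nil) .nil) (.node [6,3,6,3,3,4,5] .nil .nil)) (.node [6,5,6,6,5,5,4,5,4,3,6] (.node [6,3,6,5,6,5,4,5,4] (.node [4,4,4,5,6,6,5,4,5,5,6,3] .nil .nil) .nil) (.node [5,6,5,6,6,5,4,5,5,4] .nil .nil))) (.node [5,5,4,4,5,4,5,6,3,6,5] (.node [4,3,3,6,3,4,3,6,3,6,3] (.node [4,3,3] (.node [4,3,3,6,6,5,6,6,3,3,4,4,3] .nil .nil) .nil) (.node [3,6,3,6,3,3,4,5,6] .nil .nil)) (.node [4,5,4,4,3,6,3,4,4,3] (.node [6,3,6,6,5,6,5,4,5,4,5] (.node [4,3] .nil .nil) .nil) (.node [3,4,4,5,4,4,5,6,5,6] .nil .nil)))) (.node [6,3,4,3,3,6,3,3,4,3,6,3] (.node [4,4,4,5,4,4,5,5,6,6,3,3] (.node [6,3,6,6,5,6,5,6,5,4,4] (.node [3,3,4,5,6,6,6,5,4,4,4,3] (.node [6,3,6,3,6,6,6,3] .nil .nil) .nil) (.node [6,3,6,5,6,5,6,3,4,5,5] .nil .nil)) (.node [3,4,5,5,6,6,5,4,3,4] (.node [4,4,5,6,6,6,5,6,5,4,5] (.node [6,5,5,4,3,4,4,5,4,5,4,3] .nil .nil) .nil) (.node [5,6,6,5,4,5]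 .nil .nil))) (.node [5,5,4,3,4,5,6,3,4,3,4,3] (.node [6,6,5,6,6,6] (.node [4,3,4,3,6,6,3,6,6,3] (.node [3,6,3,3,3,6,3,4,4,3] .nil .nil) .nil) (.node [5,6,5,6,5,4,3,4,3,3,4,3] .nil .nil)) (.node [6,3,6,5,4,3,3,4,3,4,3] (.node [6,5,4,3,6,3,3,4,4] .nil .nil) (.node [4,4,3,4,4,3,4,3,6,3,3,4,3] .nil .nil)))))) (.node [3,3,4,4,3,3,4,5,4,3] (.node [5,5,6,6,5,4,3,6,5,6,3] (.node [6,5,4,3,3,4,4,4,5,4,5] (.node [4,3,4,3,3,6,3,6,6] (.node [4,3,6,6,3,6,5,4,3,3,3,3] (.node [5,6,5,6,6,5,4,5] (.node [3,6,5,6,6,5,4,4,3,3] .nil .nil) .nil) (.node [3,4,4,3,6,3,6,5,4,5,4] .nil .nil)) (.node [3,4,4,5,4,4,3,3,6,3] (.node [3,6,6,3,4,4,4,5,4,3] (.node [4,5,4,5,5,4,4,5,6] .nil .nil) .nil) (.node [6,3,3,6,3,4,4,4,3,6] .nil .nil))) (.node [4,4,3,3] (.node [4,4,3] (.node [3,4,3,6,6,3,4,3,3,4,3] (.node [6,3,6,5,4,3,3,3,6,3,6] .nil .nil) .nil) (.node [6,5,6,6,5,5,4,5,4,3,4] .nil .nil)) (.node [5,6,5,6,3,4,5,6,3,3,4]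 (.node [6,5,6,3,3,3,4,4,4,5,5,4] (.node [5,6,3,4,5,4,3,3,4,3] .nil .nil) .nil) (.node [5,6,3,4,3,3,4,5,6] .nil .nil)))) (.node [4,4,3,6,5,5,4,3,4,3,4,3] (.node [5,4,4,5,4,4,5,6,5,6,3,3] (.node [5,5,4,4,4,4,5,5,4,3,6,3] (.node [3,6,5,4,3,4,5,5,4,5,4,3] (.node [5,4,4,3,6,3,4,4,4,3,6] .nil .nil) .nil) (.node [3,6,3,3,4,5,6,3] .nil .nil)) (.node [] (.node [3,6,6,5,4,3,4,3,3] (.node [5,5,4,3,3,6,5,6,6,6] .nil .nil) .nil) (.node [3,6,3,3,4,4,3,4,5,5] .nil .nil))) (.node [4,3,4,5,6,5,6] (.node [5,5,6,6,6,5,6,3,6,5,4] (.node [4,4,4,5,5,4,4,3,4,4] (.node [6,3,4,5,4,4,3,3,4] .nil .nil) .nil) (.node [3,6,5,5,4,3,6,5,6] .nil .nil)) (.node [6,5,6,6,5,5,4,5,4,3,6,3] (.node [5,6,6,5,6,5,6,5,6,6] (.node [4,5,5,4,4,5,4,5] .nil .nil) .nil) (.node [4,4,4,3,3,6,5,4,4] .nil .nil))))) (.node [5,5,6,3,6,3,3,4,3,4,3] (.node [4,5,4,4,3,4,5,6,6,3,3,3] (.node [3,6,5,6,6,5,5,4,5,4,3] (.node [3,3,6,3,6,3,6,3,3,4]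 (.node [6,3,6,6,5,6,3,6,3,6,6,5] (.node [3,3,6,3,3,3,6,3,4,4,3,3] .nil .nil) .nil) (.node [5,6,6,5,5,4,5,4,3,6] .nil .nil)) (.node [4,5,6,6,6,5,6,5,4,5,4] (.node [6,3,6,3,4,3,6,5,6] (.node [5,5,4,4,5,4,5,6,3,6] .nil .nil) .nil) (.node [6,6,6,5,5,4,4,3,4,4] .nil .nil))) (.node [5,6,5,6,6,5,4,5,5,4,3] (.node [6,3,6,6,3,6,6,6,5,4,5] (.node [5,4,5,6,5,6,5,4,3,6] (.node [6,6,3,4,5,4,4,3,3,4,5] .nil .nil) .nil) (.node [6,3,6,6,3,6,6,6,5,4,5,4,3] .nil .nil)) (.node [4,3,6,5,4,3,4,5,6,6] (.node [6,3,4,4,5,4,3,3,6,3,4,4] (.node [6,3,4,4,3,6,6,5,4,4,5] .nil .nil) .nil) (.node [4,3,3,6,3,3,6,3,4,4,3] .nil .nil)))) (.node [5,5,4,3,3,6,5,4,4,3] (.node [3,6,6,3,6,6,6,5,4,5] (.node [5,4,4,5,4,4,5,6,5,4] (.node [3,4,3,6,3,4,4,4,3,4,3,3] (.node [6,5,4,3,6,6,6,3,4,3,3,6] .nil .nil) .nil) (.node [6,3,3,4,4,3,3,4,4,3,4] .nil .nil)) (.node [6,6,5,5,4,5,4,3,6] (.node [4,4,3,4,3,4,5,4,4,3,4,3] (.node [5,5,4,3,4,5,5,6,6,3,3,4]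 .nil .nil) .nil) (.node [5,6,6,6,3,3,6,5,6,3,4,3,3] .nil .nil))) (.node [4,5,4,5,4,3,6,5,5,4,4] (.node [5,4,5,4,5,6,6,6,5,6,3,3] (.node [3,6,6,3,6,5,4,4,3] (.node [6,5,4,5,4,5,4,3,4,4,3] .nil .nil) .nil) (.node [3,3,4,4,5,6,5,4,4,5,4,3] .nil .nil)) (.node [6,5,4,5,6,5,6,5,4,3,3] (.node [6,3,4,5,4,4,3,3,4,5] .nil .nil) (.node [3,4] .nil .nil))))))))

/-- Data. -/
noncomputable def clos_0 : Arr (ℕ) := (.node 14 (.node 140 (.node 117 (.node 162 (.node 163 (.node 241 (.node 180 (.node 53 (.node 87 (.node 33 (.node 0 .nil .nil) .nil) (.node 6 .nil .nil)) (.node 21 (.node 297 (.node 116 .nil .nil) .nil) (.node 37 .nil .nil))) (.node 199 (.node 291 (.node 166 (.node 185 .nil .nil) .nil) (.node 114 .nil .nil)) (.node 44 (.node 5 (.node 238 .nil .nil) .nil) (.node 198 .nil .nil)))) (.node 130 (.node 54 (.node 198 (.node 156 (.node 143 .nil .nil) .nil) (.node 17 .nil .nil)) (.node 198 (.node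 102 (.node 232 .nil .nil) .nil) (.node 84 .nil .nil))) (.node 227 (.node 57 (.node 42 (.node 175 .nil .nil) .nil) (.node 19 .nil .nil)) (.node 285 (.node 66 (.node 7 .nil .nil) .nil) (.node 86 .nil .nil))))) (.node 276 (.node 62 (.node 187 (.node 8 (.node 91 (.node 282 .nil .nil) .nil) (.node 296 .nil .nil)) (.node 201 (.node 26 (.node 217 .nil .nil) .nil) (.node 171 .nil .nil))) (.node 266 (.node 199 (.node 113 (.node 75 .nil .nil) .nil) (.node 51 .nil .nil)) (.node 50 (.node 82 (.node 62 .nil .nil) .nil) (.node 127 .nil .nil)))) (.node 29 (.node 242 (.node 197 (.node 129 (.node 40 .nil .nil) .nil) (.node 285 .nil .nil)) (.node 206 (.node 187 (.node 59 .nil .nil) .nil) (.node 148 .nil .nil))) (.node 280 (.node 105 (.node 82 (.node 278 .nil .nil) .nil) (.node 231 .nil .nil)) (.node 5 (.node 186 .nil .nil) (.node 158 .nil .nil)))))) (.node 161 (.node 239 (.node 287 (.node 112 (.node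 177 (.node 289 (.node 176 .nil .nil) .nil) (.node 221 .nil .nil)) (.node 187 (.node 113 (.node 3 .nil .nil) .nil) (.node 36 .nil .nil))) (.node 290 (.node 148 (.node 45 (.node 121 .nil .nil) .nil) (.node 275 .nil .nil)) (.node 182 (.node 228 (.node 266 .nil .nil) .nil) (.node 99 .nil .nil)))) (.node 78 (.node 151 (.node 30 (.node 85 (.node 137 .nil .nil) .nil) (.node 263 .nil .nil)) (.node 170 (.node 67 (.node 15 .nil .nil) .nil) (.node 259 .nil .nil))) (.node 249 (.node 261 (.node 253 (.node 140 .nil .nil) .nil) (.node 31 .nil .nil)) (.node 95 (.node 193 (.node 207 .nil .nil) .nil) (.node 42 .nil .nil))))) (.node 232 (.node 101 (.node 214 (.node 212 (.node 103 (.node 18 .nil .nil) .nil) (.node 23 .nil .nil)) (.node 218 (.node 302 (.node 273 .nil .nil) .nil) (.node 251 .nil .nil))) (.node 306 (.node 17 (.node 260 (.node 260 .nil .nil) .nil) (.node 97 .nil .nil)) (.node 160 (.node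 20 (.node 183 .nil .nil) .nil) (.node 5 .nil .nil)))) (.node 234 (.node 188 (.node 311 (.node 251 (.node 37 .nil .nil) .nil) (.node 121 .nil .nil)) (.node 137 (.node 118 (.node 280 .nil .nil) .nil) (.node 181 .nil .nil))) (.node 48 (.node 128 (.node 260 (.node 100 .nil .nil) .nil) (.node 91 .nil .nil)) (.node 276 (.node 312 .nil .nil) (.node 184 .nil .nil))))))) (.node 56 (.node 233 (.node 37 (.node 49 (.node 86 (.node 305 (.node 229 (.node 308 .nil .nil) .nil) (.node 298 .nil .nil)) (.node 282 (.node 305 (.node 202 .nil .nil) .nil) (.node 157 .nil .nil))) (.node 79 (.node 176 (.node 205 (.node 213 .nil .nil) .nil) (.node 128 .nil .nil)) (.node 240 (.node 206 (.node 301 .nil .nil) .nil) (.node 33 .nil .nil)))) (.node 52 (.node 90 (.node 194 (.node 238 (.node 73 .nil .nil) .nil) (.node 40 .nil .nil)) (.node 133 (.node 122 (.node 48 .nil .nil) .nil) (.node 45 .nil .nil))) (.node 51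 (.node 126 (.node 293 (.node 201 .nil .nil) .nil) (.node 292 .nil .nil)) (.node 236 (.node 10 (.node 261 .nil .nil) .nil) (.node 148 .nil .nil))))) (.node 217 (.node 251 (.node 219 (.node 209 (.node 72 (.node 243 .nil .nil) .nil) (.node 107 .nil .nil)) (.node 99 (.node 111 (.node 87 .nil .nil) .nil) (.node 94 .nil .nil))) (.node 74 (.node 204 (.node 262 (.node 107 .nil .nil) .nil) (.node 290 .nil .nil)) (.node 269 (.node 125 (.node 27 .nil .nil) .nil) (.node 187 .nil .nil)))) (.node 254 (.node 183 (.node 18 (.node 61 (.node 74 .nil .nil) .nil) (.node 284 .nil .nil)) (.node 307 (.node 49 (.node 304 .nil .nil) .nil) (.node 155 .nil .nil))) (.node 95 (.node 58 (.node 108 (.node 170 .nil .nil) .nil) (.node 88 .nil .nil)) (.node 70 (.node 93 .nil .nil) (.node 19 .nil .nil)))))) (.node 171 (.node 92 (.node 104 (.node 154 (.node 4 (.node 228 (.node 230 .nil .nil) .nil) (.node 257 .nil .nil))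 (.node 244 (.node 168 (.node 92 .nil .nil) .nil) (.node 310 .nil .nil))) (.node 98 (.node 195 (.node 308 (.node 6 .nil .nil) .nil) (.node 184 .nil .nil)) (.node 241 (.node 222 (.node 72 .nil .nil) .nil) (.node 250 .nil .nil)))) (.node 157 (.node 281 (.node 116 (.node 171 (.node 219 .nil .nil) .nil) (.node 120 .nil .nil)) (.node 87 (.node 127 (.node 45 .nil .nil) .nil) (.node 98 .nil .nil))) (.node 307 (.node 242 (.node 258 (.node 186 .nil .nil) .nil) (.node 69 .nil .nil)) (.node 86 (.node 3 (.node 210 .nil .nil) .nil) (.node 56 .nil .nil))))) (.node 27 (.node 257 (.node 75 (.node 312 (.node 49 (.node 165 .nil .nil) .nil) (.node 286 .nil .nil)) (.node 15 (.node 35 (.node 34 .nil .nil) .nil) (.node 149 .nil .nil))) (.node 155 (.node 313 (.node 149 (.node 108 .nil .nil) .nil) (.node 141 .nil .nil)) (.node 208 (.node 87 (.node 256 .nil .nil) .nil) (.node 292 .nil .nil)))) (.node 135 (.node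 57 (.node 78 (.node 298 (.node 255 .nil .nil) .nil) (.node 303 .nil .nil)) (.node 4 (.node 116 (.node 63 .nil .nil) .nil) (.node 64 .nil .nil))) (.node 289 (.node 10 (.node 268 (.node 191 .nil .nil) .nil) (.node 160 .nil .nil)) (.node 68 (.node 156 .nil .nil) (.node 237 .nil .nil)))))))) (.node 73 (.node 236 (.node 169 (.node 184 (.node 228 (.node 263 (.node 149 (.node 14 (.node 293 .nil .nil) .nil) (.node 12 .nil .nil)) (.node 295 (.node 185 (.node 160 .nil .nil) .nil) (.node 244 .nil .nil))) (.node 113 (.node 154 (.node 297 (.node 14 .nil .nil) .nil) (.node 246 .nil .nil)) (.node 23 (.node 155 (.node 298 .nil .nil) .nil) (.node 90 .nil .nil)))) (.node 225 (.node 38 (.node 308 (.node 90 (.node 151 .nil .nil) .nil) (.node 27 .nil .nil)) (.node 132 (.node 180 (.node 136 .nil .nil) .nil) (.node 225 .nil .nil))) (.node 299 (.node 268 (.node 25 (.node 8 .nil .nil) .nil) (.node 213 .nil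 .nil)) (.node 84 (.node 96 (.node 302 .nil .nil) .nil) (.node 131 .nil .nil))))) (.node 61 (.node 192 (.node 204 (.node 7 (.node 179 (.node 239 .nil .nil) .nil) (.node 219 .nil .nil)) (.node 46 (.node 59 (.node 206 .nil .nil) .nil) (.node 201 .nil .nil))) (.node 278 (.node 53 (.node 190 (.node 156 .nil .nil) .nil) (.node 147 .nil .nil)) (.node 249 (.node 293 (.node 67 .nil .nil) .nil) (.node 235 .nil .nil)))) (.node 17 (.node 60 (.node 13 (.node 189 (.node 60 .nil .nil) .nil) (.node 143 .nil .nil)) (.node 277 (.node 308 (.node 91 .nil .nil) .nil) (.node 287 .nil .nil))) (.node 256 (.node 165 (.node 41 (.node 242 .nil .nil) .nil) (.node 83 .nil .nil)) (.node 213 (.node 154 .nil .nil) (.node 57 .nil .nil)))))) (.node 138 (.node 224 (.node 63 (.node 120 (.node 39 (.node 224 (.node 157 .nil .nil) .nil) (.node 2 .nil .nil)) (.node 141 (.node 61 (.node 254 .nil .nil) .nil) (.node 192 .nil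 .nil))) (.node 283 (.node 144 (.node 153 (.node 257 .nil .nil) .nil) (.node 53 .nil .nil)) (.node 24 (.node 281 (.node 174 .nil .nil) .nil) (.node 142 .nil .nil)))) (.node 222 (.node 144 (.node 9 (.node 270 (.node 231 .nil .nil) .nil) (.node 274 .nil .nil)) (.node 73 (.node 227 (.node 35 .nil .nil) .nil) (.node 235 .nil .nil))) (.node 291 (.node 63 (.node 304 (.node 283 .nil .nil) .nil) (.node 68 .nil .nil)) (.node 280 (.node 300 (.node 311 .nil .nil) .nil) (.node 53 .nil .nil))))) (.node 22 (.node 210 (.node 252 (.node 83 (.node 235 (.node 147 .nil .nil) .nil) (.node 15 .nil .nil)) (.node 107 (.node 277 (.node 50 .nil .nil) .nil) (.node 233 .nil .nil))) (.node 223 (.node 175 (.node 75 (.node 253 .nil .nil) .nil) (.node 223 .nil .nil)) (.node 62 (.node 78 (.node 159 .nil .nil) .nil) (.node 21 .nil .nil)))) (.node 193 (.node 11 (.node 167 (.node 216 (.node 135 .nil .nil) .nil) (.node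 56 .nil .nil)) (.node 131 (.node 208 (.node 114 .nil .nil) .nil) (.node 190 .nil .nil))) (.node 262 (.node 286 (.node 234 (.node 197 .nil .nil) .nil) (.node 210 .nil .nil)) (.node 8 (.node 314 .nil .nil) (.node 216 .nil .nil))))))) (.node 160 (.node 303 (.node 265 (.node 245 (.node 207 (.node 82 (.node 210 (.node 166 .nil .nil) .nil) (.node 52 .nil .nil)) (.node 130 (.node 16 (.node 13 .nil .nil) .nil) (.node 242 .nil .nil))) (.node 68 (.node 29 (.node 278 (.node 12 .nil .nil) .nil) (.node 133 .nil .nil)) (.node 305 (.node 195 (.node 188 .nil .nil) .nil) (.node 299 .nil .nil)))) (.node 304 (.node 127 (.node 91 (.node 221 (.node 49 .nil .nil) .nil) (.node 216 .nil .nil)) (.node 115 (.node 256 (.node 80 .nil .nil) .nil) (.node 21 .nil .nil))) (.node 146 (.node 54 (.node 272 (.node 225 .nil .nil) .nil) (.node 39 .nil .nil)) (.node 194 (.node 74 (.node 272 .nil .nil) .nil) (.node 247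 .nil .nil))))) (.node 211 (.node 220 (.node 293 (.node 35 (.node 252 (.node 271 .nil .nil) .nil) (.node 58 .nil .nil)) (.node 16 (.node 301 (.node 208 .nil .nil) .nil) (.node 71 .nil .nil))) (.node 235 (.node 225 (.node 94 (.node 211 .nil .nil) .nil) (.node 217 .nil .nil)) (.node 273 (.node 243 (.node 2 .nil .nil) .nil) (.node 281 .nil .nil)))) (.node 102 (.node 255 (.node 84 (.node 26 (.node 102 .nil .nil) .nil) (.node 77 .nil .nil)) (.node 257 (.node 73 (.node 284 .nil .nil) .nil) (.node 128 .nil .nil))) (.node 170 (.node 309 (.node 188 (.node 306 .nil .nil) .nil) (.node 181 .nil .nil)) (.node 186 (.node 165 .nil .nil) (.node 192 .nil .nil)))))) (.node 286 (.node 301 (.node 191 (.node 229 (.node 16 (.node 314 (.node 133 .nil .nil) .nil) (.node 167 .nil .nil)) (.node 13 (.node 266 (.node 11 .nil .nil) .nil) (.node 24 .nil .nil))) (.node 288 (.node 102 (.node 263 (.node 228 .nil .nil)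 .nil) (.node 124 .nil .nil)) (.node 301 (.node 255 (.node 245 .nil .nil) .nil) (.node 83 .nil .nil)))) (.node 176 (.node 76 (.node 31 (.node 192 (.node 69 .nil .nil) .nil) (.node 179 .nil .nil)) (.node 264 (.node 248 (.node 218 .nil .nil) .nil) (.node 311 .nil .nil))) (.node 2 (.node 232 (.node 196 (.node 314 .nil .nil) .nil) (.node 30 .nil .nil)) (.node 223 (.node 182 .nil .nil) (.node 307 .nil .nil))))) (.node 19 (.node 125 (.node 269 (.node 185 (.node 265 (.node 312 .nil .nil) .nil) (.node 313 .nil .nil)) (.node 243 (.node 265 (.node 168 .nil .nil) .nil) (.node 64 .nil .nil))) (.node 145 (.node 234 (.node 76 (.node 103 .nil .nil) .nil) (.node 189 .nil .nil)) (.node 59 (.node 22 (.node 149 .nil .nil) .nil) (.node 132 .nil .nil)))) (.node 93 (.node 231 (.node 292 (.node 287 (.node 109 .nil .nil) .nil) (.node 191 .nil .nil)) (.node 65 (.node 14 (.node 38 .nil .nil) .nil) (.node 123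 .nil .nil))) (.node 132 (.node 177 (.node 273 (.node 24 .nil .nil) .nil) (.node 129 .nil .nil)) (.node 19 (.node 123 .nil .nil) (.node 290 .nil .nil))))))))) (.node 147 (.node 136 (.node 70 (.node 15 (.node 264 (.node 295 (.node 205 (.node 47 (.node 200 (.node 47 .nil .nil) .nil) (.node 25 .nil .nil)) (.node 124 (.node 48 (.node 77 .nil .nil) .nil) (.node 207 .nil .nil))) (.node 275 (.node 38 (.node 306 (.node 111 .nil .nil) .nil) (.node 240 .nil .nil)) (.node 92 (.node 211 (.node 71 .nil .nil) .nil) (.node 96 .nil .nil)))) (.node 107 (.node 261 (.node 244 (.node 163 (.node 139 .nil .nil) .nil) (.node 245 .nil .nil)) (.node 185 (.node 252 (.node 305 .nil .nil) .nil) (.node 162 .nil .nil))) (.node 182 (.node 134 (.node 80 (.node 30 .nil .nil) .nil) (.node 119 .nil .nil)) (.node 106 (.node 112 (.node 297 .nil .nil) .nil) (.node 215 .nil .nil))))) (.node 10 (.node 24 (.node 28 (.node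 12 (.node 146 (.node 172 .nil .nil) .nil) (.node 139 .nil .nil)) (.node 67 (.node 306 (.node 178 .nil .nil) .nil) (.node 166 .nil .nil))) (.node 67 (.node 40 (.node 89 (.node 9 .nil .nil) .nil) (.node 230 .nil .nil)) (.node 300 (.node 163 (.node 258 .nil .nil) .nil) (.node 285 .nil .nil)))) (.node 106 (.node 64 (.node 6 (.node 284 (.node 303 .nil .nil) .nil) (.node 28 .nil .nil)) (.node 151 (.node 164 (.node 189 .nil .nil) .nil) (.node 44 .nil .nil))) (.node 202 (.node 56 (.node 157 (.node 169 .nil .nil) .nil) (.node 138 .nil .nil)) (.node 6 (.node 276 .nil .nil) (.node 46 .nil .nil)))))) (.node 279 (.node 173 (.node 302 (.node 152 (.node 126 (.node 139 (.node 112 .nil .nil) .nil) (.node 229 .nil .nil)) (.node 207 (.node 307 (.node 95 .nil .nil) .nil) (.node 196 .nil .nil))) (.node 46 (.node 212 (.node 37 (.node 117 .nil .nil) .nil) (.node 89 .nil .nil)) (.node 7 (.node 261 (.node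 251 .nil .nil) .nil) (.node 134 .nil .nil)))) (.node 292 (.node 21 (.node 153 (.node 74 (.node 1 .nil .nil) .nil) (.node 220 .nil .nil)) (.node 140 (.node 262 (.node 167 .nil .nil) .nil) (.node 215 .nil .nil))) (.node 174 (.node 250 (.node 274 (.node 267 .nil .nil) .nil) (.node 175 .nil .nil)) (.node 77 (.node 60 (.node 177 .nil .nil) .nil) (.node 291 .nil .nil))))) (.node 195 (.node 253 (.node 128 (.node 310 (.node 193 (.node 220 .nil .nil) .nil) (.node 7 .nil .nil)) (.node 81 (.node 218 (.node 55 .nil .nil) .nil) (.node 199 .nil .nil))) (.node 175 (.node 209 (.node 31 (.node 105 .nil .nil) .nil) (.node 258 .nil .nil)) (.node 88 (.node 203 (.node 70 .nil .nil) .nil) (.node 119 .nil .nil)))) (.node 181 (.node 213 (.node 129 (.node 168 (.node 171 .nil .nil) .nil) (.node 291 .nil .nil)) (.node 281 (.node 282 (.node 274 .nil .nil) .nil) (.node 141 .nil .nil))) (.node 55 (.node 259 (.node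 237 (.node 20 .nil .nil) .nil) (.node 50 .nil .nil)) (.node 255 (.node 95 .nil .nil) (.node 43 .nil .nil))))))) (.node 139 (.node 97 (.node 273 (.node 243 (.node 230 (.node 1 (.node 178 (.node 259 .nil .nil) .nil) (.node 212 .nil .nil)) (.node 114 (.node 0 (.node 65 .nil .nil) .nil) (.node 150 .nil .nil))) (.node 274 (.node 159 (.node 275 (.node 279 .nil .nil) .nil) (.node 204 .nil .nil)) (.node 118 (.node 103 (.node 265 .nil .nil) .nil) (.node 194 .nil .nil)))) (.node 300 (.node 58 (.node 237 (.node 117 (.node 106 .nil .nil) .nil) (.node 232 .nil .nil)) (.node 167 (.node 200 (.node 98 .nil .nil) .nil) (.node 72 .nil .nil))) (.node 81 (.node 3 (.node 303 (.node 214 .nil .nil) .nil) (.node 70 .nil .nil)) (.node 191 (.node 198 (.node 120 .nil .nil) .nil) (.node 17 .nil .nil))))) (.node 143 (.node 297 (.node 313 (.node 122 (.node 222 (.node 88 .nil .nil) .nil) (.node 202 .nil .nil))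 (.node 161 (.node 295 (.node 97 .nil .nil) .nil) (.node 29 .nil .nil))) (.node 142 (.node 197 (.node 36 (.node 229 .nil .nil) .nil) (.node 105 .nil .nil)) (.node 123 (.node 62 (.node 4 .nil .nil) .nil) (.node 51 .nil .nil)))) (.node 69 (.node 43 (.node 59 (.node 299 (.node 126 .nil .nil) .nil) (.node 238 .nil .nil)) (.node 150 (.node 79 (.node 61 .nil .nil) .nil) (.node 41 .nil .nil))) (.node 267 (.node 64 (.node 1 (.node 16 .nil .nil) .nil) (.node 115 .nil .nil)) (.node 142 (.node 264 .nil .nil) (.node 85 .nil .nil)))))) (.node 186 (.node 314 (.node 172 (.node 148 (.node 5 (.node 125 (.node 212 .nil .nil) .nil) (.node 110 .nil .nil)) (.node 101 (.node 57 (.node 23 .nil .nil) .nil) (.node 209 .nil .nil))) (.node 206 (.node 51 (.node 230 (.node 115 .nil .nil) .nil) (.node 151 .nil .nil)) (.node 69 (.node 131 (.node 295 .nil .nil) .nil) (.node 193 .nil .nil)))) (.node 268 (.node 40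 (.node 115 (.node 43 (.node 153 .nil .nil) .nil) (.node 224 .nil .nil)) (.node 169 (.node 159 (.node 252 .nil .nil) .nil) (.node 280 .nil .nil))) (.node 246 (.node 116 (.node 239 (.node 76 .nil .nil) .nil) (.node 236 .nil .nil)) (.node 311 (.node 278 .nil .nil) (.node 162 .nil .nil))))) (.node 114 (.node 108 (.node 133 (.node 189 (.node 180 (.node 94 .nil .nil) .nil) (.node 178 .nil .nil)) (.node 227 (.node 161 (.node 222 .nil .nil) .nil) (.node 250 .nil .nil))) (.node 178 (.node 18 (.node 93 (.node 240 .nil .nil) .nil) (.node 132 .nil .nil)) (.node 145 (.node 117 (.node 249 .nil .nil) .nil) (.node 241 .nil .nil)))) (.node 215 (.node 32 (.node 119 (.node 152 (.node 205 .nil .nil) .nil) (.node 287 .nil .nil)) (.node 203 (.node 8 (.node 163 .nil .nil) .nil) (.node 79 .nil .nil))) (.node 42 (.node 211 (.node 304 (.node 129 .nil .nil) .nil) (.node 249 .nil .nil)) (.node 27 (.node 38 .nil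 .nil) (.node 286 .nil .nil)))))))) (.node 137 (.node 109 (.node 72 (.node 200 (.node 105 (.node 168 (.node 226 (.node 97 (.node 93 .nil .nil) .nil) (.node 1 .nil .nil)) (.node 271 (.node 272 (.node 29 .nil .nil) .nil) (.node 108 .nil .nil))) (.node 208 (.node 302 (.node 109 (.node 161 .nil .nil) .nil) (.node 145 .nil .nil)) (.node 136 (.node 173 (.node 154 .nil .nil) .nil) (.node 28 .nil .nil)))) (.node 309 (.node 298 (.node 221 (.node 120 (.node 276 .nil .nil) .nil) (.node 76 .nil .nil)) (.node 172 (.node 86 (.node 144 .nil .nil) .nil) (.node 100 .nil .nil))) (.node 284 (.node 217 (.node 283 (.node 66 .nil .nil) .nil) (.node 9 .nil .nil)) (.node 247 (.node 92 (.node 138 .nil .nil) .nil) (.node 224 .nil .nil))))) (.node 258 (.node 89 (.node 36 (.node 179 (.node 47 (.node 199 .nil .nil) .nil) (.node 134 .nil .nil)) (.node 226 (.node 144 (.node 26 .nil .nil) .nil) (.node 226 .nil .nil)))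 (.node 259 (.node 219 (.node 147 (.node 89 .nil .nil) .nil) (.node 85 .nil .nil)) (.node 112 (.node 43 (.node 204 .nil .nil) .nil) (.node 196 .nil .nil)))) (.node 201 (.node 166 (.node 26 (.node 52 (.node 244 .nil .nil) .nil) (.node 183 .nil .nil)) (.node 39 (.node 177 (.node 122 .nil .nil) .nil) (.node 313 .nil .nil))) (.node 271 (.node 231 (.node 312 (.node 221 .nil .nil) .nil) (.node 153 .nil .nil)) (.node 294 (.node 294 .nil .nil) (.node 130 .nil .nil)))))) (.node 25 (.node 100 (.node 111 (.node 250 (.node 23 (.node 310 (.node 277 .nil .nil) .nil) (.node 140 .nil .nil)) (.node 11 (.node 170 (.node 39 .nil .nil) .nil) (.node 47 .nil .nil))) (.node 158 (.node 246 (.node 100 (.node 270 .nil .nil) .nil) (.node 279 .nil .nil)) (.node 110 (.node 309 (.node 125 .nil .nil) .nil) (.node 294 .nil .nil)))) (.node 272 (.node 20 (.node 141 (.node 96 (.node 227 .nil .nil) .nil) (.node 63 .nil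 .nil)) (.node 143 (.node 99 (.node 150 .nil .nil) .nil) (.node 289 .nil .nil))) (.node 3 (.node 79 (.node 127 (.node 101 .nil .nil) .nil) (.node 288 .nil .nil)) (.node 174 (.node 299 (.node 32 .nil .nil) .nil) (.node 36 .nil .nil))))) (.node 159 (.node 96 (.node 123 (.node 66 (.node 245 (.node 52 .nil .nil) .nil) (.node 54 .nil .nil)) (.node 215 (.node 146 (.node 275 .nil .nil) .nil) (.node 104 .nil .nil))) (.node 34 (.node 237 (.node 0 (.node 113 .nil .nil) .nil) (.node 65 .nil .nil)) (.node 296 (.node 42 (.node 262 .nil .nil) .nil) (.node 310 .nil .nil)))) (.node 45 (.node 121 (.node 131 (.node 138 (.node 124 .nil .nil) .nil) (.node 126 .nil .nil)) (.node 30 (.node 197 (.node 226 .nil .nil) .nil) (.node 203 .nil .nil))) (.node 294 (.node 266 (.node 267 (.node 84 .nil .nil) .nil) (.node 214 .nil .nil)) (.node 202 (.node 253 .nil .nil) (.node 110 .nil .nil))))))) (.node 71 (.node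 103 (.node 134 (.node 238 (.node 156 (.node 50 (.node 9 (.node 236 .nil .nil) .nil) (.node 169 .nil .nil)) (.node 158 (.node 269 (.node 182 .nil .nil) .nil) (.node 106 .nil .nil))) (.node 110 (.node 220 (.node 183 (.node 288 .nil .nil) .nil) (.node 194 .nil .nil)) (.node 111 (.node 158 (.node 118 .nil .nil) .nil) (.node 68 .nil .nil)))) (.node 41 (.node 282 (.node 124 (.node 32 (.node 233 .nil .nil) .nil) (.node 109 .nil .nil)) (.node 162 (.node 247 (.node 223 .nil .nil) .nil) (.node 101 .nil .nil))) (.node 218 (.node 71 (.node 20 (.node 195 .nil .nil) .nil) (.node 142 .nil .nil)) (.node 135 (.node 135 (.node 58 .nil .nil) .nil) (.node 22 .nil .nil))))) (.node 164 (.node 44 (.node 270 (.node 118 (.node 122 (.node 81 .nil .nil) .nil) (.node 13 .nil .nil)) (.node 256 (.node 188 (.node 200 .nil .nil) .nil) (.node 205 .nil .nil))) (.node 260 (.node 290 (.node 184 (.node 54 .nil .nil)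 .nil) (.node 41 .nil .nil)) (.node 2 (.node 90 (.node 296 .nil .nil) .nil) (.node 269 .nil .nil)))) (.node 65 (.node 119 (.node 277 (.node 279 (.node 104 .nil .nil) .nil) (.node 81 .nil .nil)) (.node 12 (.node 176 (.node 44 .nil .nil) .nil) (.node 180 .nil .nil))) (.node 203 (.node 254 (.node 270 (.node 25 .nil .nil) .nil) (.node 241 .nil .nil)) (.node 34 (.node 152 .nil .nil) (.node 145 .nil .nil)))))) (.node 247 (.node 88 (.node 99 (.node 240 (.node 0 (.node 164 (.node 289 .nil .nil) .nil) (.node 136 .nil .nil)) (.node 28 (.node 80 (.node 234 .nil .nil) .nil) (.node 239 .nil .nil))) (.node 77 (.node 66 (.node 233 (.node 309 .nil .nil) .nil) (.node 190 .nil .nil)) (.node 104 (.node 46 (.node 164 .nil .nil) .nil) (.node 10 .nil .nil)))) (.node 150 (.node 248 (.node 33 (.node 98 (.node 209 .nil .nil) .nil) (.node 33 .nil .nil)) (.node 155 (.node 11 (.node 300 .nil .nil) .nil) (.node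 283 .nil .nil))) (.node 190 (.node 35 (.node 60 (.node 246 .nil .nil) .nil) (.node 174 .nil .nil)) (.node 173 (.node 137 .nil .nil) (.node 248 .nil .nil))))) (.node 94 (.node 285 (.node 80 (.node 165 (.node 121 (.node 263 .nil .nil) .nil) (.node 130 .nil .nil)) (.node 22 (.node 172 (.node 31 .nil .nil) .nil) (.node 254 .nil .nil))) (.node 85 (.node 248 (.node 55 (.node 179 .nil .nil) .nil) (.node 55 .nil .nil)) (.node 267 (.node 75 (.node 146 .nil .nil) .nil) (.node 268 .nil .nil)))) (.node 196 (.node 216 (.node 214 (.node 83 (.node 78 .nil .nil) .nil) (.node 34 .nil .nil)) (.node 48 (.node 18 (.node 152 .nil .nil) .nil) (.node 82 .nil .nil))) (.node 296 (.node 288 (.node 271 (.node 264 .nil .nil) .nil) (.node 32 .nil .nil)) (.node 181 (.node 4 .nil .nil) (.node 173 .nil .nil))))))))))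

/-- Data. -/
noncomputable def clos : Arr (ℕ) := clos_0

/-- Data. -/
noncomputable def rWords_0 : Arr (List ℕ) := (.node [6,6,3,4,5,6,6,3,4,3,6,3,6,3,3,3] (.node [4,3,3,6,3,4,4,3,3,4,4,3,3] (.node [6,3,3,6,5,4,4,4,3,3,3] (.node [6,6,6,5,4,4,4,3,6,6,3,3] (.node [4,3,6,6,5,5,6,6,5,4,3] (.node [6,5,4,3,4,4,3,3,4,3,6,3] (.node [4,3,4,4,3,3,4,4,3,6,3,3] (.node [4,5,4,5,5,4,3,6,3,4,5] (.node [4,3,6,6,3,3,4,4,5,5] (.node [3,4,5,6,3,6,6,6,5,4,3,3] .nil .nil) .nil) (.node [6,6,3,6,6,6,3,4,3,6,3,3] .nil .nil)) (.node [3,3,6,6,3,3,3,6,3,4,4,4] (.node [5,6,5,4,4,5,5,4,3,4,3,6,3,3] .nil .nil) (.node [4,3,6,3,4,3,4,5,4,3,3,4] .nil .nil))) (.node [4,3,6,3,6,3,6,5,4,3,3,3] (.node [3,3,6,5,4,5,4,3,6,3,3,3] (.node [4,4,5,6,6,6,5,4,4,4] .nil .nil) (.node [6,3,6,6,3,3,6,6,3,6,6,3] .nil .nil)) (.node [5,5,4,3,6,3,4,3,6,3,6,3,3] (.node [5,4,3,6,6,5,6,3,4,3,6,3,3,3] .nil .nil) (.node [3,4,3,4,4,3,3,6,3,6,3]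 .nil .nil)))) (.node [5,4,5,6,6,6,3,3,4,5] (.node [5,6,6,3,4,4,4,3,6,6,5] (.node [6,3,6,5,4,3,6,6,5] (.node [4,4,4,4,3,4,5,5,4,4] .nil .nil) (.node [3,6,5,4,5,4,3,6,3,4,4,4,3,3] .nil .nil)) (.node [6,6,5,4,5,6,3,3,3,6,3,3] (.node [3,3,6,5,4,4,4,5,4,4] .nil .nil) (.node [5,6,5,6,3,4] .nil .nil))) (.node [6,6,3,6,6,5,4,3,6,3,3,3] (.node [3,4,3,4,3,3,6,6,6,5,6,3] (.node [3,3,4,5,4,5,4,5,4,3] .nil .nil) (.node [3,4,5,5,4,3,4,4,5] .nil .nil)) (.node [4,4,3,3,4,4,3,3,6] (.node [3,4,3,3,6,3,4,3,4,4,5] .nil .nil) (.node [3,6,5,4,4,4,5,5,4,5,6,3] .nil .nil))))) (.node [5,4,5,6,5,6,3,4,3] (.node [4,4,3,6,6,3,4,3,6,3,3,3] (.node [3,4,4,3,3,6,3,4,3,3,4,3] (.node [3,3,3,6,3,3] (.node [6,6,3,3,4,4,4,3,6,6,3,3] .nil .nil) (.node [6,3,6,3,6,6,6,3,3,6] .nil .nil)) (.node [3,6,3,4,3,6,5,4,3,4,3,3] (.node [5,4,4,4,3,6,5,6,6,5,4,3] .nil .nil) (.node [3,4,3,4,3,3,4,4,4,3,4] .nil .nil))) (.node [3,6,5,4,5,6,3,3,6,3,6]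 (.node [5,4,5,4,5,5,6,6,5,6,5] (.node [6,3,4,3,6,5,6,5,4,5,5] .nil .nil) (.node [4,5,6,5,6,3,4,5,4,5,4] .nil .nil)) (.node [5,6,3,3,4,5,6,6,6] (.node [3,6,6,3,6,5,4,5,5,4] .nil .nil) (.node [5,5,5,4,4,3,6,6,5,5,4,3,3] .nil .nil)))) (.node [4,4,4,5,6,5,4,4,4,3,3,3] (.node [4,4,3,3,6,5,4,4,5,4,3,4,3,3] (.node [6,3,3,6,3,6,3,6,3,3,3,4] (.node [6,6,6,5,4,4,5,5,4,3] .nil .nil) (.node [3,6,3,6,6,5,4,4,4,3] .nil .nil)) (.node [4,4,3,3,6,6,3,6,6,3,4,3] (.node [4,4,5,4,5,4,5,4,4,4] .nil .nil) (.node [4,3,6,5,4,5,6,6,5,6,5,4] .nil .nil))) (.node [4,4,4,5,5,4,3,4,4,5,4,4] (.node [5,6,3,6,3,4,5,6,5,4,3,4] (.node [6,6,6,3,6,3,6,3,6,6] .nil .nil) (.node [6,3,4,3,4,4,3,3,4,4,4] .nil .nil)) (.node [6,5,4,4,4,4,5,4,3,6,6] (.node [3,6,3,4,4,3,4,4,4,5,4] .nil .nil) (.node [6,3,4,5,4,3,3,4] .nil .nil)))))) (.node [3,3,4,4,3,4,4,3,4,5] (.node [6,3,4,5,4,3,4,4,5,6,3] (.node [4,4,5,4,3,3,3,6] (.node [3,4,4,3,6,5,5,4,3,4,3,3]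 (.node [6,6,6,3,3,4,4,4,4] (.node [6,3,6,5,6,5,6,5,6,3,4,3,3] .nil .nil) (.node [3,6,3,3,4,3,4,3,3,6] .nil .nil)) (.node [6,5,4,3,6,3,3,3,4,4,4,3] (.node [5,4,3,6,3,4,3] .nil .nil) (.node [4,4,3,4,3,6,6,3,6] .nil .nil))) (.node [6,6,3,3,6,5,4,4,4,4] (.node [3,6,6,6,5,4,3,4,5,4,3,3] (.node [6,6,3,6,5,6,3,4,5,4,5] .nil .nil) (.node [6,5,6,3,6,6,3,6,5,4,3,3] .nil .nil)) (.node [4,5,6,5,4,5,6,5] (.node [3,3,4,4,4,4,3,6,3,3] .nil .nil) (.node [5,4,3,4,4,3,6,5,6] .nil .nil)))) (.node [5,6,5,6,5,6,5,6,6,6,3] (.node [6,3,3,4,3,4,3,4,5,6,5] (.node [4,3,4,5,5,4,3,6,6] (.node [6,3,6,6,6,5,6,6,5,4,5] .nil .nil) (.node [4,5,6,5,6,3,3,6,3,6,3] .nil .nil)) (.node [4,4,5,5,4,4,3,3,6] (.node [3,6,3,3,6,6,3,3,3,3] .nil .nil) (.node [4,5,4,3,6,6,3,6,6,3,3,3] .nil .nil))) (.node [3,6,3,3,4,5,6,3,4,3,4,5] (.node [5,6,6,5,6,6,3,6,6,3,3,4,3] (.node [5,4,5,4,4,4,4,3,4,4,3,3] .nil .nil) (.node [3,4,4,5,4,4,3,4,4,3,6,3]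 .nil .nil)) (.node [3,4,5,4,4,3,3,6,6,5] (.node [3,6,5,6,6,6,3,4,3,6,5,4] .nil .nil) (.node [5,4,4,4,3,4,4,5,6,6] .nil .nil))))) (.node [4,5,5,4,4,3,6,3,6,3] (.node [4,3,4,4,4,3,4,4] (.node [3,4,5,4,4,3,6,3,4,5,4] (.node [5,6,5,6,6,6,5,4,4,3,6,3] (.node [6,6,6,3,6,5,4,3,3,3] .nil .nil) (.node [6,3,6,3,4,5,4,3,4,3,6,3,3] .nil .nil)) (.node [4,5,6,5,4,5,6,3,3,6,3,3] (.node [4,4,4,4,5,5,4,4,4] .nil .nil) (.node [4,3,4,4,3,3,6,3,3,6,3,4] .nil .nil))) (.node [3,4,4,4,5,4,4,5,6,3,3,3] (.node [6,6,5,4,5,6,5,6,5,6,3,4] (.node [6,3,3,4,5,4,5,4,3,4] .nil .nil) (.node [4,5,6,3,3,6,6,5,6,3,4,4] .nil .nil)) (.node [4,5,4,4,5,6,6,3,3,4] (.node [3,3,4,4,3,6,5,4,5,5,4,3] .nil .nil) (.node [6,6,5,4,3,6,6,5,4,5,4,3] .nil .nil)))) (.node [3,6,6,3,4,3,3,4,5] (.node [6,5,6,6,5,4,5,5,6,3] (.node [4,3,3,6,3,4,4,4,4,5] (.node [4,3,6,3,4,4,3,3,3,6,3,3] .nil .nil) (.node [6,5,6,6,3,4,3,6,6,3,4,4,3,3] .nil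 .nil)) (.node [6,6,3,3,6,3,3,4,4] (.node [5,4,4,4,5,6,3,4,3,6,3,3] .nil .nil) (.node [6,5,4,5,5,4,4,4,5,5] .nil .nil))) (.node [5,6,3,4,4,3,3,4,3,4,4] (.node [6,5,6,6,3,4,3,4,4,3,6,3] (.node [6,3,4,5,6,3,6,6,5,6] .nil .nil) (.node [5,5,4,5,6,5,4,5,4,3,6,3,3,3] .nil .nil)) (.node [4,4,3,6,6,5,6,6,6,3] (.node [6,3,4,3,3,4,3,4,5,5,4,3] .nil .nil) (.node [3,3,6,3,4,5,6,3,3,3] .nil .nil))))))) (.node [3,6,5,5,4,3,4,4,3,4] (.node [6,3,6,5,4,5,6,6,3,6,5] (.node [6,3,3,4,4,3,4,4,5,5,4] (.node [3,4,4,4,4,5,6,5,4,5,4,3] (.node [6,6,3,3,3,4,4,5,4,3,4,3] (.node [4,5,4,4,3,3,4,4,4,3,3,6] (.node [4,3,4,4,4,3,3,3,3,4,4,4] .nil .nil) (.node [5,6,6,3,3,3,4,4,4,3] .nil .nil)) (.node [4,5,5,4,4,5,4,4,5,6,5] (.node [4,4,3,3,6,6,3,6,6,6,3,4] .nil .nil) (.node [6,3,4,3,3,6,6,3,6,3,4,3] .nil .nil))) (.node [3,6,3,4,3,3,4,4,3,3,6,3,3] (.node [4,3,6,3,4,4] (.node [5,4,5,6,3,4,5,6,3,3] .nil .nil) (.node [4,5,4,4,5,6,6,3,4,3,4,3]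 .nil .nil)) (.node [5,5,4,5,6,3,4,5,6,3,3,3] (.node [3,4,3,6,3,6,3,4,3,4] .nil .nil) (.node [6,3,4,3,3,4,3,6,3,4,4,4] .nil .nil)))) (.node [4,3,4,5,6,6,6,3,4,3] (.node [3,4,4,5,4,4,3,4,5,6,3,4,3] (.node [3,4,3,6,5,6,3,3,4,3,4] (.node [3,3,4,4,5,6,3,3,4,4,3] .nil .nil) (.node [3,6,5,5,4,4,4,3,6,3] .nil .nil)) (.node [6,3,4,5,6,5,6,6,5,4,3] (.node [6,5,5,4,4,3,4,5,4,4,3,3] .nil .nil) (.node [6,6,3,6,3,6,3,6,3,3,4,3] .nil .nil))) (.node [6,6,6,3,4,5,5,6,6,3] (.node [5,5,6,6,5,4,3,3,4,5] (.node [5,6,3,6,5,6,3,3,3,6,3,4] .nil .nil) (.node [4,3,6,6,5,4,4,3,4,3,4,3] .nil .nil)) (.node [5,4,3,4,3,3,4,5,6,3,6,6,3,3] (.node [3,3,6,6,3,3,6,3,4,3,3,4] .nil .nil) (.node [6,5,6,6,5,6,5,6,5,6,3,3] .nil .nil))))) (.node [4,5,5,4,5,5,6,3,6,3] (.node [4,5,5,4,3,6,6,5,6,5,4,3,3] (.node [6,5,6,5,6,3,4,4,4,3,3] (.node [4,3,3,6,6,3,4,5,4,3] (.node [5,4,5,4,3,3,6,3,3,6] .nil .nil) (.node [4,4,5,4,4,5,5,6,3,4,5]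 .nil .nil)) (.node [3,3,4,4,3,4,3,4,3,6,6] (.node [5,4,3,3,6,3,4,4,4,3,4,3] .nil .nil) (.node [5,6,5,4,3,4,3,3,6,6,3,4] .nil .nil))) (.node [4,3,6,3,3,6,6,5,6,5,4] (.node [4,4,5,4,5,5,4,5,5,6,3,3] (.node [3,4,4,5,5,6,6,3,6,5] .nil .nil) (.node [3,3,6,6,5,5,4,3,4,4] .nil .nil)) (.node [4,3,6,3,4,5,4,3,4,3] (.node [4,5,4,4,4,5,4,3,3,4,3,4,3,3] .nil .nil) (.node [6,5,6,3,4,3,4,5,5,6] .nil .nil)))) (.node [3,4,3,3,4,5,6,6,3,3,3] (.node [3,4,4,3,4,5,4,3,6,5,4,3] (.node [4,3,6,5,5,6,6,3,6,3,3,4] (.node [4,5,5,6,6,3,3,6,6] .nil .nil) (.node [4,3,4,4,3,3,6,6,5,5] .nil .nil)) (.node [6,3,6,6,3,4,3,6,3,6,6] (.node [3,3,6,6,3,3,4,4,4,4,3] .nil .nil) (.node [3,3,6,5,6,3,3,6,6,3,4,3] .nil .nil))) (.node [4,3,6,6,5,4,3,6,5,4] (.node [4,3,4,5,4,4,4,4,3,4] (.node [6,3,6,6,3,4,4,5,4,4,4] .nil .nil) (.node [6,6,3,6,6,5,5,4,3,3,4] .nil .nil)) (.node [3,6,5,6,3,4,3,3,6,3,3,4] (.node [3,4,5,6,6,6,3,3,6,5,4,3]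 .nil .nil) (.node [3,6,3,3,6,6,5,6,3,3] .nil .nil)))))) (.node [6,6,3,3,4,4,5,5,4,3] (.node [6,3,3,3,6,3,6,3,3,4] (.node [3,3,4,5,6,3,4,4,4,5,4,3,3] (.node [3,4,4,5,5,4,5,6,3,4,4,3] (.node [4,3,4,3,3,6,6,6,5,6,3,3] (.node [4,5,4,4,3,3,4,5,6,3,3,4] .nil .nil) (.node [4,3,6,6,5,4,4,3,3,4] .nil .nil)) (.node [3,3,3,6,6,3,3,4,3,4,3,3] (.node [6,6,3,4,4,4,5,4,3,3,4,4,3,3] .nil .nil) (.node [6,6,5,4,5,6] .nil .nil))) (.node [3,6,6,6,3,4,4,3,4,5,5] (.node [6,6,5,4,4,4,4,3,4,4] (.node [3,6,6,6,5,4,4,4,3,4,3,3] .nil .nil) (.node [6,5,5,4,3,6,6,3,6,5,6,3] .nil .nil)) (.node [6,6,5,4,4,4,5,4,3,6,5,4] (.node [5,5,4,5,4,3,3,4,5,6,3] .nil .nil) (.node [5,4,3,3,6,6,3,3,4,5] .nil .nil)))) (.node [4,3,6,3,6,5,6,3,3,4,4] (.node [4,4,3,6,3,4,4,5,6,3] (.node [3,3,4,4,3,6,6,6,5,4,3] (.node [4,3,3,6,6,6,3,6,3,6,3,3] .nil .nil) (.node [4,3,3,6,6,5,4,5,4,3] .nil .nil)) (.node [4,3,4,4,3,3,4,4,5,5] (.node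 [4,5,4,4,5,6,5,6,6] .nil .nil) (.node [4,3,4,4,4,4,5,6] .nil .nil))) (.node [3,3,6,5,4,3,6,6,6,3] (.node [4,5,4,3,4,3,3,6,3,6] (.node [4,5,5,4,5,6,3,6,3,4,4,3,3,3] .nil .nil) (.node [6,6,5,5,4,3,4,4,4] .nil .nil)) (.node [3,4,4,3,3,6,3,4,3,6,3,4] (.node [3,6,5,5,4,3,4,4,4,3,4,3] .nil .nil) (.node [5,4,5,4,4,3,6,3,3,3,4] .nil .nil))))) (.node [5,4,4,4,4,5,4,4,3,4,5] (.node [6,6,6,5,4,5,6,3,4,3,3,4] (.node [6,5,6,3,3,6,6,3,3,3,4] (.node [6,6,3,6,3,4,5,6,3,4,3,3] (.node [6,6,3,6,6,3,6,6,6,3] .nil .nil) (.node [6,6,6,5,4,4,4,3,3,3,3,4] .nil .nil)) (.node [6,3,6,6,5,5,6,3,6] (.node [6,3,6,6,5,6,6,3,3,6,3,4,3,3] .nil .nil) (.node [4,5,4,5,5,4,3,4,4,5,4,3] .nil .nil))) (.node [4,4,5,6,6,5,5,6,6,3] (.node [3,4,4,3,6,3,6,5] (.node [5,4,4,4,5,6,3,4,5,5] .nil .nil) (.node [4,3,4,3,4,3,4,3,4,3,3,4] .nil .nil)) (.node [3,6,6,5,6,5,4,3,4,3,3] (.node [4,4,3,6,6,3,3,3,6,6,6,3] .nil .nil) (.node [4,3,4,3,4,3,6,6,3]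 .nil .nil)))) (.node [4,3,6,5,5,4,4,4,4] (.node [5,5,4,3,3,4,5,6,6,5,4] (.node [4,3,6,5,4,3,4,4,4] (.node [5,6,5,4,4,4,3,6,5,6] .nil .nil) (.node [3,6,5,4,3,6,6,3,4,4,4,3] .nil .nil)) (.node [4,5,6,6,3,4,4,3,4,3] (.node [4,5,6,6,5,4,3,3,4,3,6] .nil .nil) (.node [5,4,3,6,3,4,4,3,6,3,4,3] .nil .nil))) (.node [4,3,6,6,6,3,4,3,6,6,3] (.node [4,5,4,4,4,5,4,4,3,3] (.node [3,6,5,5,4,4,5,5,6,3] .nil .nil) (.node [6,5,4,3,4,3] .nil .nil)) (.node [3,6,5,6,6,5,6,6,3,6,3,3] (.node [3,4,4,3,4,3,6,3,4,5,4] .nil .nil) (.node [6,6,3,3,3,4,4,4] .nil .nil)))))))) (.node [6,3,4,5,4,5,6,6,3,3] (.node [3,6,5,4,4,4,5,4,3] (.node [4,5,6,5,6,6,6,5,6,5] (.node [6,3,6,5,6,5,4,3,3,4,4,3] (.node [3,6,5,4,5,4,3,3,4,3,4] (.node [5,4,4,4,3,4,3,4,3,4,3] (.node [6,3,4,4,3,3,6,5,4,5,5] (.node [4,4,4,3,3,6,6,3,3] .nil .nil) (.node [4,4,3,6,3,4,3,4,3] .nil .nil)) (.node [5,6,3,3,4,3,6,6,3,3] (.node [3,4,4,3,6,5,4,3,4,4,5]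 .nil .nil) (.node [4,5,4,5,6,3,4,3,4,4,3,3,3] .nil .nil))) (.node [4,3,3,4,4,3,3,6,5,4,3,3] (.node [6,6,5,5,4,4,4,5,5,4,3] (.node [3,6,3,6,5,4,3,4,5,4,4] .nil .nil) (.node [6,3,3,6,3,4,3,4,4,3,3] .nil .nil)) (.node [4,5,4,3,3,4,4,5,5,4,3,4,3] (.node [5,4,5,6,5,6,6,3,4] .nil .nil) (.node [5,5,4,4,5,5,6,6,6] .nil .nil)))) (.node [6,3,3,3,6,6,6] (.node [5,4,5,6,6,3,4,4,4,3,4,3] (.node [5,4,3,3,6,3,4,4,3,4] (.node [3,6,5,6,3,4,5,5,6,3,3,4] .nil .nil) (.node [5,5,4,3,4,5,6,6,6,3,4,4,3] .nil .nil)) (.node [4,4,5,6,3,6,6,5,6,3] (.node [5,4,4,4,3,4,5,6,6,3,3] .nil .nil) (.node [6,3,6,5,6,3,4,3,6,5,4,3,3] .nil .nil))) (.node [3,3,6,5,4,5,6,5,4] (.node [3,3,6,6,5,5,6,3,4,3,6,6,3] (.node [3,3,3,4,4,4,5,5,4,3,4] .nil .nil) (.node [4,4,5,6,5,4,3,4,5] .nil .nil)) (.node [6,3,4,5,5,6,6,3,3,4,3,6,3] (.node [5,4,3,6,5,5,4,4,4,5,5] .nil .nil) (.node [4,5,6,3,4,3,4,5,4,3,4] .nil .nil))))) (.node [3,3,6,5,6,6,5,4,4,4,5]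 (.node [4,5,5,6,3,3,4,3,4,5] (.node [4,3,6,3,6,5,4,4,5,5,4,3] (.node [6,6,6,5,5,6,6,5,6,5,4] (.node [6,5,6,6,5,4,5,6,3,4,3] .nil .nil) (.node [4,4,4,4,3,4,4,4,5,5,4,3] .nil .nil)) (.node [6,3,3,4,4,5,4,3,4,4,3,3] (.node [6,3,4,3,4,3,4,5,6,3,4,3,3] .nil .nil) (.node [6,5,4,3,4,4,3,6,3,4,3] .nil .nil))) (.node [3,3,4,5,4,3,4,5,4,3] (.node [5,4,4,4,3,4,3,3,4] (.node [5,4,4,5,6,5,6,5,6] .nil .nil) (.node [3,6,6,3,4,4,3,4,4,3,4] .nil .nil)) (.node [5,5,4,4,3,6,3,4,3,6,3,3,3] (.node [3,3,3,6,3,4,3,6,6,3,4] .nil .nil) (.node [5,4,5,6,3,6,3,3,4,5,4] .nil .nil)))) (.node [5,6,3,3,6,6,3,4,4,4] (.node [4,3,6,6,5,4,3,4,3,6,3,3,3] (.node [5,4,4,4,4,3,4,5,5,4,3] (.node [3,6,3,3,6,3,6,3,4,4,3,3] .nil .nil) (.node [3,6,5,6,6,3,4,4,4,4,3] .nil .nil)) (.node [5,5,6,3,3,4,3,4,3,3] (.node [5,5,4,5,4,4,3,4,4,3,4,5] .nil .nil) (.node [4,3,3,3,6,6,3,4,5,5,4] .nil .nil))) (.node [5,6,6,5,5,4,5,4,3,4,4] (.node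 [6,6,3,6,6,5,5,4,5,6,6,3,3] (.node [6,5,4,5,4,4,3,4,3,3,4,3] .nil .nil) (.node [4,3,4,4,3,3,6,6,3,6,3,3] .nil .nil)) (.node [6,3,6,5,5,4,5,4,3,6,3] (.node [5,5,4,4,4,4,5,5,4,3,4] .nil .nil) (.node [5,5,4,4,3,6,5,6,6,6,3] .nil .nil)))))) (.node [6,5,6,6,3,6,6,3,4,5,4] (.node [3,6,5,4,4,4,5,5,6,3,4] (.node [6,5,4,5,5,4,4,4,3,6,3,3] (.node [3,4,4,5,4,3,3,6,6,3,4,3,3] (.node [6,3,4,3,6,3,4,5,5] (.node [6,3,4,4,3,6,3,3,3] .nil .nil) (.node [3,6,3,4,3,3,4,4,5] .nil .nil)) (.node [4,4,4,3,6,6,6,5,5,4,4] (.node [6,6,6,3,6,6,5,4,4,5,4] .nil .nil) (.node [6,6,3,3,4,3,6,6,5,4,3] .nil .nil))) (.node [5,4,3,6,6,5,4,5,6,6] (.node [6,3,4,3,4,4,5,4,4] (.node [6,6,3,4,3,6,6,5,4,3,4] .nil .nil) (.node [3,4,4,4,3,6,5,6,5,6,5] .nil .nil)) (.node [5,4,3,6,6,3,4] (.node [3,6,5,6,6,6,5,4,5,5,4,3] .nil .nil) (.node [3,3,6,6,3,6,6,6,5,4,3] .nil .nil)))) (.node [6,5,4,5,5,6,3,6,3,3] (.node [5,6,5,4,3,6,3,4,4,3,4]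 (.node [4,3,6,3,3,4,5,4,3,4,4,3] (.node [4,4,5,6,5,6,5,6,6,5,5] .nil .nil) (.node [4,4,3,6,5,6,6,3,3] .nil .nil)) (.node [4,5,6,6,3,3,3,4,4,4,4,3,3] (.node [3,4,5,4,5,6,6,5] .nil .nil) (.node [4,3,4,4,5,5,6,6,5,4,3] .nil .nil))) (.node [6,5,6,3,4,4,5,6,5,4,4] (.node [4,5,5,4,4,3,4,3,6,6,6,3,3] (.node [6,5,5,6,3,3,4,4,5,4,4] .nil .nil) (.node [6,3,3,6,6,3,3,6,6,6,3,3] .nil .nil)) (.node [6,5,4,4,5,6,3] (.node [5,5,5,4,5,6,6,5,4] .nil .nil) (.node [5,4,3,3,4,3,6,3] .nil .nil))))) (.node [6,6,5,4,5,6,6,5,4,3,4,3] (.node [6,6,5,6,6,3,4,3,6,6,3] (.node [6,6,3,6,3,3,3,6,6,3] (.node [5,4,5,4,4,3,6,6,6,3,3] (.node [4,3,4,5,6,6,5,6,3] .nil .nil) (.node [3,3,6,6,6,3,3,4,5,6,3] .nil .nil)) (.node [3,3,6,6,6,3,3,6,3,4] (.node [6,3,3,4,3,6,3,6,3,4,5] .nil .nil) (.node [4,3,6,5,4,4,4,5,5,4,3] .nil .nil))) (.node [4,3,6,3,4,5,4,4,5,6,3] (.node [6,3,6,5,4,5,6,5,6,6,5] (.node [5,4,4,5,6,5,6,6,3,4,4]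 .nil .nil) (.node [6,6,5,4,4,4,3,6,3,3,4,4,3] .nil .nil)) (.node [6,3,6,3,6,3,6,3,6,3] (.node [6,6,5,6,5,4,5,6,6,6,3] .nil .nil) (.node [6,5,6,6,5,6,3,3,4,5] .nil .nil)))) (.node [5,4,5,5,6,6,3,3,6,6,5,4] (.node [4,4,5,4,4,5,5,4,4,5,4,3] (.node [6,6,5,6,5,4,4,3,3,4] (.node [5,6,3,4,4,4,5,4,4,5,5] .nil .nil) (.node [5,4,4,5,6,5,4,4,3,4,4] .nil .nil)) (.node [6,3,6,6,5,4,3,3,6,3,6] (.node [3,4,3,4,4,4,4,5,6,5] .nil .nil) (.node [6,3,4,3,6,5,6,5,4,3,6,3,3] .nil .nil))) (.node [3,3,4,4,4,3,4,5,6,3,3,3] (.node [6,6,3,6,6,5,6,5,4] (.node [4,4,4,5,5,5,4] .nil .nil) (.node [3,6,5,6,3,6,6,5,4,4,4] .nil .nil)) (.node [6,5,6,3,6,5,6,5,4,3,6] (.node [4,3,4,4,5,4,4,3,3,4] .nil .nil) (.node [4,5,4,4,3,6,3,6,6,6,3,3,3] .nil .nil))))))) (.node [3,6,5,4,3,3,6,6,3,6,6] (.node [3,4,3,4,4,5,4,4,3,3,3] (.node [6,3,3,4,3,6,3,4,4,5,4,3] (.node [3,3,4,3,4,3,6,5,6,6,6,3,3] (.node [6,5,4,4,3,4,3,6,3] (.node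 [6,5,4,5,5,5,4,3,4,5,4,3] (.node [5,6,3,6,3,3,4,5,4,3] .nil .nil) (.node [6,3,4,3,4,4,5,5,4,5,6] .nil .nil)) (.node [3,4,5,5,6,6,5,6,6,3,6] (.node [3,4,4,5,6,5,4,4,3,3,3,3] .nil .nil) (.node [6,5,5,6,6,3,6,6,5,6] .nil .nil))) (.node [5,4,4,3,3,6,3,4,4,4,4] (.node [6,5,5,4,5,6,6] (.node [3,3,4,4,4,4,5,5] .nil .nil) (.node [6,5,4,3,3,6,6,6,3,4,5] .nil .nil)) (.node [4,4,3,6,3,3,4] (.node [6,6,5,4,4,5,6,6,5,6,3] .nil .nil) (.node [5,6,3,6,5,4,4,5,5,6] .nil .nil)))) (.node [3,6,5,5,6,3,4,4,3,3] (.node [4,5,6,6,3,4,3,4] (.node [5,4,4,5,5,4,5,6,3,4,3,3] (.node [6,3,6,3,4,3,6,5,6,3] .nil .nil) (.node [6,3,4,5,6,6,3,3,6,3,3,3] .nil .nil)) (.node [5,4,3,4,5,6,5,4,5,4] (.node [6,3,4,3,3,6,6,6,3] .nil .nil) (.node [6,5,6,6,3,3,3,6,6,3,4,3,3] .nil .nil))) (.node [6,5,6,6,5,6,6,5,4,4,5] (.node [4,3,4,3,6,5,4,3,3,6] (.node [6,6,3,3,6,3,4,5,6] .nil .nil) (.node [6,3,4,4,3,6,5,5,6,3,3] .nil .nil))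 (.node [5,6,3,6,6,6,3,4,5] (.node [5,6,3,6,6,6,5,6,3,4,4,3,3] .nil .nil) (.node [4,5,4,3,3,4,4,5,4] .nil .nil))))) (.node [6,3,6,5,5,4,4,5,6,3,3] (.node [4,3,3,4,3,6,3,4,4,3,6] (.node [3,4,3,4,4,4,3,4,3,6] (.node [4,4,4,4,5,4,5,5,6,6,3] (.node [6,6,6,5,4,3,6,6,5,4,3] .nil .nil) (.node [6,5,6,6,5,4,4,3,6,3] .nil .nil)) (.node [4,4,5,4,5,6,5,4,4,5,4] (.node [5,4,4,5,5,5,4,5,4,4] .nil .nil) (.node [4,5,4,4,4,5,5,5,4,4,5] .nil .nil))) (.node [6,5,5,4,5,6,3,6,3,4,4] (.node [3,3,6,6,5,6,3,3,4,4,3] (.node [5,4,4,4,3,6,3,4,3,4,4] .nil .nil) (.node [5,5,4,3,6,6,3,3,4,5,4] .nil .nil)) (.node [3,6,6,3,4,4,4,5,5,6,3] (.node [4,3,6,6,5,4,5,6,6,6,3] .nil .nil) (.node [6,3,6,5,4,4,5,4,4,3,4] .nil .nil)))) (.node [6,3,6,3,6,3,6,6,5,5,6,3] (.node [5,5,4,4,5,4,3,4,4,3,3,3,3] (.node [4,4,5,6,3,4,4,4,4,3,4] (.node [5,4,4,4,3,3,6,5,4] .nil .nil) (.node [3,3,4,4,4,5,4,5,6,5,4] .nil .nil)) (.node [3,4,4,4,5,6,5,4,4,4,3,3]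 (.node [6,5,6,3,3,4,4,4,4,3,3] .nil .nil) (.node [6,6,5,6,6,5,5,4,3,6,6] .nil .nil))) (.node [4,5,5,6,6,5,6,3,4,3,4,3] (.node [4,3,4,4,5,6,3,6,6,5,4] (.node [5,6,5,4,3,4,3,6,3] .nil .nil) (.node [3,3,4,3,4,4,5,4,4,3,4,4,3] .nil .nil)) (.node [4,4,5,6,3,3,4,4,3,4,4] (.node [6,3,6,3,3,4,4,4,3,6,5,5,4] .nil .nil) (.node [4,4,4,3,6,5,5,4,3] .nil .nil)))))) (.node [] (.node [4,3,4,4,5,4,3,6,5,4] (.node [3,4,3,4,3,4,5,6,6,6,5] (.node [4,5,6,5,4,4,4,5,4,4,3,3,3] (.node [6,6,6,3,4,5,5,6,3,6,3,4,3] (.node [4,3,6,3,6,3,3,4,4,4,4] .nil .nil) (.node [6,3,6,5,5,4,4,3,3,3,3] .nil .nil)) (.node [3,3,3,4,4,5,6,6,3,6,3] (.node [3,3,3,6,6,6,5,5,4,4,5] .nil .nil) (.node [5,6,6,6,3,4,4,5,4,5] .nil .nil))) (.node [4,3,3,6,5,6,5,4,3,4] (.node [3,4,4,5,4,4,3,3,4,4,3,4] (.node [6,6,5,6,5,4,4,3,4,3,4,3] .nil .nil) (.node [5,6,5,4,5,6,6,5,4,5,6,3] .nil .nil)) (.node [4,5,5,6,6,5,6,3,3,4] (.node [3,4,3,6,6,3,3,6,3,6,3]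 .nil .nil) (.node [6,5,6,5,4,4,3,6] .nil .nil)))) (.node [4,3,6,5,4,5,5,4,4] (.node [6,3,4,5,5,6,6,6,3] (.node [5,6,3,4,4,5,6,3,4,4,4] (.node [5,5,5,4,4,3,6,3,4,3,3] .nil .nil) (.node [6,6,3,4,5,6,5,6,5,4,3] .nil .nil)) (.node [3,3,6,3,4,3,4,5,6,5,4] (.node [3,6,5,6,3,4,3,6,6] .nil .nil) (.node [5,4,3,3,4,4,4,3,6,6,6,3,3] .nil .nil))) (.node [4,5,4,5,5,6,3,4,4,5,4] (.node [3,4,5,4,3,4,3,6,3,6,6,3,3] (.node [3,4,4,5,6,6,6,5,4,4,3] .nil .nil) (.node [5,4,4,4,5,4,4,5,4,4] .nil .nil)) (.node [6,3,6,5,6,6,5,4,4,3] (.node [4,3,3,4,5,6,3,4,3,4,3,3] .nil .nil) (.node [4,4,5,5,4,3,4,5,6,5,6] .nil .nil))))) (.node [3,4,5,6,6,5,6,3,4,4,3,3,3] (.node [6,6,6,3,4,4,5,4,3,4,5] (.node [5,6,3,6,6,5,4,3,4,4,3,6] (.node [4,5,4,5,6,6,3,3,6,3] (.node [5,6,6,3,3,6,5,6,3,6,3,3,3] .nil .nil) (.node [5,6,5,4,5,6,3] .nil .nil)) (.node [6,5,4,4,3,3,4,5,6,3,3] (.node [3,6,6,3,3,4,4,3,3] .nil .nil) (.node [5,6,6,5,4,4,4,3,6,5,6,3,3]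 .nil .nil))) (.node [6,3,4,3,6,3,6,6,6,5,5] (.node [6,6,6,5,6,3,3,4,4] (.node [4,3,6,3,6,6,3,3,3,4,4] .nil .nil) (.node [3,6,5,4,4,3,6,6,5,4,3,3,3,3] .nil .nil)) (.node [3,6,5,6,6,5,6,6,5,5] (.node [4,5,4,5,4,5,4,5,4,5] .nil .nil) (.node [4,5,5,4,4,5,6,6,5,6,5] .nil .nil)))) (.node [4,4,3,6,6,3,6,5,4] (.node [3,4,4,5,6,3,4,5,4] (.node [4,3,4,3,6,5,6,3,3,6,6] (.node [5,4,3,6,5,5,6,3,6,3,3] .nil .nil) (.node [6,6,5,4,4,3,4,3,6,6,3] .nil .nil)) (.node [4,4,4,5,4,4,4,4,5,6,6,3] (.node [5,4,5,6,6,3,3,3,6,6,5,6,3,3,3] .nil .nil) (.node [6,5,6,5,4,5,4,5,6,5] .nil .nil))) (.node [6,3,6,3,4,4,4,5,6,3,3,4] (.node [4,3,4,5,6,6,3,4,3,6,3] (.node [3,4,3,4,4,3,6,6,3,3,6] .nil .nil) (.node [4,5,5,4,5,6,3,4,4,3,3,4,3] .nil .nil)) (.node [4,5,6,5,6,5,4,4,3,3,3] (.node [5,6,5,6,5,4,5,6,6] .nil .nil) (.node [6,6,5,6,3,6,3,3,4,4,3] .nil .nil)))))))))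

/-- Data. -/
noncomputable def rWords : Arr (List ℕ) := rWords_0

/-- Data. -/
noncomputable def coset : Arr (ℕ) := (.node 0 (.node 0 (.node 0 (.node 0 (.node 0 (.node 0 (.node 425 (.node 0 (.node 1040 (.node 0 .nil .nil) .nil) (.node 1171 .nil .nil)) (.node 0 (.node 1170 .nil .nil) (.node 0 .nil .nil))) (.node 435 (.node 989 (.node 1141 .nil .nil) (.node 0 .nil .nil)) (.node 0 (.node 0 .nil .nil) (.node 0 .nil .nil)))) (.node 0 (.node 0 (.node 0 (.node 0 .nil .nil) (.node 1080 .nil .nil)) (.node 0 (.node 982 .nil .nil) (.node 0 .nil .nil))) (.node 830 (.node 1078 (.node 941 .nil .nil) (.node 0 .nil .nil)) (.node 0 (.node 0 .nil .nil) (.node 862 .nil .nil))))) (.node 0 (.node 478 (.node 632 (.node 944 (.node 0 .nil .nil) (.node 0 .nil .nil)) (.node 1143 (.node 979 .nil .nil) (.node 0 .nil .nil))) (.node 0 (.node 0 (.node 0 .nil .nil) (.node 0 .nil .nil)) (.node 0 (.node 0 .nil .nil)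 (.node 0 .nil .nil)))) (.node 603 (.node 0 (.node 980 (.node 0 .nil .nil) (.node 0 .nil .nil)) (.node 0 (.node 0 .nil .nil) (.node 831 .nil .nil))) (.node 0 (.node 0 (.node 0 .nil .nil) (.node 0 .nil .nil)) (.node 0 (.node 0 .nil .nil) (.node 977 .nil .nil)))))) (.node 0 (.node 0 (.node 433 (.node 0 (.node 0 (.node 0 .nil .nil) (.node 0 .nil .nil)) (.node 990 (.node 0 .nil .nil) (.node 0 .nil .nil))) (.node 0 (.node 861 (.node 0 .nil .nil) (.node 1225 .nil .nil)) (.node 1169 (.node 860 .nil .nil) (.node 0 .nil .nil)))) (.node 0 (.node 0 (.node 0 (.node 0 .nil .nil) (.node 0 .nil .nil)) (.node 0 (.node 479 .nil .nil) (.node 857 .nil .nil))) (.node 863 (.node 0 (.node 480 .nil .nil) (.node 436 .nil .nil)) (.node 0 (.node 943 .nil .nil) (.node 0 .nil .nil))))) (.node 0 (.node 521 (.node 0 (.node 0 (.node 991 .nil .nil) (.node 0 .nil .nil)) (.node 984 (.node 0 .nil .nil) (.node 0 .nil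 .nil))) (.node 477 (.node 631 (.node 339 .nil .nil) (.node 0 .nil .nil)) (.node 0 (.node 992 .nil .nil) (.node 1039 .nil .nil)))) (.node 0 (.node 0 (.node 981 (.node 0 .nil .nil) (.node 942 .nil .nil)) (.node 0 (.node 0 .nil .nil) (.node 0 .nil .nil))) (.node 0 (.node 199 (.node 0 .nil .nil) (.node 524 .nil .nil)) (.node 0 (.node 1079 .nil .nil) (.node 972 .nil .nil))))))) (.node 0 (.node 0 (.node 0 (.node 427 (.node 0 (.node 0 (.node 0 .nil .nil) (.node 864 .nil .nil)) (.node 0 (.node 0 .nil .nil) (.node 0 .nil .nil))) (.node 0 (.node 0 (.node 1077 .nil .nil) (.node 0 .nil .nil)) (.node 629 (.node 0 .nil .nil) (.node 0 .nil .nil)))) (.node 0 (.node 0 (.node 0 (.node 0 .nil .nil) (.node 0 .nil .nil)) (.node 0 (.node 1038 .nil .nil) (.node 0 .nil .nil))) (.node 858 (.node 0 (.node 0 .nil .nil) (.node 0 .nil .nil)) (.node 0 (.node 0 .nil .nil) (.node 0 .nil .nil))))) (.node 0 (.node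 0 (.node 0 (.node 0 (.node 0 .nil .nil) (.node 0 .nil .nil)) (.node 0 (.node 0 .nil .nil) (.node 0 .nil .nil))) (.node 0 (.node 604 (.node 0 .nil .nil) (.node 1172 .nil .nil)) (.node 971 (.node 0 .nil .nil) (.node 0 .nil .nil)))) (.node 0 (.node 0 (.node 0 (.node 0 .nil .nil) (.node 1144 .nil .nil)) (.node 0 (.node 0 .nil .nil) (.node 983 .nil .nil))) (.node 0 (.node 859 (.node 0 .nil .nil) (.node 0 .nil .nil)) (.node 0 (.node 0 .nil .nil) (.node 198 .nil .nil)))))) (.node 200 (.node 337 (.node 0 (.node 0 (.node 630 (.node 1226 .nil .nil) (.node 1142 .nil .nil)) (.node 978 (.node 434 .nil .nil) (.node 0 .nil .nil))) (.node 0 (.node 1037 (.node 0 .nil .nil) (.node 602 .nil .nil)) (.node 0 (.node 0 .nil .nil) (.node 0 .nil .nil)))) (.node 0 (.node 0 (.node 0 (.node 522 .nil .nil) (.node 523 .nil .nil)) (.node 832 (.node 0 .nil .nil) (.node 601 .nil .nil))) (.node 0 (.node 340 (.node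 969 .nil .nil) (.node 0 .nil .nil)) (.node 0 (.node 338 .nil .nil) (.node 0 .nil .nil))))) (.node 0 (.node 0 (.node 0 (.node 970 (.node 0 .nil .nil) (.node 0 .nil .nil)) (.node 0 (.node 428 .nil .nil) (.node 829 .nil .nil))) (.node 426 (.node 0 (.node 0 .nil .nil) (.node 0 .nil .nil)) (.node 0 (.node 1228 .nil .nil) (.node 0 .nil .nil)))) (.node 0 (.node 0 (.node 0 (.node 0 .nil .nil) (.node 0 .nil .nil)) (.node 0 (.node 0 .nil .nil) (.node 0 .nil .nil))) (.node 0 (.node 197 (.node 0 .nil .nil) (.node 0 .nil .nil)) (.node 0 (.node 0 .nil .nil) (.node 1227 .nil .nil)))))))) (.node 148 (.node 0 (.node 0 (.node 0 (.node 0 (.node 0 (.node 0 (.node 0 .nil .nil) (.node 0 .nil .nil)) (.node 0 (.node 0 .nil .nil) (.node 0 .nil .nil))) (.node 776 (.node 0 (.node 0 .nil .nil) (.node 0 .nil .nil)) (.node 0 (.node 0 .nil .nil) (.node 0 .nil .nil)))) (.node 0 (.node 0 (.node 0 (.node 0 .nil .nil)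 (.node 0 .nil .nil)) (.node 0 (.node 0 .nil .nil) (.node 0 .nil .nil))) (.node 0 (.node 0 (.node 0 .nil .nil) (.node 0 .nil .nil)) (.node 0 (.node 0 .nil .nil) (.node 0 .nil .nil))))) (.node 0 (.node 0 (.node 634 (.node 0 (.node 0 .nil .nil) (.node 0 .nil .nil)) (.node 1082 (.node 0 .nil .nil) (.node 0 .nil .nil))) (.node 0 (.node 0 (.node 0 .nil .nil) (.node 0 .nil .nil)) (.node 0 (.node 0 .nil .nil) (.node 0 .nil .nil)))) (.node 0 (.node 0 (.node 0 (.node 0 .nil .nil) (.node 0 .nil .nil)) (.node 147 (.node 0 .nil .nil) (.node 0 .nil .nil))) (.node 0 (.node 0 (.node 750 .nil .nil) (.node 633 .nil .nil)) (.node 0 (.node 0 .nil .nil) (.node 0 .nil .nil)))))) (.node 0 (.node 0 (.node 0 (.node 0 (.node 0 (.node 0 .nil .nil) (.node 0 .nil .nil)) (.node 0 (.node 0 .nil .nil) (.node 0 .nil .nil))) (.node 0 (.node 0 (.node 0 .nil .nil) (.node 0 .nil .nil)) (.node 0 (.node 405 .nil .nil)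 (.node 0 .nil .nil)))) (.node 0 (.node 0 (.node 0 (.node 0 .nil .nil) (.node 0 .nil .nil)) (.node 0 (.node 0 .nil .nil) (.node 0 .nil .nil))) (.node 0 (.node 0 (.node 0 .nil .nil) (.node 774 .nil .nil)) (.node 0 (.node 0 .nil .nil) (.node 408 .nil .nil))))) (.node 407 (.node 0 (.node 0 (.node 0 (.node 0 .nil .nil) (.node 0 .nil .nil)) (.node 0 (.node 0 .nil .nil) (.node 0 .nil .nil))) (.node 0 (.node 0 (.node 0 .nil .nil) (.node 0 .nil .nil)) (.node 0 (.node 0 .nil .nil) (.node 0 .nil .nil)))) (.node 0 (.node 751 (.node 0 (.node 0 .nil .nil) (.node 0 .nil .nil)) (.node 0 (.node 1081 .nil .nil) (.node 0 .nil .nil))) (.node 0 (.node 0 (.node 0 .nil .nil) (.node 0 .nil .nil)) (.node 0 (.node 0 .nil .nil) (.node 0 .nil .nil))))))) (.node 0 (.node 0 (.node 0 (.node 0 (.node 0 (.node 0 (.node 0 .nil .nil) (.node 0 .nil .nil)) (.node 0 (.node 775 .nil .nil) (.node 0 .nil .nil))) (.node 0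 (.node 0 (.node 773 .nil .nil) (.node 0 .nil .nil)) (.node 0 (.node 0 .nil .nil) (.node 0 .nil .nil)))) (.node 0 (.node 0 (.node 0 (.node 0 .nil .nil) (.node 0 .nil .nil)) (.node 0 (.node 0 .nil .nil) (.node 0 .nil .nil))) (.node 0 (.node 1083 (.node 0 .nil .nil) (.node 0 .nil .nil)) (.node 0 (.node 0 .nil .nil) (.node 0 .nil .nil))))) (.node 0 (.node 0 (.node 0 (.node 0 (.node 0 .nil .nil) (.node 749 .nil .nil)) (.node 0 (.node 0 .nil .nil) (.node 0 .nil .nil))) (.node 0 (.node 0 (.node 0 .nil .nil) (.node 0 .nil .nil)) (.node 0 (.node 0 .nil .nil) (.node 0 .nil .nil)))) (.node 406 (.node 0 (.node 0 (.node 0 .nil .nil) (.node 0 .nil .nil)) (.node 1084 (.node 0 .nil .nil) (.node 0 .nil .nil))) (.node 0 (.node 0 (.node 0 .nil .nil) (.node 0 .nil .nil)) (.node 0 (.node 0 .nil .nil) (.node 0 .nil .nil)))))) (.node 0 (.node 0 (.node 0 (.node 0 (.node 0 (.node 0 .nil .nil) (.node 0 .nil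 .nil)) (.node 0 (.node 0 .nil .nil) (.node 0 .nil .nil))) (.node 0 (.node 0 (.node 0 .nil .nil) (.node 0 .nil .nil)) (.node 635 (.node 0 .nil .nil) (.node 0 .nil .nil)))) (.node 0 (.node 0 (.node 0 (.node 0 .nil .nil) (.node 0 .nil .nil)) (.node 0 (.node 0 .nil .nil) (.node 0 .nil .nil))) (.node 0 (.node 0 (.node 0 .nil .nil) (.node 0 .nil .nil)) (.node 145 (.node 0 .nil .nil) (.node 0 .nil .nil))))) (.node 0 (.node 0 (.node 0 (.node 752 (.node 0 .nil .nil) (.node 0 .nil .nil)) (.node 0 (.node 0 .nil .nil) (.node 0 .nil .nil))) (.node 0 (.node 0 (.node 0 .nil .nil) (.node 146 .nil .nil)) (.node 0 (.node 0 .nil .nil) (.node 0 .nil .nil)))) (.node 0 (.node 0 (.node 0 (.node 0 .nil .nil) (.node 0 .nil .nil)) (.node 636 (.node 0 .nil .nil) (.node 0 .nil .nil))) (.node 0 (.node 0 (.node 0 .nil .nil) (.node 0 .nil .nil)) (.node 0 (.node 0 .nil .nil) (.node 0 .nil .nil)))))))))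

/-- Data. -/
noncomputable def prods : Arr (ℕ) := (.node 316 (.node 317 (.node 0 (.node 0 (.node 320 (.node 0 (.node 0 (.node 0 (.node 367 (.node 0 .nil .nil) .nil) (.node 391 .nil .nil)) (.node 0 (.node 374 .nil .nil) (.node 0 .nil .nil))) (.node 332 (.node 293 (.node 215 .nil .nil) (.node 0 .nil .nil)) (.node 0 (.node 0 .nil .nil) (.node 0 .nil .nil)))) (.node 0 (.node 0 (.node 0 (.node 0 .nil .nil) (.node 394 .nil .nil)) (.node 0 (.node 380 .nil .nil) (.node 0 .nil .nil))) (.node 336 (.node 348 (.node 208 .nil .nil) (.node 0 .nil .nil)) (.node 0 (.node 0 .nil .nil) (.node 411 .nil .nil))))) (.node 0 (.node 323 (.node 328 (.node 340 (.node 0 .nil .nil) (.node 0 .nil .nil)) (.node 355 (.node 378 .nil .nil) (.node 0 .nil .nil))) (.node 0 (.node 0 (.node 0 .nil .nil) (.node 399 .nil .nil)) (.node 0 (.node 0 .nil .nil) (.node 0 .nil .nil)))) (.node 324 (.node 0 (.node 344 (.node 0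 .nil .nil) (.node 0 .nil .nil)) (.node 0 (.node 0 .nil .nil) (.node 407 .nil .nil))) (.node 0 (.node 0 (.node 0 .nil .nil) (.node 0 .nil .nil)) (.node 0 (.node 0 .nil .nil) (.node 216 .nil .nil)))))) (.node 0 (.node 0 (.node 260 (.node 0 (.node 0 (.node 0 .nil .nil) (.node 0 .nil .nil)) (.node 353 (.node 0 .nil .nil) (.node 0 .nil .nil))) (.node 0 (.node 245 (.node 0 .nil .nil) (.node 151 .nil .nil)) (.node 248 (.node 384 .nil .nil) (.node 0 .nil .nil)))) (.node 0 (.node 0 (.node 0 (.node 0 .nil .nil) (.node 0 .nil .nil)) (.node 0 (.node 382 .nil .nil) (.node 286 .nil .nil))) (.node 338 (.node 0 (.node 372 .nil .nil) (.node 403 .nil .nil)) (.node 0 (.node 388 .nil .nil) (.node 0 .nil .nil))))) (.node 0 (.node 246 (.node 0 (.node 0 (.node 369 .nil .nil) (.node 0 .nil .nil)) (.node 357 (.node 0 .nil .nil) (.node 0 .nil .nil))) (.node 85 (.node 347 (.node 371 .nil .nil) (.node 0 .nil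 .nil)) (.node 0 (.node 385 .nil .nil) (.node 410 .nil .nil)))) (.node 0 (.node 0 (.node 131 (.node 0 .nil .nil) (.node 397 .nil .nil)) (.node 0 (.node 0 .nil .nil) (.node 0 .nil .nil))) (.node 0 (.node 352 (.node 0 .nil .nil) (.node 405 .nil .nil)) (.node 0 (.node 390 .nil .nil) (.node 414 .nil .nil))))))) (.node 0 (.node 0 (.node 0 (.node 322 (.node 0 (.node 0 (.node 0 .nil .nil) (.node 392 .nil .nil)) (.node 0 (.node 0 .nil .nil) (.node 0 .nil .nil))) (.node 0 (.node 0 (.node 243 .nil .nil) (.node 0 .nil .nil)) (.node 102 (.node 0 .nil .nil) (.node 0 .nil .nil)))) (.node 0 (.node 0 (.node 0 (.node 0 .nil .nil) (.node 0 .nil .nil)) (.node 0 (.node 381 .nil .nil) (.node 0 .nil .nil))) (.node 337 (.node 0 (.node 0 .nil .nil) (.node 0 .nil .nil)) (.node 0 (.node 0 .nil .nil) (.node 0 .nil .nil))))) (.node 0 (.node 0 (.node 0 (.node 0 (.node 0 .nil .nil) (.node 0 .nil .nil)) (.node 0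 (.node 0 .nil .nil) (.node 0 .nil .nil))) (.node 0 (.node 346 (.node 0 .nil .nil) (.node 400 .nil .nil)) (.node 363 (.node 0 .nil .nil) (.node 0 .nil .nil)))) (.node 0 (.node 0 (.node 0 (.node 0 .nil .nil) (.node 396 .nil .nil)) (.node 0 (.node 0 .nil .nil) (.node 408 .nil .nil))) (.node 0 (.node 351 (.node 0 .nil .nil) (.node 0 .nil .nil)) (.node 0 (.node 0 .nil .nil) (.node 413 .nil .nil)))))) (.node 319 (.node 120 (.node 0 (.node 0 (.node 339 (.node 368 .nil .nil) (.node 393 .nil .nil)) (.node 354 (.node 377 .nil .nil) (.node 0 .nil .nil))) (.node 0 (.node 109 (.node 0 .nil .nil) (.node 398 .nil .nil)) (.node 0 (.node 0 .nil .nil) (.node 0 .nil .nil)))) (.node 0 (.node 0 (.node 343 (.node 370 .nil .nil) (.node 395 .nil .nil)) (.node 358 (.node 0 .nil .nil) (.node 307 .nil .nil))) (.node 0 (.node 350 (.node 270 .nil .nil) (.node 0 .nil .nil)) (.node 0 (.node 389 .nil .nil) (.node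 0 .nil .nil))))) (.node 0 (.node 0 (.node 0 (.node 341 (.node 0 .nil .nil) (.node 0 .nil .nil)) (.node 0 (.node 379 .nil .nil) (.node 236 .nil .nil))) (.node 335 (.node 0 (.node 0 .nil .nil) (.node 0 .nil .nil)) (.node 0 (.node 386 .nil .nil) (.node 0 .nil .nil)))) (.node 326 (.node 0 (.node 345 (.node 0 .nil .nil) (.node 0 .nil .nil)) (.node 0 (.node 0 .nil .nil) (.node 0 .nil .nil))) (.node 0 (.node 188 (.node 0 .nil .nil) (.node 0 .nil .nil)) (.node 0 (.node 0 .nil .nil) (.node 415 .nil .nil)))))))) (.node 318 (.node 0 (.node 0 (.node 0 (.node 0 (.node 0 (.node 0 (.node 0 .nil .nil) (.node 0 .nil .nil)) (.node 0 (.node 375 .nil .nil) (.node 0 .nil .nil))) (.node 333 (.node 0 (.node 0 .nil .nil) (.node 0 .nil .nil)) (.node 0 (.node 0 .nil .nil) (.node 0 .nil .nil)))) (.node 0 (.node 0 (.node 0 (.node 0 .nil .nil) (.node 0 .nil .nil)) (.node 0 (.node 0 .nil .nil) (.node 406 .nil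 .nil))) (.node 0 (.node 0 (.node 0 .nil .nil) (.node 0 .nil .nil)) (.node 366 (.node 0 .nil .nil) (.node 0 .nil .nil))))) (.node 0 (.node 0 (.node 329 (.node 0 (.node 0 .nil .nil) (.node 0 .nil .nil)) (.node 356 (.node 0 .nil .nil) (.node 0 .nil .nil))) (.node 0 (.node 0 (.node 0 .nil .nil) (.node 0 .nil .nil)) (.node 0 (.node 0 .nil .nil) (.node 0 .nil .nil)))) (.node 0 (.node 330 (.node 0 (.node 0 .nil .nil) (.node 0 .nil .nil)) (.node 359 (.node 0 .nil .nil) (.node 0 .nil .nil))) (.node 0 (.node 0 (.node 373 .nil .nil) (.node 194 .nil .nil)) (.node 0 (.node 0 .nil .nil) (.node 0 .nil .nil)))))) (.node 0 (.node 0 (.node 0 (.node 0 (.node 0 (.node 0 .nil .nil) (.node 0 .nil .nil)) (.node 0 (.node 0 .nil .nil) (.node 0 .nil .nil))) (.node 0 (.node 0 (.node 0 .nil .nil) (.node 0 .nil .nil)) (.node 0 (.node 158 .nil .nil) (.node 0 .nil .nil)))) (.node 0 (.node 0 (.node 0 (.node 0 .nil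 .nil) (.node 0 .nil .nil)) (.node 0 (.node 0 .nil .nil) (.node 0 .nil .nil))) (.node 0 (.node 0 (.node 0 .nil .nil) (.node 404 .nil .nil)) (.node 0 (.node 0 .nil .nil) (.node 412 .nil .nil))))) (.node 321 (.node 0 (.node 0 (.node 0 (.node 0 .nil .nil) (.node 0 .nil .nil)) (.node 0 (.node 0 .nil .nil) (.node 0 .nil .nil))) (.node 334 (.node 0 (.node 0 .nil .nil) (.node 401 .nil .nil)) (.node 365 (.node 0 .nil .nil) (.node 0 .nil .nil)))) (.node 0 (.node 331 (.node 0 (.node 0 .nil .nil) (.node 0 .nil .nil)) (.node 0 (.node 37 .nil .nil) (.node 409 .nil .nil))) (.node 0 (.node 0 (.node 0 .nil .nil) (.node 0 .nil .nil)) (.node 0 (.node 0 .nil .nil) (.node 0 .nil .nil))))))) (.node 0 (.node 0 (.node 0 (.node 0 (.node 0 (.node 0 (.node 0 .nil .nil) (.node 0 .nil .nil)) (.node 0 (.node 376 .nil .nil) (.node 0 .nil .nil))) (.node 0 (.node 0 (.node 159 .nil .nil) (.node 0 .nil .nil)) (.node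 0 (.node 0 .nil .nil) (.node 0 .nil .nil)))) (.node 0 (.node 0 (.node 0 (.node 0 .nil .nil) (.node 0 .nil .nil)) (.node 0 (.node 0 .nil .nil) (.node 0 .nil .nil))) (.node 0 (.node 349 (.node 0 .nil .nil) (.node 0 .nil .nil)) (.node 0 (.node 0 .nil .nil) (.node 0 .nil .nil))))) (.node 0 (.node 0 (.node 0 (.node 0 (.node 0 .nil .nil) (.node 50 .nil .nil)) (.node 0 (.node 0 .nil .nil) (.node 0 .nil .nil))) (.node 0 (.node 0 (.node 0 .nil .nil) (.node 0 .nil .nil)) (.node 364 (.node 0 .nil .nil) (.node 0 .nil .nil)))) (.node 325 (.node 0 (.node 0 (.node 0 .nil .nil) (.node 0 .nil .nil)) (.node 360 (.node 0 .nil .nil) (.node 0 .nil .nil))) (.node 0 (.node 0 (.node 0 .nil .nil) (.node 0 .nil .nil)) (.node 0 (.node 0 .nil .nil) (.node 0 .nil .nil)))))) (.node 0 (.node 0 (.node 0 (.node 0 (.node 0 (.node 0 .nil .nil) (.node 0 .nil .nil)) (.node 0 (.node 0 .nil .nil) (.node 0 .nil .nil)))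 (.node 0 (.node 0 (.node 0 .nil .nil) (.node 0 .nil .nil)) (.node 362 (.node 0 .nil .nil) (.node 0 .nil .nil)))) (.node 0 (.node 0 (.node 0 (.node 0 .nil .nil) (.node 0 .nil .nil)) (.node 0 (.node 0 .nil .nil) (.node 0 .nil .nil))) (.node 0 (.node 0 (.node 0 .nil .nil) (.node 0 .nil .nil)) (.node 271 (.node 0 .nil .nil) (.node 0 .nil .nil))))) (.node 0 (.node 0 (.node 0 (.node 342 (.node 0 .nil .nil) (.node 0 .nil .nil)) (.node 0 (.node 0 .nil .nil) (.node 0 .nil .nil))) (.node 0 (.node 0 (.node 0 .nil .nil) (.node 402 .nil .nil)) (.node 0 (.node 387 .nil .nil) (.node 0 .nil .nil)))) (.node 327 (.node 0 (.node 0 (.node 0 .nil .nil) (.node 0 .nil .nil)) (.node 361 (.node 383 .nil .nil) (.node 0 .nil .nil))) (.node 0 (.node 0 (.node 0 .nil .nil) (.node 0 .nil .nil)) (.node 0 (.node 0 .nil .nil) (.node 0 .nil .nil)))))))))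

/-- Data. -/
noncomputable def wits : Arr (List ℕ) := (.node [19,15,12,18,18,19,17,15,22,23,21,20] (.node [10,7,7,7,9,8,14,12,17,11,24,17,15,17,24,19,21] (.node [10,7,9,8,8,9,8,13,18,18,20,15,19,24,20,21,19] (.node [8,10,7,7,10,8,8,20,17,11,16,21,20,15,23,22,22] (.node [7,10,7,9,8,8,8,10,8,8,11,23,15,11,21,18,18,24,20,22] (.node [7,7,9,8,10,8,10,8,9,15,24,16,11,18,16,20,16,23,20,24,20] (.node [10,8,8,10,8,9,19,24,13,15,22,17,23,21,24] .nil .nil) (.node [9,8,9,8,9,8,9,8,8,13,17,11,11,22,16,22,17,15,19,23,21] .nil .nil)) (.node [10,8,8,8,9,8,8,10,7,7,19,12,22,11,24,21,18,24,21,19] (.node [7,9,8,8,10,8,10,11,22,18,12,20,21,17,21,24,19] .nil .nil) .nil)) (.node [7,7,7,10,17,13,20,11,17,22,22,18,19,22,24] (.node [8,8,8,9,8,10,8,9,20,16,12,19,24,18,16,19,21,19] (.node [7,7,10,7,7,9,7,7,13,12,12,24,17,20,18,19] .nil .nil) .nil) (.node [8,8,10,7,7,10,7,9,13,21,20,11,11,20,24,15,23,19,22]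 (.node [8,8,8,9,8,9,7,9,8,24,12,14,17,20,21,16,24,21,21] .nil .nil) .nil))) (.node [7,7,14,16,11,20,18,23,20,24,19] (.node [9,7,7,10,7,9,13,22,13,22,18,24,16,24,24,22] (.node [7,9,7,7,7,7,10,8,8,8,19,12,23,12,24,18,20,15,20,24] (.node [7,7,10,7,9,7,10,8,8,20,15,13,18,15,21,15,15,22,24,20] .nil .nil) (.node [8,8,9,8,9,8,8,8,16,24,11,20,16,21,16,22,24,21] .nil .nil)) (.node [10,8,8,8,9,7,7,20,17,14,11,18,15,18,22,22] (.node [7,7,10,8,10,8,9,22,13,13,12,16,22,20,18,19,24,22] .nil .nil) .nil)) (.node [8,8,9,7,7,7,7,9,8,22,11,23,11,19,22,20,17,15,21,24,19,21] (.node [7,10,7,9,7,7,7,11,20,12,21,18,24,17,21,24,19,21] (.node [8,10,8,8,10,8,8,8,15,23,12,18,15,21,15,15,23,20,21,19] .nil .nil) .nil) (.node [10,8,8,9,7,9,7,10,16,19,11,11,18,22,20,17,15,22,24,22,20] (.node [10,8,8,8,9,7,7,13,23,14,11,16,18,15,17,19,24,22] .nil .nil) .nil)))) (.node [9,7,7,9,8,8,8,24,12,16,11,16,19,21,16,23,21,20]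 (.node [9,7,10,7,7,9,8,13,23,14,11,22,18,20,17,21,24] (.node [7,7,7,10,7,7,7,9,18,12,22,11,21,15,18,15,24,21] (.node [9,7,7,7,10,7,9,13,24,13,12,23,15,21,15,22,24,22,20] (.node [10,7,10,8,8,10,7,10,13,17,11,22,16,23,15,22,24,19,21,19] .nil .nil) (.node [9,8,8,8,10,8,8,9,20,14,24,11,15,18,18,21,24,19,21,19] .nil .nil)) (.node [9,7,10,8,8,8,9,7,7,16,12,22,11,22,16,22,17,23,22,20,21,20] (.node [7,7,10,8,8,9,22,22,17,12,19,15,23,18,22,20] .nil .nil) .nil)) (.node [7,9,7,7,7,9,21,11,14,11,23,22,15,18,20,21,23] (.node [7,10,8,8,8,8,9,7,7,17,19,13,18,24,19,16,22,23,21,19] (.node [7,10,8,9,7,7,10,7,7,7,13,21,13,19,21,16,24,22] .nil .nil) .nil) (.node [7,9,7,9,8,8,8,13,16,11,19,18,23,21,24,19] (.node [8,9,7,10,8,8,19,14,22,11,23,19,17,21,21,21] .nil .nil) .nil))) (.node [9,8,8,8,10,7,7,7,22,12,24,12,22,15,15,19,24,24,19] (.node [10,8,9,7,10,7,7,7,10,15,14,11,13,23,17,20,22,20] (.node [8,9,8,8,8,8,10,18,20,17,11,21,18,22,18,20,23,22]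 (.node [7,9,8,8,10,8,9,15,11,19,12,15,24,24,17,19,23,21] .nil .nil) .nil) (.node [9,7,7,9,7,7,9,7,7,9,13,16,20,12,20,17,24,16,24,20,23,19] (.node [7,9,8,10,7,7,7,17,19,24,12,24,20,16,23,19,23] .nil .nil) .nil)) (.node [9,7,7,7,9,8,9,14,12,18,11,18,19,15,23] (.node [9,7,7,9,8,8,10,8,10,22,12,12,15,24,18,24,22,20] (.node [10,7,9,7,10,8,10,8,8,14,24,13,19,17,23,16,22,20,23] .nil .nil) .nil) (.node [9,8,9,7,7,9,22,13,16,11,17,16,20,16,22,20,21,20] (.node [9,8,8,8,8,8,9,8,22,17,12,21,20,16,17,15,24,20,23] .nil .nil) .nil))))) (.node [9,7,7,7,9,7,7,7,18,11,23,11,22,15,24,16,21,24,19] (.node [9,8,8,10,7,7,7,11,15,14,12,16,21,18,16,22,23,20] (.node [10,7,7,9,7,7,12,22,12,20,15,20,17,15,23,22,24,19] (.node [7,7,10,7,7,9,7,7,17,16,11,23,23,17,22,20] (.node [9,7,10,7,10,7,7,10,12,14,14,12,18,15,20,17,15,21] (.node [7,9,8,10,7,7,13,13,12,15,23,18,18,21,21,21] .nil .nil) (.node [7,7,10,7,9,8,8,15,23,15,11,17,20,15,15,24,21,20]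 .nil .nil)) (.node [9,8,8,10,7,9,12,18,11,16,21,15,15,19,24,24] (.node [7,10,7,9,7,7,7,9,22,18,11,11,15,22,17,19,22] .nil .nil) .nil)) (.node [9,8,8,8,9,8,8,11,17,14,24,15,18,23,22,20,21,19] (.node [7,7,7,7,7,9,8,8,24,24,18,12,18,19,18,22,24,19] (.node [10,8,9,8,11,19,12,24,21,20,15,23,21,21,19] .nil .nil) .nil) (.node [10,7,7,7,7,9,8,8,15,21,12,18,18,20,15,23,19,24,19] (.node [9,7,7,10,7,9,15,11,14,22,22,17,15,19,21,24,20] .nil .nil) .nil))) (.node [8,10,8,10,8,10,7,7,9,11,14,11,11,16,24,18,19,24,24,19] (.node [8,9,7,10,8,8,9,16,20,14,21,18,15,17,24,20,22,20] (.node [9,7,10,7,9,8,9,20,23,13,17,15,24,19,21] (.node [10,7,10,7,10,8,23,19,15,13,18,16,19,15,21,19,24] .nil .nil) .nil) (.node [10,7,7,7,9,7,10,8,17,21,14,20,22,23,17,15,23,22,24,19] (.node [23,23,11,23,16,19,24] .nil .nil) .nil)) (.node [10,7,10,8,8,8,8,9,13,13,13,12,23,17,24,24,20] (.node [9,7,10,7,10,7,7,10,11,11,16,24,19,15,23,20,24,20]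 (.node [7,7,9,8,10,23,12,24,12,19,16,20,17,21,21,20] .nil .nil) .nil) (.node [10,8,9,8,9,8,10,7,9,22,13,13,12,22,20,17,16,22,22,20] (.node [8,9,7,9,8,8,8,13,21,19,11,24,22,17,21,20,23] .nil .nil) .nil)))) (.node [10,8,9,8,10,8,10,8,9,12,23,18,11,17,22,18,19,24,20,21,19] (.node [7,10,8,23,12,16,13,18,18,16,22,20,23,19] (.node [10,7,9,8,8,8,8,9,18,11,24,11,15,20,15,19,24,24,19] (.node [8,8,8,8,10,8,9,7,7,21,13,17,12,15,20,18,15,15,24,22,22] (.node [10,8,8,8,9,7,7,21,17,19,11,21,15,17,16,23,19,24,20] .nil .nil) (.node [7,7,7,7,7,9,8,8,14,14,14,17,17,19,15,22,24,19,21,19] .nil .nil)) (.node [7,10,8,8,10,7,10,11,22,16,11,17,17,17,23,20,21] (.node [9,8,8,8,8,9,7,10,8,8,17,24,13,11,19,21,15,15,20,22,23] .nil .nil) .nil)) (.node [10,8,9,7,10,8,8,19,13,20,22,15,17,22,19] (.node [7,9,8,8,10,7,9,14,15,11,11,16,20,17,22,24,19,21,19] (.node [8,9,7,7,9,7,9,8,18,20,22,11,23,17,20,17,19,24,21] .nil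 .nil) .nil) (.node [7,10,8,10,8,8,16,14,18,14,17,22,15,18,22,20,21,20] (.node [8,10,7,9,7,7,7,20,12,24,12,21,15,21,15,22,24,21] .nil .nil) .nil))) (.node [8,10,7,9,8,8,8,10,8,8,21,11,11,11,18,21,18,16,21,20,23] (.node [8,9,7,7,7,9,15,22,18,11,19,17,19,15,22,24,19] (.node [8,9,8,9,7,10,8,8,12,21,13,15,15,17,22,23] (.node [10,8,8,8,9,7,7,15,14,12,17,23,18,16,23,23,20] .nil .nil) .nil) (.node [7,7,9,7,9,8,23,12,16,13,18,19,18,15,23,19,24] (.node [8,8,8,9,7,7,21,12,12,24,19,17,21,24,19,21,19] .nil .nil) .nil)) (.node [10,7,10,8,10,14,21,11,17,16,23,15,21] (.node [10,8,10,8,8,10,18,19,11,22,16,21,15,24,20,21] (.node [10,7,7,7,7,9,8,10,7,7,17,17,16,12,21,18,22,18,23,19,22,19] .nil .nil) .nil) (.node [10,8,8,10,8,8,9,8,8,12,13,12,18,22,16,17,23,19,24,20] (.node [9,8,8,8,8,9,8,8,23,12,22,11,15,18,15,24,19] .nil .nil) .nil))))))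

/-- Data. -/
def conjWs : List (List ℕ) := [[9,8,8,8,10,7,7,7,10,20,23,14,24,16,18,19,23,20], [9,8,8,10,8,9,19,13,23,11,18,15,18,15,23,19,21], [10,8,8,8,10,8,9,7,7,22,22,15,11,23,18,18,15,24,19,21,20]]

/-- Data. -/
def other : ℕ := 36

/-- Data. -/
def selfIdx : ℕ := 106

/-- Data. -/
def outerLetter : ℕ := 3

end Cfsg.Agent.SuzInvol.Data
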