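import Cfsg.Agent.OutTab.CentSift
import Cfsg.Agent.SuzInvol.Codes
import Cfsg.Agent.SuzInvol.Levels
import Cfsg.Agent.SuzInvol.Tables

/-!
An involution of the second class of the Suzuki group and its centraliser of order 161280.

The letters are `0 = u`, `1 = v`, `2 = s` and `3, ..., 6`, which generate the centraliser of `u`.
-/

set_option autoImplicit false

namespace Cfsg.Agent.SuzInvol

open Cfsg.Agent.Compute Cfsg.Agent.StemCert Cfsg.Agent.OutTab

/-- Equality of two words. -/
noncomputable def eqW (a b : List ℕ) : Bool := eqOn 11 Data.codes Data.base a b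

/-- A word in the generators of the centraliser. -/
noncomputable def hwB (w : List ℕ) : Bool := allB (fun l => Nat.ble 3 l && Nat.blt l 7) w

/-- A generator fixes `u` and permutes `v` and `u * v`. -/
noncomputable def genB (l : ℕ) : Bool :=
  eqW [l, 0] [0, l] && (eqW [l, 1] [1, l] || eqW [l, 1] [0, 1, l])

/-- A fixed point is reached. -/
noncomputable def redAB (r : ℕ) : Bool :=
  forceL (Data.redA.get [] r) fun w => hwB w &&
    Nat.beq (appW 11 Data.codes w (Data.base.getD 0 0)) (Data.fxU.getD r 0)

/-- A fixed point in the second orbit is reached from one of two points. -/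
noncomputable def redBB (r : ℕ) : Bool :=
  forceL (Data.redB.get [] r) fun w => hwB w && Nat.blt (Data.secStart.get 0 r) 2 &&
    Nat.beq (appW 11 Data.codes w (Data.base.getD 0 0)) (Data.base.getD 0 0) &&
    Nat.beq (appW 11 Data.codes w (Data.starts.getD (Data.secStart.get 0 r) 0)) (Data.second.getD r 0)

/-- A fixed point is in the list or not in the orbit of the stabiliser. -/
noncomputable def secondB (r : ℕ) : Bool :=
  forceN (Data.fxU.getD r 0) fun p => memB p Data.second || !(bitB (Data.masks.getD 1 0) p)

/-- The images of the base under a candidate. -/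
noncomputable def candTgt (i : ℕ) : List ℕ :=
  [Data.base.getD 0 0, Data.starts.getD (i / 1782) 0, i % 1782, appW 11 Data.codes [0] (i % 1782)]

/-- The images of a word on the base are the given ones. -/
noncomputable def hasImagesB (u tg : List ℕ) : Bool :=
  allBelow 4 fun r => Nat.beq (appW 11 Data.codes u (Data.base.getD r 0)) (tg.getD r 0)

/-- A candidate is impossible or listed. -/
noncomputable def candB (i : ℕ) : Bool :=
  forceN (Data.cand.get 0 i) fun W => forceL (candTgt i) fun tg => cond (Nat.beq (Nat.mod W 2) 1)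
    (failB 11 Data.k Data.codes Data.ivs Data.levels Data.base Data.masks tg (Nat.div W 2) [])
    (forceN (Nat.div W 2) fun j => Nat.blt j Data.numEls && Nat.beq (Nat.div i 1782) 0 &&
      hasImagesB (Data.els.get [] j) tg)

/-- The image of the third base point under a listed element. -/
noncomputable def elImg (j : ℕ) : ℕ := appW 11 Data.codes (Data.els.get [] j) (Data.base.getD 2 0)

/-- The listed elements are ordered by the image of the third base point. -/
noncomputable def elB (j : ℕ) : Bool :=
  forceL (Data.els.get [] j) fun w => hwB w &&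
    Nat.beq (appW 11 Data.codes w (Data.base.getD 0 0)) (Data.base.getD 0 0) &&
    Nat.beq (appW 11 Data.codes w (Data.base.getD 1 0)) (Data.base.getD 1 0) &&
    (Nat.beq j 0 || Nat.blt (elImg (Nat.sub j 1)) (elImg j))

/-- The images of the base, packed. -/
noncomputable def keyW (w : List ℕ) : ℕ :=
  List.rec (motive := fun _ => ℕ) 0
    (fun p _ r => Nat.add (appW 11 Data.codes w p) (Nat.mul 2048 r)) Data.base

/-- The four elements `1, u, v, u * v`. -/
def eW (e : ℕ) : List ℕ := [[], [0], [1], [0, 1]].getD e []

/-- The least key in a coset. -/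
noncomputable def cosetKey (w : List ℕ) : ℕ :=
  Nat.min (Nat.min (keyW (w ++ eW 0)) (keyW (w ++ eW 1))) (Nat.min (keyW (w ++ eW 2)) (keyW (w ++ eW 3)))

/-- A conjugate of `s`. -/
noncomputable def tB (i : ℕ) : Bool :=
  forceL (Data.tWords.get [] i) fun t => forceL (Data.tConj.get [] i) fun c =>
    hwB c && allB (fun l => Nat.blt l 7) t && eqW (t ++ c) (c ++ [2]) && eqW (t ++ [1]) (1 :: t) &&
    (Nat.beq i 0 || Nat.blt (cosetKey (Data.tWords.get [] (Nat.sub i 1))) (cosetKey t))

/-- The generators permute the conjugates. -/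
noncomputable def closB (i : ℕ) : Bool :=
  forceN (Data.clos.get 0 i) fun j => Nat.blt j 315 &&
    eqW ((Nat.add 3 (Nat.div i 315)) :: Data.tWords.get [] (Nat.mod i 315))
      (Data.tWords.get [] j ++ [Nat.add 3 (Nat.div i 315)])

/-- An element of the Sylow 2-subgroup. -/
noncomputable def rB (i : ℕ) : Bool :=
  forceL (Data.rWords.get [] i) fun x => hwB x && eqW (x ++ [2]) (2 :: x) &&
    (Nat.beq i 0 || Nat.blt (keyW (Data.rWords.get [] (Nat.sub i 1))) (keyW x))

/-- Membership in the four-group. -/
noncomputable def inVB (x : List ℕ) : Bool :=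
  eqW x (eW 0) || eqW x (eW 1) || eqW x (eW 2) || eqW x (eW 3)

/-- An involution modulo the four-group has a conjugate of `s` in its coset. -/
noncomputable def cosetB (i : ℕ) : Bool :=
  forceN (Data.coset.get 0 i) fun c => forceL (Data.rWords.get [] i) fun x =>
    cond (Nat.beq c 0) (!(eqW (x ++ [1]) (1 :: x)) || !(inVB (x ++ x)) || inVB x)
      (Nat.blt (Nat.div (Nat.sub c 1) 4) 315 &&
        eqW (x ++ eW (Nat.mod (Nat.sub c 1) 4)) (Data.tWords.get [] (Nat.div (Nat.sub c 1) 4)))

/-- A product with `s` is a conjugate of `s`, or the element is not. -/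
noncomputable def prodB (i : ℕ) : Bool :=
  forceN (Data.prods.get 0 i) fun c => forceL (Data.rWords.get [] i) fun x =>
    cond (Nat.beq c 0) (!(eqW (x ++ x) []) || eqW x [] || eqW x [2])
      (cond (Nat.blt c 316) (eqW (2 :: x) (Data.tWords.get [] (Nat.sub c 1)))
        (forceL (Data.wits.get [] (Nat.sub c 316)) fun w =>
          allB (fun l => Nat.blt l Data.k) w && eqW (w ++ [0]) (x ++ w)))

/-- A conjugating word from `u`. -/
noncomputable def conjUB (i : ℕ) (x : List ℕ) : Bool :=
  forceL (Data.conjWs.getD i []) fun w =>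
    allB (fun l => Nat.blt l Data.k) w && eqW (w ++ [0]) (x ++ w)

end Cfsg.Agent.SuzInvol
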