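import Cfsg.Agent.SuzOut.Model
import Cfsg.Agent.SuzInvol.Check

/-!
The centraliser of an involution of the second class has order 161280.
-/

set_option autoImplicit false
set_option maxRecDepth 100000

namespace Cfsg.Agent.SuzInvol

open Cfsg Cfsg.Agent.Compute Cfsg.Agent.StemCert Cfsg.Agent.OutTab Subgroup

/-- The letters. -/
noncomputable def gen2 (s : ℕ) : Spor.Suz := evalW SuzOut.gen (Data.letters.getD s [])

theorem coded2 : Coded (w := 11) (k := Data.k) SuzOut.ι gen2 Data.codes :=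
  LeechModel.coded_of_wordsB SuzOut.coded words_ok

theorem base2 : IsBase SuzOut.ι Data.base :=
  have := SuzOut.finite_suz
  isBase_of_card coded2 levels_ok.1 levels_ok.2.1 levels_ok.2.2.2.1 distinct_ok
    (levels_ok.2.2.1.trans SuzOut.card_suz.symm)

theorem lt_k {l : ℕ} (h : l < 7) : l < Data.k := Nat.lt_of_lt_of_le h levels_ok.2.2.2.2.1

theorem eq_of_eqW {a b : List ℕ} (ha : ∀ l ∈ a, l < Data.k) (hb : ∀ l ∈ b, l < Data.k)
    (h : eqW a b = true) : evalW gen2 a = evalW gen2 b :=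
  eq_of_eqOn coded2 base2 ha hb h

theorem eqW_of_eq {a b : List ℕ} (ha : ∀ l ∈ a, l < Data.k) (hb : ∀ l ∈ b, l < Data.k)
    (h : evalW gen2 a = evalW gen2 b) : eqW a b = true :=
  OutTab.eqOn_of_eq coded2 base2.1 ha hb h

theorem ev_one (l : ℕ) : evalW gen2 [l] = gen2 l := by simp [evalW]

theorem ev_two (a b : ℕ) : evalW gen2 [a, b] = gen2 a * gen2 b := by simp [evalW]

theorem ev_three (a b c : ℕ) : evalW gen2 [a, b, c] = gen2 a * (gen2 b * gen2 c) := by simp [evalW]

theorem lt_small {w : List ℕ} (h : allB (fun l => Nat.blt l 7) w = true) : ∀ l ∈ w, l < Data.k :=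
  fun l hl => lt_k (Nat.blt_eq.mp (allB_spec h l hl))

theorem lt_two {a b : ℕ} (ha : a < 7) (hb : b < 7) : ∀ l ∈ [a, b], l < Data.k := by
  simp only [List.mem_cons, List.not_mem_nil, or_false]
  rintro l (rfl | rfl) <;> apply lt_k <;> assumption

theorem lt_one {a : ℕ} (ha : a < 7) : ∀ l ∈ [a], l < Data.k := fun _ hl =>
  (List.mem_singleton.mp hl) ▸ lt_k ha

theorem lt_app {a b : List ℕ} (ha : ∀ l ∈ a, l < Data.k) (hb : ∀ l ∈ b, l < Data.k) :
    ∀ l ∈ a ++ b, l < Data.k := fun l hl => (List.mem_append.mp hl).elim (ha l) (hb l)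

/-- The involution. -/
noncomputable def uE : Spor.Suz := gen2 0

/-- Its companion. -/
noncomputable def vE : Spor.Suz := gen2 1

/-- The involution of the other class. -/
noncomputable def sE : Spor.Suz := gen2 2

theorem sq_gen {l : ℕ} (hl : l < 7) (h : eqW [l, l] [] = true) : gen2 l * gen2 l = 1 := by
  have := eq_of_eqW (lt_two hl hl) (by simp) h
  rwa [ev_two] at this

theorem ne_gen {l : ℕ} (hl : l < 7) (h : eqW [l] [] = false) : gen2 l ≠ 1 := fun e => by
  rw [eqW_of_eq (lt_one hl) (by simp) (by rw [ev_one, e]; rfl)] at h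
  exact Bool.noConfusion h

theorem order_gen {l : ℕ} (hl : l < 7) (h : eqW [l, l] [] = true) (h' : eqW [l] [] = false) :
    orderOf (gen2 l) = 2 :=
  orderOf_eq_prime (by rw [pow_two, sq_gen hl h]) (ne_gen hl h')

theorem comm_gen {a b : ℕ} (ha : a < 7) (hb : b < 7) (h : eqW [a, b] [b, a] = true) :
    gen2 a * gen2 b = gen2 b * gen2 a := by
  have := eq_of_eqW (lt_two ha hb) (lt_two hb ha) h
  rwa [ev_two, ev_two] at this

theorem uu : uE * uE = 1 := sq_gen (by norm_num) small_ok.1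

theorem vv : vE * vE = 1 := sq_gen (by norm_num) small_ok.2.2.1

theorem uv : uE * vE = vE * uE := comm_gen (by norm_num) (by norm_num) small_ok.2.2.2.2.2.2.2.1

/-- A word in the generators of the centraliser. -/
def HWord (w : List ℕ) : Prop := ∀ l ∈ w, 3 ≤ l ∧ l < 7

theorem hWord_of_B {w : List ℕ} (h : hwB w = true) : HWord w := fun l hl => by
  have := allB_spec h l hl
  simp only [Bool.and_eq_true, Nat.ble_eq, Nat.blt_eq] at this
  exact this

theorem HWord.lt {w : List ℕ} (h : HWord w) : ∀ l ∈ w, l < Data.k := fun l hl => lt_k (h l hl).2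

theorem HWord.append {a b : List ℕ} (ha : HWord a) (hb : HWord b) : HWord (a ++ b) := fun l hl =>
  (List.mem_append.mp hl).elim (ha l) (hb l)

theorem gen_spec {l : ℕ} (h3 : 3 ≤ l) (h7 : l < 7) :
    gen2 l * uE = uE * gen2 l ∧ (gen2 l * vE = vE * gen2 l ∨ gen2 l * vE = uE * (vE * gen2 l)) := by
  obtain ⟨-, -, -, -, -, -, -, -, -, -, hg, -⟩ := small_ok
  have h := hg ⟨l - 3, by omega⟩
  simp only [genB, Nat.add_sub_cancel' h3, Bool.and_eq_true, Bool.or_eq_true] at h
  refine ⟨comm_gen h7 (by norm_num) h.1, h.2.imp (comm_gen h7 (by norm_num)) fun e => ?_⟩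
  have := eq_of_eqW (lt_two h7 (by norm_num)) (b := [0, 1, l]) (by
    simp only [List.mem_cons, List.not_mem_nil, or_false]
    rintro m (rfl | rfl | rfl) <;> apply lt_k <;> omega) e
  rwa [ev_two, ev_three] at this

theorem HWord.comm : ∀ {w : List ℕ}, HWord w → evalW gen2 w * uE = uE * evalW gen2 w
  | [], _ => by simp [evalW]
  | l :: w, h => by
    have hl := h l (by simp)
    rw [evalW_cons]
    exact (Commute.mul_left (gen_spec hl.1 hl.2).1
      (HWord.comm fun m hm => h m (List.mem_cons_of_mem _ hm))).eq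

theorem HWord.conj_v : ∀ {w : List ℕ}, HWord w →
    evalW gen2 w * vE = vE * evalW gen2 w ∨ evalW gen2 w * vE = uE * (vE * evalW gen2 w)
  | [], _ => Or.inl (by simp [evalW])
  | l :: w, h => by
    obtain ⟨hcu, hcv⟩ := gen_spec (h l (by simp)).1 (h l (by simp)).2
    have hw : HWord w := fun m hm => h m (List.mem_cons_of_mem _ hm)
    rw [evalW_cons]
    rcases hw.conj_v with e | e <;> rcases hcv with e' | e'
    · exact Or.inl (by rw [mul_assoc, e, ← mul_assoc, e', mul_assoc])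
    · exact Or.inr (by rw [mul_assoc, e, ← mul_assoc, e', mul_assoc, mul_assoc])
    · exact Or.inr (by rw [mul_assoc, e, ← mul_assoc, hcu, mul_assoc, ← mul_assoc (gen2 l) vE, e',
        mul_assoc vE])
    · refine Or.inl ?_
      rw [mul_assoc, e, ← mul_assoc, hcu, mul_assoc, ← mul_assoc (gen2 l) vE, e', mul_assoc uE, mul_assoc vE,
        ← mul_assoc uE uE, uu, one_mul]

theorem app_eq (w : List ℕ) (hw : ∀ l ∈ w, l < Data.k) {x : ℕ} (hx : x < 1782) :
    (SuzOut.ι (evalW gen2 w) ⟨x, hx⟩ : ℕ) = appW 11 Data.codes w x := appW_spec coded2 w hw ⟨x, hx⟩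

theorem fix_u {x : Fin 1782} (h : SuzOut.ι uE x = x) : x.val ∈ Data.fxU := by
  have h' := allBelow_eq_true.mp (show (allBelow 1782 fun p =>
      !(Nat.beq (getField 11 (Data.codes.getD 0 0) p) p) || memB p Data.fxU) = true by
    have := stage_ok.1; rwa [fixListB, forceN_eq] at this) x x.isLt
  simp only [Bool.or_eq_true, Bool.not_eq_true'] at h'
  rcases h' with h' | h'
  · rw [show Nat.beq (getField 11 (Data.codes.getD 0 0) x) x = true from
      Nat.beq_eq.mpr (by rw [← coded2 0 (lt_k (by norm_num)) x]; exact congrArg Fin.val h)] at h'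
    exact Bool.noConfusion h'
  · exact memB_eq_true.mp h'

theorem moved_fix {g : Spor.Suz} (hg : g * uE = uE * g) {x : Fin 1782} (hx : SuzOut.ι uE x = x) :
    (SuzOut.ι g x : Fin 1782).val ∈ Data.fxU := fix_u (by
  rw [← Equiv.Perm.mul_apply, ← map_mul, ← hg, map_mul, Equiv.Perm.mul_apply, hx])

theorem base_lt {r : ℕ} (hr : r < 4) : Data.base.getD r 0 < 1782 :=
  levels_ok.2.2.2.1 _ (by
    rw [List.getD_eq_getElem _ _ (by rw [levels_ok.2.2.2.2.2]; exact hr)]; exact List.getElem_mem _)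

/-- A base point. -/
noncomputable def bp (r : Fin 4) : Fin 1782 := ⟨Data.base.getD r.val 0, base_lt r.isLt⟩

theorem fixed_bp {r : Fin 4} (h : appW 11 Data.codes [0] (Data.base.getD r.val 0) = Data.base.getD r.val 0) :
    SuzOut.ι uE (bp r) = bp r := Fin.ext (by
  rw [uE, ← ev_one, bp, app_eq [0] (lt_one (by norm_num)) (base_lt r.isLt)]; exact h)

theorem fix_bp0 : SuzOut.ι uE (bp 0) = bp 0 := fixed_bp stage_ok.2.2.2.2.2.2.2.2.2.2.1

theorem fix_bp1 : SuzOut.ι uE (bp 1) = bp 1 := fixed_bp stage_ok.2.2.2.2.2.2.2.2.2.2.2.1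

theorem nf_surj (g : Spor.Suz) : ∃ y : forms Data.levels, nf gen2 Lv.word Data.levels y.1 = g := by
  have := SuzOut.finite_suz
  let f : forms Data.levels → Spor.Suz := fun y => nf gen2 Lv.word Data.levels y.1
  exact ((Nat.bijective_iff_injective_and_card f).mpr
    ⟨fun a b e' => Subtype.ext (nf_injective_of_check coded2 levels_ok.1 levels_ok.2.1 base2.1
      distinct_ok _ _ (valid_of_mem_forms a.2) (valid_of_mem_forms b.2) e'),
      by simp [card_forms, levels_ok.2.2.1, SuzOut.card_suz]⟩).2 g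

theorem orbit_mask_aux {L M : Lv} {Ls : List Lv} {b c : ℕ} {bs ms : List ℕ}
    (hw : wfB (L :: M :: Ls) = true) (hgb : gensBelow Data.k (L :: M :: Ls) = true)
    (hd : distinctB 11 Data.codes (L :: M :: Ls) (b :: c :: bs) = true)
    (hm : maskB 11 Data.codes (L :: M :: Ls) (b :: c :: bs) ms = true) (hb : b < 1782) (hc : c < 1782)
    {y : List ℕ} (hy : Valid (L :: M :: Ls) y)
    (h : SuzOut.ι (nf gen2 Lv.word (L :: M :: Ls) y) ⟨b, hb⟩ = ⟨b, hb⟩) :
    bitB (ms.getD 1 0) (SuzOut.ι (nf gen2 Lv.word (L :: M :: Ls) y) ⟨c, hc⟩ : Fin 1782).val = true := by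
  obtain ⟨-, h0, hword, -, hw'⟩ := wfB_cons hw
  obtain ⟨-, -, hword', -, hw''⟩ := wfB_cons hw'
  have hg' : (allB (fun s => Nat.blt s Data.k) L.gens &&
    (allB (fun s => Nat.blt s Data.k) M.gens && gensBelow Data.k Ls)) = true := hgb
  have hd' : (fixBelow 11 Data.codes (M :: Ls) b &&
    allBelow L.size (fun j =>
      allBelow j (fun j' => !Nat.beq (appW 11 Data.codes (L.word j) b) (appW 11 Data.codes (L.word j') b))) &&
    (fixBelow 11 Data.codes Ls c &&
      allBelow M.size (fun j =>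
        allBelow j (fun j' => !Nat.beq (appW 11 Data.codes (M.word j) c) (appW 11 Data.codes (M.word j') c))) &&
      distinctB 11 Data.codes Ls bs)) = true := hd
  have hm' : (allBelow L.size (fun j => bitB (ms.headD 0) (appW 11 Data.codes (L.word j) b)) &&
    (allBelow M.size (fun j => bitB (ms.tail.headD 0) (appW 11 Data.codes (M.word j) c)) &&
      maskB 11 Data.codes Ls bs ms.tail.tail)) = true := hm
  simp only [Bool.and_eq_true] at hg' hd' hm'
  obtain ⟨j, r, rfl, hj, hr⟩ := hy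
  obtain ⟨i, r', rfl, hi, hr'⟩ := hr
  have hjk : ∀ l ∈ L.word j, l < Data.k := fun l hl => gens_lt hgb (L := L) (by simp) (hword j hj l hl)
  have hik : ∀ l ∈ M.word i, l < Data.k := fun l hl =>
    gens_lt hgb (L := M) (by simp) (hword' i hi l hl)
  have hgM : gensBelow Data.k (M :: Ls) = true := by
    show (allB (fun s => Nat.blt s Data.k) M.gens && gensBelow Data.k Ls) = true
    simp [hg'.2.1, hg'.2.2]
  have e1 : SuzOut.ι (evalW gen2 (L.word j)) ⟨b, hb⟩ = ⟨b, hb⟩ := by
    simp only [nf, List.headD_cons, List.tail_cons, map_mul, Equiv.Perm.mul_apply] at h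
    have hfix := nf_fix coded2 (b := ⟨b, hb⟩) hw' hgM hd'.1.1 (x := i :: r') ⟨i, r', rfl, hi, hr'⟩
    simp only [nf, List.headD_cons, List.tail_cons, map_mul, Equiv.Perm.mul_apply] at hfix
    rwa [hfix] at h
  have hj0 : j = 0 := by
    by_contra hne
    have hb' := congrArg Fin.val e1
    rw [app_eq _ hjk hb] at hb'
    have := allBelow_eq_true.mp (allBelow_eq_true.mp hd'.1.2 j hj) 0 (Nat.pos_of_ne_zero hne)
    rw [hb', h0, show appW 11 Data.codes [] b = b from rfl] at this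
    simp at this
  subst hj0
  simp only [nf, List.headD_cons, List.tail_cons, map_mul, Equiv.Perm.mul_apply, h0]
  rw [show evalW gen2 [] = 1 from rfl, map_one, Equiv.Perm.one_apply,
    nf_fix coded2 (b := ⟨c, hc⟩) hw'' hg'.2.2 hd'.2.1.1 hr', app_eq _ hik hc]
  cases ms with
  | nil => exact allBelow_eq_true.mp hm'.2.1 i hi
  | cons m ms => cases ms with
    | nil => exact allBelow_eq_true.mp hm'.2.1 i hi
    | cons m' ms => exact allBelow_eq_true.mp hm'.2.1 i hi

theorem stage_one {g : Spor.Suz} (hg : g * uE = uE * g) :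
    ∃ r < 42, HWord (Data.redA.get [] r) ∧
      SuzOut.ι (evalW gen2 (Data.redA.get [] r)) (bp 0) = SuzOut.ι g (bp 0) := by
  obtain ⟨r, hr, hre⟩ := List.mem_iff_getElem.mp (moved_fix hg fix_bp0)
  have hr' : r < 42 := stage_ok.2.1 ▸ hr
  have h := allBelow_eq_true.mp stage_ok.2.2.2.2.2.1 r hr'
  simp only [redAB, forceL_eq, Bool.and_eq_true] at h
  refine ⟨r, hr', hWord_of_B h.1, Fin.ext ?_⟩
  rw [← hre, ← List.getD_eq_getElem _ 0 hr, bp, app_eq _ (hWord_of_B h.1).lt (base_lt (by norm_num))]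
  exact Nat.eq_of_beq_eq_true h.2

theorem second_mask {g : Spor.Suz} (hg : g * uE = uE * g) (h0 : SuzOut.ι g (bp 0) = bp 0) :
    (SuzOut.ι g (bp 1) : Fin 1782).val ∈ Data.second := by
  obtain ⟨r, hr, hre⟩ := List.mem_iff_getElem.mp (moved_fix hg fix_bp1)
  have h := allBelow_eq_true.mp stage_ok.2.2.2.2.2.2.2.1 r (stage_ok.2.1 ▸ hr)
  simp only [secondB, forceN_eq, Bool.or_eq_true, Bool.not_eq_true'] at h
  rw [List.getD_eq_getElem _ _ hr, hre] at h
  refine h.elim memB_eq_true.mp fun hb => ?_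
  exfalso
  obtain ⟨y, hy⟩ := nf_surj g
  have hbase : Data.base = [Data.base.getD 0 0, Data.base.getD 1 0, Data.base.getD 2 0, Data.base.getD 3 0] := by
    decide +kernel
  have := orbit_mask_aux (b := Data.base.getD 0 0) (c := Data.base.getD 1 0)
    (bs := [Data.base.getD 2 0, Data.base.getD 3 0]) levels_ok.1 levels_ok.2.1
    (hbase ▸ distinct_ok) (hbase ▸ mask_ok) (base_lt (by norm_num)) (base_lt (by norm_num))
    (valid_of_mem_forms y.2) (hy.symm ▸ h0)
  rw [← hy] at hb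
  exact Bool.noConfusion (hb.symm.trans this)

theorem stage_two {g : Spor.Suz} (hg : g * uE = uE * g) (h0 : SuzOut.ι g (bp 0) = bp 0) :
    ∃ r < 25, ∃ hs : Data.starts.getD (Data.secStart.get 0 r) 0 < 1782,
      Data.secStart.get 0 r < 2 ∧ HWord (Data.redB.get [] r) ∧
      SuzOut.ι (evalW gen2 (Data.redB.get [] r)) (bp 0) = bp 0 ∧
      SuzOut.ι (evalW gen2 (Data.redB.get [] r)) ⟨Data.starts.getD (Data.secStart.get 0 r) 0, hs⟩ =
        SuzOut.ι g (bp 1) := by
  obtain ⟨r, hr, hre⟩ := List.mem_iff_getElem.mp (second_mask hg h0)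
  have hr' : r < 25 := stage_ok.2.2.2.1 ▸ hr
  have h := allBelow_eq_true.mp stage_ok.2.2.2.2.2.2.1 r hr'
  simp only [redBB, forceL_eq, Bool.and_eq_true, Nat.blt_eq] at h
  obtain ⟨⟨⟨hw, hsec⟩, h1⟩, h2⟩ := h
  have hs := stage_ok.2.2.2.2.2.2.2.2.2.1 ⟨_, hsec⟩
  refine ⟨r, hr', hs, hsec, hWord_of_B hw, Fin.ext ?_, Fin.ext ?_⟩
  · rw [bp, app_eq _ (hWord_of_B hw).lt (base_lt (by norm_num))]
    exact Nat.eq_of_beq_eq_true h1
  · rw [app_eq _ (hWord_of_B hw).lt hs, ← hre, ← List.getD_eq_getElem _ 0 hr]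
    exact Nat.eq_of_beq_eq_true h2

theorem stage_three {g : Spor.Suz} (hg : g * uE = uE * g) (h0 : SuzOut.ι g (bp 0) = bp 0) {a : ℕ}
    (ha : a < 2) (hs : Data.starts.getD a 0 < 1782) (h1 : SuzOut.ι g (bp 1) = ⟨Data.starts.getD a 0, hs⟩) :
    ∃ j < 192, a = 0 ∧ g = evalW gen2 (Data.els.get [] j) := by
  set i := a * 1782 + (SuzOut.ι g (bp 2) : Fin 1782).val
  have hc := (SuzOut.ι g (bp 2)).isLt
  have hk := allBelow_eq_true.mp cand_ok i (by omega)
  have htg : candTgt i = [Data.base.getD 0 0, Data.starts.getD a 0, (SuzOut.ι g (bp 2) : Fin 1782).val,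
      appW 11 Data.codes [0] (SuzOut.ι g (bp 2) : Fin 1782).val] := by
    rw [candTgt, show i / 1782 = a by omega, show i % 1782 = (SuzOut.ι g (bp 2) : Fin 1782).val by omega]
  have himg : ∀ r < Data.base.length, ∀ x : Fin 1782, (x : ℕ) = Data.base.getD r 0 →
      (SuzOut.ι g x : ℕ) = (candTgt i).getD r 0 := by
    intro r hr x hx
    rw [levels_ok.2.2.2.2.2] at hr
    rw [htg]
    have hx' : x = bp ⟨r, hr⟩ := Fin.ext hx
    subst hx'
    interval_cases r
    · exact congrArg Fin.val h0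
    · exact congrArg Fin.val h1
    · rfl
    · have e : bp ⟨3, hr⟩ = SuzOut.ι uE (bp 2) := Fin.ext (by
        rw [uE, ← ev_one, bp, bp, app_eq [0] (lt_one (by norm_num)) (base_lt (by norm_num))]
        exact stage_ok.2.2.2.2.2.2.2.2.2.2.2.2.1.symm)
      rw [e, ← Equiv.Perm.mul_apply, ← map_mul, hg, map_mul, Equiv.Perm.mul_apply, uE, ← ev_one,
        appW_spec coded2 [0] (lt_one (by norm_num))]
      rfl
  rw [candB, forceN_eq, forceL_eq] at hk
  cases hW : Nat.beq (Nat.mod (Data.cand.get 0 i) 2) 1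
  · rw [hW, cond_false, forceN_eq] at hk
    simp only [Bool.and_eq_true, Nat.blt_eq] at hk
    obtain ⟨⟨hj, ha0⟩, him⟩ := hk
    set j := Nat.div (Data.cand.get 0 i) 2
    have hj' : j < 192 := stage_ok.2.2.2.2.2.2.2.2.2.2.2.2.2.1 ▸ hj
    have hel := allBelow_eq_true.mp stage_ok.2.2.2.2.2.2.2.2.2.2.2.2.2.2.1 j hj'
    simp only [elB, forceL_eq, Bool.and_eq_true] at hel
    refine ⟨j, hj', ?_, ?_⟩
    · have := Nat.eq_of_beq_eq_true ha0
      change i / 1782 = 0 at this
      omega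
    · refine (inv_mul_eq_one.mp (base2.2 _ fun x hx => ?_)).symm
      obtain ⟨r, hr, hre⟩ := List.mem_iff_getElem.mp hx
      have hx' : (x : ℕ) = Data.base.getD r 0 := by rw [List.getD_eq_getElem _ _ hr, hre]
      have e2 : SuzOut.ι (evalW gen2 (Data.els.get [] j)) x = SuzOut.ι g x := Fin.ext (by
        rw [himg r hr x hx', appW_spec coded2 _ (hWord_of_B hel.1.1.1).lt, hx']
        exact Nat.eq_of_beq_eq_true (allBelow_eq_true.mp him r (levels_ok.2.2.2.2.2 ▸ hr)))
      rw [map_mul, map_inv, Equiv.Perm.mul_apply, ← e2, Equiv.Perm.inv_def, Equiv.symm_apply_apply]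
  · rw [hW, cond_true] at hk
    exfalso
    obtain ⟨y, hy⟩ := nf_surj g
    refine failB_ne coded2 base2 iv_ok levels_ok.1 levels_ok.2.1 base2.1 distinct_ok mask_ok (by rfl) hk
      y.1 (valid_of_mem_forms y.2) fun r hr x hx => ?_
    rw [show evalW gen2 [] = 1 from rfl, one_mul, hy]
    exact himg r hr x hx

/-- The index set of the normal form in the centraliser. -/
abbrev CForm : Type := Fin 42 × {r : Fin 25 // Data.secStart.get 0 r.val = 0} × Fin 192

/-- The word of a normal form in the centraliser. -/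
noncomputable def cWord (x : CForm) : List ℕ :=
  Data.redA.get [] x.1.val ++ (Data.redB.get [] x.2.1.1.val ++ Data.els.get [] x.2.2.val)

theorem cWord_spec (x : CForm) : HWord (cWord x) ∧
    appW 11 Data.codes (Data.els.get [] x.2.2.val) (Data.base.getD 0 0) = Data.base.getD 0 0 ∧
    appW 11 Data.codes (Data.els.get [] x.2.2.val) (Data.base.getD 1 0) = Data.base.getD 1 0 := by
  have ha := allBelow_eq_true.mp stage_ok.2.2.2.2.2.1 x.1.val x.1.isLt
  have hb := allBelow_eq_true.mp stage_ok.2.2.2.2.2.2.1 x.2.1.1.val x.2.1.1.isLt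
  have hc := allBelow_eq_true.mp stage_ok.2.2.2.2.2.2.2.2.2.2.2.2.2.2.1 x.2.2.val x.2.2.isLt
  simp only [redAB, forceL_eq, Bool.and_eq_true] at ha
  simp only [redBB, forceL_eq, Bool.and_eq_true] at hb
  simp only [elB, forceL_eq, Bool.and_eq_true] at hc
  exact ⟨(hWord_of_B ha.1).append ((hWord_of_B hb.1.1.1).append (hWord_of_B hc.1.1.1)),
    Nat.eq_of_beq_eq_true hc.1.1.2, Nat.eq_of_beq_eq_true hc.1.2⟩

theorem exists_cWord {g : Spor.Suz} (hg : g * uE = uE * g) : ∃ x : CForm, g = evalW gen2 (cWord x) := by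
  obtain ⟨r, hr, hra, hre⟩ := stage_one hg
  set a := evalW gen2 (Data.redA.get [] r)
  have hg1 : (a⁻¹ * g) * uE = uE * (a⁻¹ * g) := (Commute.mul_left (Commute.inv_left hra.comm) hg).eq
  have h10 : SuzOut.ι (a⁻¹ * g) (bp 0) = bp 0 := by
    rw [map_mul, map_inv, Equiv.Perm.mul_apply, ← hre, Equiv.Perm.inv_def, Equiv.symm_apply_apply]
  obtain ⟨r', hr', hs, hsec, hrb, hb0, hb1⟩ := stage_two hg1 h10
  set b := evalW gen2 (Data.redB.get [] r')
  have hg2 : (b⁻¹ * (a⁻¹ * g)) * uE = uE * (b⁻¹ * (a⁻¹ * g)) :=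
    (Commute.mul_left (Commute.inv_left hrb.comm) hg1).eq
  have h20 : SuzOut.ι (b⁻¹ * (a⁻¹ * g)) (bp 0) = bp 0 := by
    rw [map_mul, map_inv, Equiv.Perm.mul_apply, h10, Equiv.Perm.inv_def, Equiv.symm_apply_eq, hb0]
  have h21 : SuzOut.ι (b⁻¹ * (a⁻¹ * g)) (bp 1) = ⟨_, hs⟩ := by
    rw [map_mul _ b⁻¹, map_inv, Equiv.Perm.mul_apply, ← hb1, Equiv.Perm.inv_def, Equiv.symm_apply_apply]
  obtain ⟨j, hj, h0, hje⟩ := stage_three hg2 h20 hsec hs h21
  refine ⟨⟨⟨r, hr⟩, ⟨⟨r', hr'⟩, h0⟩, ⟨j, hj⟩⟩, ?_⟩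
  show g = evalW gen2 (Data.redA.get [] r ++ (Data.redB.get [] r' ++ Data.els.get [] j))
  rw [evalW_append, evalW_append, ← hje]
  simp only [a, b, mul_inv_cancel_left]

theorem exists_hWord {g : Spor.Suz} (hg : g * uE = uE * g) : ∃ w, HWord w ∧ g = evalW gen2 w := by
  obtain ⟨x, hx⟩ := exists_cWord hg
  exact ⟨_, (cWord_spec x).1, hx⟩

theorem card_CForm : Nat.card CForm = 161280 := by
  rw [Nat.card_prod, Nat.card_prod, Nat.card_fin, Nat.card_fin, Nat.card_eq_fintype_card,
    Fintype.card_subtype]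
  have h := stage_ok.2.2.2.2.2.2.2.2.2.2.2.2.2.2.2
  have e : (Finset.univ.filter fun r : Fin 25 => Data.secStart.get 0 r.val = 0).card =
      ((Finset.range 25).filter fun r => Data.secStart.get 0 r = 0).card := by
    rw [← Finset.card_map Fin.valEmbedding]
    congr 1
  rw [e, h]

theorem cWord_injective {x y : CForm} (h : evalW gen2 (cWord x) = evalW gen2 (cWord y)) : x = y := by
  have key : ∀ z : CForm, ∀ r : Fin 4, r.val < 2 →
      SuzOut.ι (evalW gen2 (Data.els.get [] z.2.2.val)) (bp r) = bp r := by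
    intro z r hr
    obtain ⟨hw, h0, h1⟩ := cWord_spec z
    have hel : ∀ l ∈ Data.els.get [] z.2.2.val, l < Data.k := fun l hl =>
      hw.lt l (by simp [cWord, hl])
    refine Fin.ext ?_
    rw [bp, app_eq _ hel (base_lt r.isLt)]
    rcases r with ⟨_ | _ | r, hr'⟩
    · exact h0
    · exact h1
    · exact absurd hr (by simp)
  have keyB : ∀ z : CForm, SuzOut.ι (evalW gen2 (Data.redB.get [] z.2.1.1.val)) (bp 0) = bp 0 ∧
      (SuzOut.ι (evalW gen2 (Data.redB.get [] z.2.1.1.val)) (bp 1) : Fin 1782).val =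
        Data.second.getD z.2.1.1.val 0 := by
    intro z
    have hb := allBelow_eq_true.mp stage_ok.2.2.2.2.2.2.1 z.2.1.1.val z.2.1.1.isLt
    simp only [redBB, forceL_eq, Bool.and_eq_true] at hb
    have e1 := Nat.eq_of_beq_eq_true hb.2
    rw [z.2.1.2, stage_ok.2.2.2.2.2.2.2.2.1] at e1
    refine ⟨Fin.ext ?_, ?_⟩
    · rw [bp, app_eq _ (hWord_of_B hb.1.1.1).lt (base_lt (by norm_num))]
      exact Nat.eq_of_beq_eq_true hb.1.2
    · rw [bp, app_eq _ (hWord_of_B hb.1.1.1).lt (base_lt (by norm_num))]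
      exact e1
  simp only [cWord, evalW_append] at h
  have ha : x.1 = y.1 := by
    have e0 := congrArg (fun g => (SuzOut.ι g (bp 0) : Fin 1782).val) h
    simp only [map_mul, Equiv.Perm.mul_apply, key _ 0 (by norm_num), (keyB _).1] at e0
    have hx := allBelow_eq_true.mp stage_ok.2.2.2.2.2.1 x.1.val x.1.isLt
    have hy := allBelow_eq_true.mp stage_ok.2.2.2.2.2.1 y.1.val y.1.isLt
    simp only [redAB, forceL_eq, Bool.and_eq_true] at hx hy
    rw [bp, app_eq _ (hWord_of_B hx.1).lt (base_lt (by norm_num)),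
      app_eq _ (hWord_of_B hy.1).lt (base_lt (by norm_num))] at e0
    have e1 : Data.fxU.getD x.1.val 0 = Data.fxU.getD y.1.val 0 :=
      ((Nat.eq_of_beq_eq_true hx.2).symm.trans e0).trans (Nat.eq_of_beq_eq_true hy.2)
    have hlen := stage_ok.2.1
    rw [List.getD_eq_getElem _ _ (hlen.symm ▸ x.1.isLt), List.getD_eq_getElem _ _ (hlen.symm ▸ y.1.isLt)] at e1
    exact Fin.ext ((List.Nodup.getElem_inj_iff stage_ok.2.2.1).mp e1)
  rw [ha] at h
  have h' := mul_left_cancel h
  have hb : x.2.1 = y.2.1 := by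
    have e0 := congrArg (fun g => (SuzOut.ι g (bp 1) : Fin 1782).val) h'
    simp only [map_mul, Equiv.Perm.mul_apply, key _ 1 (by norm_num), (keyB _).2] at e0
    have hlen := stage_ok.2.2.2.1
    rw [List.getD_eq_getElem _ _ (hlen.symm ▸ x.2.1.1.isLt),
      List.getD_eq_getElem _ _ (hlen.symm ▸ y.2.1.1.isLt)] at e0
    exact Subtype.ext (Fin.ext ((List.Nodup.getElem_inj_iff stage_ok.2.2.2.2.1).mp e0))
  rw [hb] at h'
  have h'' := mul_left_cancel h'
  have hc : x.2.2 = y.2.2 := by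
    have e0 := congrArg (fun g => (SuzOut.ι g (bp 2) : Fin 1782).val) h''
    have hel : ∀ z : CForm, ∀ l ∈ Data.els.get [] z.2.2.val, l < Data.k := fun z l hl =>
      (cWord_spec z).1.lt l (by simp [cWord, hl])
    replace e0 : elImg x.2.2.val = elImg y.2.2.val :=
      ((app_eq _ (hel x) (base_lt (r := 2) (by norm_num))).symm.trans e0).trans
        (app_eq _ (hel y) (base_lt (r := 2) (by norm_num)))
    have mono : ∀ j, j < 192 → ∀ i < j, elImg i < elImg j := by
      intro j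
      induction j with
      | zero => intro _ i hi; exact absurd hi (Nat.not_lt_zero i)
      | succ j ih =>
        intro hj i hi
        have h := allBelow_eq_true.mp stage_ok.2.2.2.2.2.2.2.2.2.2.2.2.2.2.1 (j + 1) hj
        simp only [elB, forceL_eq, Bool.and_eq_true, Bool.or_eq_true, Nat.blt_eq] at h
        have hlt : elImg j < elImg (j + 1) := h.2.resolve_left (by simp)
        rcases Nat.lt_succ_iff_lt_or_eq.mp hi with hi' | rfl
        · exact (ih (by omega) i hi').trans hlt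
        · exact hlt
    rcases Nat.lt_trichotomy x.2.2.val y.2.2.val with hlt | heq | hlt
    · exact absurd e0 (mono _ y.2.2.isLt _ hlt).ne
    · exact Fin.ext heq
    · exact absurd e0.symm (mono _ x.2.2.isLt _ hlt).ne
  exact Prod.ext ha (Prod.ext hb hc)

theorem card_cent : Nat.card (centralizer ({uE} : Set Spor.Suz)) = 161280 := by
  rw [← card_CForm]
  refine (Nat.card_congr (Equiv.ofBijective (fun x : CForm => (⟨evalW gen2 (cWord x),
    mem_centralizer_singleton_iff.mpr (cWord_spec x).1.comm⟩ : centralizer ({uE} : Set Spor.Suz)))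
    ⟨fun x y e => cWord_injective (congrArg Subtype.val e), fun g => ?_⟩)).symm
  obtain ⟨x, hx⟩ := exists_cWord (mem_centralizer_singleton_iff.mp g.2)
  exact ⟨x, Subtype.ext hx.symm⟩

end Cfsg.Agent.SuzInvol
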